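/-
The elements of the radical of the stabilizer of a point, as products of transvections, and their
action on a finite set: the invariants of an orbit of the radical and a lower bound for its size.
-/
import Cfsg.Agent.Lib.Classical.SpBasic

set_option autoImplicit false

namespace CfsgLib.SpMinIndex

open Matrix Cfsg CfsgLib.Classical

variable {F : Type*} [Field F] {m : ℕ}

/-- The element `z ↦ z + f(z,a) v + f(z,v) a + t f(z,v) v` (for `f(v,a) = 0`). -/
def eic (v a : Fin m ⊕ Fin m → F) (t : F) : symplecticGroup (Fin m) F :=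
  spT (v + a) 1 * spT v (t - 1) * spT a (-1)

theorem eic_apply {v a : Fin m ⊕ Fin m → F} (h : sympForm m F v a = 0) (t : F)
    (z : Fin m ⊕ Fin m → F) :
    (eic v a t).1 *ᵥ z = z + sympForm m F z a • v + sympForm m F z v • a +
      (t * sympForm m F z v) • v := by
  have h' : sympForm m F a v = 0 := by rw [sympForm_swap, h, neg_zero]
  simp only [eic, Submonoid.coe_mul, ← mulVec_mulVec, spT_apply, sympForm_add_left,
    sympForm_smul_left, sympForm_add_right, sympForm_self, h, h', mul_zero, add_zero,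
    smul_add]
  module

theorem eic_zero (v : Fin m ⊕ Fin m → F) (t : F) : eic v 0 t = spT v t := by
  refine sp_ext fun z => ?_
  rw [eic_apply (sympForm_zero_right v), spT_apply]
  simp

theorem eic_mul {v a b : Fin m ⊕ Fin m → F} (ha : sympForm m F v a = 0)
    (hb : sympForm m F v b = 0) (t s : F) :
    eic v a t * eic v b s = eic v (a + b) (t + s + sympForm m F b a) := by
  have hab : sympForm m F v (a + b) = 0 := by rw [sympForm_add_right, ha, hb, add_zero]
  have hbv : sympForm m F b v = 0 := by rw [sympForm_swap, hb, neg_zero]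
  refine sp_ext fun z => ?_
  rw [Submonoid.coe_mul, ← mulVec_mulVec, eic_apply ha, eic_apply hb, eic_apply hab]
  simp only [sympForm_add_left, sympForm_smul_left, sympForm_self, ha, hbv, mul_zero, add_zero,
    sympForm_add_right]
  module

theorem eic_inv {v a : Fin m ⊕ Fin m → F} (ha : sympForm m F v a = 0) (t : F) :
    (eic v a t)⁻¹ = eic v (-a) (-t) := by
  have ha' : sympForm m F v (-a) = 0 := by
    rw [← neg_one_smul F a, sympForm_smul_right, ha, mul_zero]
  refine inv_eq_of_mul_eq_one_right ?_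
  rw [eic_mul ha ha', ← neg_one_smul F a, sympForm_smul_left, sympForm_self]
  simp [eic_zero, spT_zero]

theorem eic_conj (g : symplecticGroup (Fin m) F) (v a : Fin m ⊕ Fin m → F) (t : F) :
    g * eic v a t * g⁻¹ = eic (g.1 *ᵥ v) (g.1 *ᵥ a) t := by
  simp only [eic, ← mulVec_add, ← spT_conj]
  group

theorem eic_conj' (g : symplecticGroup (Fin m) F) (v a : Fin m ⊕ Fin m → F) (t : F) :
    g * eic v a t = eic (g.1 *ᵥ v) (g.1 *ᵥ a) t * g := by
  rw [← eic_conj g, inv_mul_cancel_right]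

theorem eic_shift {v a : Fin m ⊕ Fin m → F} (ha : sympForm m F v a = 0) (r t : F) :
    eic v (a + r • v) t = eic v a (t + 2 * r) := by
  have h : sympForm m F v (a + r • v) = 0 := by
    rw [sympForm_add_right, ha, sympForm_smul_right, sympForm_self, mul_zero, add_zero]
  refine sp_ext fun z => ?_
  rw [eic_apply ha, eic_apply h, sympForm_add_right, sympForm_smul_right]
  module

/-! ### The orthogonal complement of a hyperbolic pair -/

/-- The vectors orthogonal to `v` and `v'`. -/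
def pairPerp (v v' : Fin m ⊕ Fin m → F) : Submodule F (Fin m ⊕ Fin m → F) :=
  LinearMap.ker (spBilin m F v) ⊓ LinearMap.ker (spBilin m F v')

theorem mem_pairPerp {v v' x : Fin m ⊕ Fin m → F} :
    x ∈ pairPerp v v' ↔ sympForm m F v x = 0 ∧ sympForm m F v' x = 0 := by
  simp [pairPerp]

/-- The group of elements fixing `v` and `v'`. -/
def leviStab (v v' : Fin m ⊕ Fin m → F) : Subgroup (symplecticGroup (Fin m) F) where
  carrier := {g | g.1 *ᵥ v = v ∧ g.1 *ᵥ v' = v'}
  mul_mem' := by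
    rintro a b ⟨ha, ha'⟩ ⟨hb, hb'⟩
    constructor <;> rw [Submonoid.coe_mul, ← mulVec_mulVec]
    · rw [hb, ha]
    · rw [hb', ha']
  one_mem' := by simp
  inv_mem' := by
    rintro a ⟨ha, ha'⟩
    constructor
    · conv_lhs => rw [← ha, sp_inv_mulVec]
    · conv_lhs => rw [← ha', sp_inv_mulVec]

theorem spT_mem_leviStab {v v' y : Fin m ⊕ Fin m → F} (hy : y ∈ pairPerp v v') (c : F) :
    spT y c ∈ leviStab v v' :=
  ⟨spT_fix (mem_pairPerp.1 hy).1 c, spT_fix (mem_pairPerp.1 hy).2 c⟩

theorem spTGroup_le_leviStab {v v' : Fin m ⊕ Fin m → F} :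
    spTGroup (pairPerp v v' : Set (Fin m ⊕ Fin m → F)) ≤ leviStab v v' := by
  rw [spTGroup, Subgroup.closure_le]
  rintro A ⟨y, hy, c, rfl⟩
  exact spT_mem_leviStab hy c

theorem levi_mem_pairPerp {v v' x : Fin m ⊕ Fin m → F} {g : symplecticGroup (Fin m) F}
    (hg : g ∈ leviStab v v') (hx : x ∈ pairPerp v v') : g.1 *ᵥ x ∈ pairPerp v v' := by
  rw [mem_pairPerp] at hx ⊢
  constructor
  · conv_lhs => rw [← hg.1, sp_form, hx.1]
  · conv_lhs => rw [← hg.2, sp_form, hx.2]

theorem perp_of_mem_pairPerp {v v' x : Fin m ⊕ Fin m → F} (hx : x ∈ pairPerp v v') :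
    sympForm m F v x = 0 := (mem_pairPerp.1 hx).1

/-- The component of `x ⊥ v` in the complement of the pair. -/
theorem exists_pairPerp_shift {v v' x : Fin m ⊕ Fin m → F} (h : sympForm m F v v' = 1)
    (hx : sympForm m F v x = 0) : x + sympForm m F v' x • v ∈ pairPerp v v' := by
  rw [mem_pairPerp]
  simp [sympForm_add_right, sympForm_smul_right, sympForm_self, hx, sympForm_swap v v', h]

theorem pairPerp_nondeg {v v' x : Fin m ⊕ Fin m → F} (h : sympForm m F v v' = 1)
    (hx : x ∈ pairPerp v v') (hx0 : x ≠ 0) :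
    ∃ z ∈ pairPerp v v', sympForm m F x z ≠ 0 := by
  obtain ⟨w, hw⟩ := exists_sympForm_ne_zero hx0
  obtain ⟨h1, h2⟩ := mem_pairPerp.1 hx
  refine ⟨w + sympForm m F v' w • v - sympForm m F v w • v', ?_, ?_⟩
  · rw [mem_pairPerp]
    simp [sympForm_add_right, sympForm_sub_right, sympForm_smul_right, sympForm_self,
      sympForm_swap v v', h]
  · simpa [sympForm_add_right, sympForm_sub_right, sympForm_smul_right,
      sympForm_swap v x, h1, sympForm_swap v' x, h2] using hw

/-! ### Invariants of a point of a `G`-set -/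

section action

variable {Ω : Type*} [MulAction (symplecticGroup (Fin m) F) Ω]
variable (v v' : Fin m ⊕ Fin m → F)

/-- The transvection parameters at `v` fixing `ω`. -/
def sFix (ω : Ω) : AddSubgroup F where
  carrier := {t | spT v t • ω = ω}
  zero_mem' := by simp [spT_zero]
  add_mem' {a b} ha hb := by
    show spT v (a + b) • ω = ω
    rw [← spT_mul, mul_smul, hb, ha]
  neg_mem' {a} ha := by
    show spT v (-a) • ω = ω
    rw [← spT_inv, inv_smul_eq_iff, ha]

theorem mem_sFix {ω : Ω} {t : F} : t ∈ sFix v ω ↔ spT v t • ω = ω := Iff.rfl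

/-- The images in the complement of the elements of the radical fixing `ω`. -/
def aFix (ω : Ω) : AddSubgroup (Fin m ⊕ Fin m → F) where
  carrier := {a | a ∈ pairPerp v v' ∧ ∃ t, eic v a t • ω = ω}
  zero_mem' := ⟨Submodule.zero_mem _, 0, by simp [eic_zero, spT_zero]⟩
  add_mem' := by
    rintro a b ⟨ha, t, hat⟩ ⟨hb, s, hbs⟩
    refine ⟨Submodule.add_mem _ ha hb, t + s + sympForm m F b a, ?_⟩
    rw [← eic_mul (perp_of_mem_pairPerp ha) (perp_of_mem_pairPerp hb), mul_smul, hbs, hat]
  neg_mem' := by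
    rintro a ⟨ha, t, hat⟩
    refine ⟨Submodule.neg_mem _ ha, -t, ?_⟩
    rw [← eic_inv (perp_of_mem_pairPerp ha), inv_smul_eq_iff, hat]

theorem mem_aFix {ω : Ω} {a : Fin m ⊕ Fin m → F} :
    a ∈ aFix v v' ω ↔ a ∈ pairPerp v v' ∧ ∃ t, eic v a t • ω = ω := Iff.rfl

theorem aFix_le (ω : Ω) : aFix v v' ω ≤ (pairPerp v v').toAddSubgroup := fun _ h => h.1

/-- Membership in the orbit of `ω` under the radical. -/
def SameRad (ω ω' : Ω) : Prop := ∃ a ∈ pairPerp v v', ∃ t, eic v a t • ω = ω'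

variable {v v'}

theorem SameRad.symm {ω ω' : Ω} (h : SameRad v v' ω ω') : SameRad v v' ω' ω := by
  obtain ⟨a, ha, t, rfl⟩ := h
  refine ⟨-a, Submodule.neg_mem _ ha, -t, ?_⟩
  rw [← eic_inv (perp_of_mem_pairPerp ha), inv_smul_smul]

theorem SameRad.trans {ω ω' ω'' : Ω} (h : SameRad v v' ω ω') (h' : SameRad v v' ω' ω'') :
    SameRad v v' ω ω'' := by
  obtain ⟨a, ha, t, rfl⟩ := h
  obtain ⟨b, hb, s, rfl⟩ := h'
  refine ⟨b + a, Submodule.add_mem _ hb ha, s + t + sympForm m F a b, ?_⟩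
  rw [← eic_mul (perp_of_mem_pairPerp hb) (perp_of_mem_pairPerp ha), mul_smul]

theorem sFix_eic {a : Fin m ⊕ Fin m → F} (ha : a ∈ pairPerp v v') (t : F) (ω : Ω) :
    sFix v (eic v a t • ω) = sFix v ω := by
  ext s
  have hc : spT v s * eic v a t = eic v a t * spT v s := by
    rw [← eic_zero, eic_mul (sympForm_zero_right v) (perp_of_mem_pairPerp ha),
      eic_mul (perp_of_mem_pairPerp ha) (sympForm_zero_right v)]
    simp [add_comm]
  rw [mem_sFix, mem_sFix, ← mul_smul, hc, mul_smul, smul_left_cancel_iff]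

theorem aFix_eic {a : Fin m ⊕ Fin m → F} (ha : a ∈ pairPerp v v') (t : F) (ω : Ω) :
    aFix v v' (eic v a t • ω) = aFix v v' ω := by
  suffices key : ∀ {a : Fin m ⊕ Fin m → F}, a ∈ pairPerp v v' → ∀ (t : F) (ω : Ω),
      aFix v v' ω ≤ aFix v v' (eic v a t • ω) by
    refine le_antisymm ?_ (key ha t ω)
    have := key (Submodule.neg_mem _ ha) (-t) (eic v a t • ω)
    rwa [← eic_inv (perp_of_mem_pairPerp ha), inv_smul_smul] at this
  rintro a ha t ω b ⟨hb, s, hbs⟩
  have hav := perp_of_mem_pairPerp ha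
  have hbv := perp_of_mem_pairPerp hb
  refine ⟨hb, s + 2 * sympForm m F b a, ?_⟩
  have hc : eic v b (s + 2 * sympForm m F b a) * eic v a t = eic v a t * eic v b s := by
    rw [eic_mul hbv hav, eic_mul hav hbv, add_comm a b, sympForm_swap b a]
    congr 1
    ring
  rw [← mul_smul, hc, mul_smul, hbs]

theorem SameRad.aFix_eq {ω ω' : Ω} (h : SameRad v v' ω ω') : aFix v v' ω = aFix v v' ω' := by
  obtain ⟨a, ha, t, rfl⟩ := h
  exact (aFix_eic ha t ω).symm

theorem SameRad.sFix_eq {ω ω' : Ω} (h : SameRad v v' ω ω') : sFix v ω = sFix v ω' := by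
  obtain ⟨a, ha, t, rfl⟩ := h
  exact (sFix_eic ha t ω).symm

theorem mem_aFix_smul {g : symplecticGroup (Fin m) F} (hg : g ∈ leviStab v v') {ω : Ω}
    {a : Fin m ⊕ Fin m → F} (ha : a ∈ aFix v v' ω) : g.1 *ᵥ a ∈ aFix v v' (g • ω) := by
  obtain ⟨ha, t, hat⟩ := ha
  refine ⟨levi_mem_pairPerp hg ha, t, ?_⟩
  rw [← mul_smul, ← hg.1, ← eic_conj', mul_smul, hat]

theorem mem_aFix_smul_iff {g : symplecticGroup (Fin m) F} (hg : g ∈ leviStab v v') {ω : Ω}
    {a : Fin m ⊕ Fin m → F} : g.1 *ᵥ a ∈ aFix v v' (g • ω) ↔ a ∈ aFix v v' ω := by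
  refine ⟨fun h => ?_, mem_aFix_smul hg⟩
  have := mem_aFix_smul (inv_mem hg) h
  rwa [sp_inv_mulVec, inv_smul_smul] at this

theorem sFix_smul (g : symplecticGroup (Fin m) F) (v : Fin m ⊕ Fin m → F) (ω : Ω) :
    sFix (g.1 *ᵥ v) (g • ω) = sFix v ω := by
  ext t
  rw [mem_sFix, mem_sFix, ← spT_conj, ← mul_smul, inv_mul_cancel_right, mul_smul,
    smul_left_cancel_iff]

/-- An orbit of the radical has at least `[W : A] [F : S]` points. -/
theorem card_radOrbit_ge [Finite Ω] [Finite F] (ω : Ω) :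
    ((aFix v v' ω).addSubgroupOf (pairPerp v v').toAddSubgroup).index * (sFix v ω).index ≤
      Nat.card {ω' : Ω // SameRad v v' ω ω'} := by
  rw [AddSubgroup.index, AddSubgroup.index, ← Nat.card_prod]
  let φ : (((pairPerp v v').toAddSubgroup) ⧸ (aFix v v' ω).addSubgroupOf (pairPerp v v').toAddSubgroup) ×
      (F ⧸ sFix v ω) → {ω' : Ω // SameRad v v' ω ω'} :=
    fun p => ⟨eic v p.1.out.1 p.2.out • ω, p.1.out.1, p.1.out.2, p.2.out, rfl⟩
  refine Nat.card_le_card_of_injective φ ?_
  rintro ⟨x, y⟩ ⟨x', y'⟩ h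
  have hx := perp_of_mem_pairPerp x.out.2
  have hx' := perp_of_mem_pairPerp x'.out.2
  have hfix : eic v (-x.out.1 + x'.out.1) (-y.out + y'.out + sympForm m F x'.out.1 (-x.out.1)) • ω
      = ω := by
    rw [← eic_mul (by rw [← neg_one_smul F x.out.1, sympForm_smul_right, hx, mul_zero]) hx',
      mul_smul, ← eic_inv hx, inv_smul_eq_iff]
    exact (congrArg Subtype.val h).symm
  have hxe : x = x' := by
    have hmem : -x.out.1 + x'.out.1 ∈ aFix v v' ω :=
      ⟨Submodule.add_mem _ (Submodule.neg_mem _ x.out.2) x'.out.2, _, hfix⟩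
    rw [← QuotientAddGroup.out_eq' x, ← QuotientAddGroup.out_eq' x', QuotientAddGroup.eq]
    exact hmem
  subst hxe
  have hye : y = y' := by
    rw [← QuotientAddGroup.out_eq' y, ← QuotientAddGroup.out_eq' y', QuotientAddGroup.eq]
    show spT v (-y.out + y'.out) • ω = ω
    rw [← eic_zero]
    rw [neg_add_cancel, ← neg_one_smul F x.out.1, sympForm_smul_right, sympForm_self, mul_zero,
      add_zero] at hfix
    exact hfix
  rw [hye]

end action

end CfsgLib.SpMinIndex
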