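/-
Transitivity of the group of transvections of the complement of a hyperbolic pair, and lower bounds
for the number of images of an additive subgroup of the complement.
-/
import Cfsg.Agent.Lib.SpMinIndex.Eichler

set_option autoImplicit false

namespace CfsgLib.SpMinIndex

open Matrix Cfsg CfsgLib.Classical

variable {F : Type*} [Field F] {m : ℕ}
variable {v v' : Fin m ⊕ Fin m → F}

/-- The group generated by the transvections of the complement. -/
def wGroup (v v' : Fin m ⊕ Fin m → F) : Subgroup (symplecticGroup (Fin m) F) :=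
  spTGroup (pairPerp v v' : Set (Fin m ⊕ Fin m → F))

theorem wGroup_le (v v' : Fin m ⊕ Fin m → F) : wGroup v v' ≤ leviStab v v' :=
  spTGroup_le_leviStab

theorem exists_wGroup_move (h : sympForm m F v v' = 1) {x y : Fin m ⊕ Fin m → F}
    (hx : x ∈ pairPerp v v') (hy : y ∈ pairPerp v v') (hx0 : x ≠ 0) (hy0 : y ≠ 0) :
    ∃ g ∈ wGroup v v', g.1 *ᵥ x = y :=
  exists_spTGroup_move _ hx hy (pairPerp_nondeg h hx hx0) (pairPerp_nondeg h hy hy0)

/-- A vector of the complement orthogonal to `w` but not to `z`, for `z` outside the line of `w`. -/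
theorem exists_perp_ne (h : sympForm m F v v' = 1) {w z : Fin m ⊕ Fin m → F}
    (hw : w ∈ pairPerp v v') (hw0 : w ≠ 0) (hz : z ∈ pairPerp v v') (hzw : ∀ c : F, z ≠ c • w) :
    ∃ y ∈ pairPerp v v', sympForm m F w y = 0 ∧ sympForm m F z y ≠ 0 := by
  by_contra hc
  push Not at hc
  obtain ⟨p, hp, hwp⟩ := pairPerp_nondeg h hw hw0
  set p' := (sympForm m F w p)⁻¹ • p
  have hp' : p' ∈ pairPerp v v' := Submodule.smul_mem _ _ hp
  have hwp' : sympForm m F w p' = 1 := by
    rw [sympForm_smul_right, inv_mul_cancel₀ hwp]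
  refine hzw (sympForm m F z p') (sub_eq_zero.1 ?_)
  by_contra hne
  obtain ⟨y, hy, hfy⟩ := pairPerp_nondeg h (Submodule.sub_mem _ hz (Submodule.smul_mem _ _ hw)) hne
  have := hc (y - sympForm m F w y • p') (Submodule.sub_mem _ hy (Submodule.smul_mem _ _ hp'))
    (by simp [sympForm_sub_right, sympForm_smul_right, hwp'])
  apply hfy
  rw [sympForm_sub_left, sympForm_smul_left]
  rw [sympForm_sub_right, sympForm_smul_right] at this
  linear_combination this

/-- The fixer of `w` is transitive on the vectors outside the line of `w` with given product. -/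
theorem exists_wGroup_move_fix (h : sympForm m F v v' = 1) {w z x : Fin m ⊕ Fin m → F}
    (hw : w ∈ pairPerp v v') (hw0 : w ≠ 0) (hz : z ∈ pairPerp v v') (hx : x ∈ pairPerp v v')
    (hzx : sympForm m F w z = sympForm m F w x) (hzw : ∀ c : F, z ≠ c • w)
    (hxw : ∀ c : F, x ≠ c • w) :
    ∃ g ∈ wGroup v v', g.1 *ᵥ w = w ∧ g.1 *ᵥ z = x := by
  by_cases hs : sympForm m F w z = 0
  · let W' := pairPerp v v' ⊓ LinearMap.ker (spBilin m F w)
    have hW' : ∀ {u : Fin m ⊕ Fin m → F},
        u ∈ W' ↔ u ∈ pairPerp v v' ∧ sympForm m F w u = 0 := by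
      intro u; simp [W']
    obtain ⟨g, hg, hgx⟩ := exists_spTGroup_move W' (hW'.2 ⟨hz, hs⟩) (hW'.2 ⟨hx, hzx ▸ hs⟩)
      (by obtain ⟨y, hy, h1, h2⟩ := exists_perp_ne h hw hw0 hz hzw; exact ⟨y, hW'.2 ⟨hy, h1⟩, h2⟩)
      (by obtain ⟨y, hy, h1, h2⟩ := exists_perp_ne h hw hw0 hx hxw; exact ⟨y, hW'.2 ⟨hy, h1⟩, h2⟩)
    exact ⟨g, spTGroup_mono (fun u hu => (hW'.1 hu).1) hg,
      spTGroup_fix (fun u hu => (hW'.1 hu).2) hg, hgx⟩
  · set s := sympForm m F w z
    obtain ⟨g, hg, hgw, hgz⟩ := exists_spTGroup_move_pair (pairPerp v v') hw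
      (Submodule.smul_mem _ s⁻¹ hz) hw (Submodule.smul_mem _ s⁻¹ hx)
      (by rw [sympForm_smul_right, inv_mul_cancel₀ hs])
      (by rw [sympForm_smul_right, ← hzx, inv_mul_cancel₀ hs])
    refine ⟨g, hg, hgw, ?_⟩
    rw [mulVec_smul] at hgz
    exact smul_right_injective _ (inv_ne_zero hs) hgz

variable [Finite F]

theorem card_pairPerp (h : sympForm m F v v' = 1) :
    Nat.card (pairPerp v v') = Nat.card F ^ (2 * m - 2) ∧ 1 ≤ m := by
  let L : (Fin m ⊕ Fin m → F) →ₗ[F] F × F := (spBilin m F v).prod (spBilin m F v')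
  have hL : Function.Surjective L := fun p => ⟨p.1 • v' - p.2 • v, by
    simp [L, sympForm_sub_right, sympForm_smul_right, sympForm_self, sympForm_swap v v', h]⟩
  have hk : LinearMap.ker L = pairPerp v v' := by
    rw [LinearMap.ker_prod, pairPerp]
  have hr := LinearMap.finrank_range_add_finrank_ker L
  rw [LinearMap.range_eq_top.2 hL, finrank_top, Module.finrank_prod, Module.finrank_self, hk,
    Module.finrank_pi, Fintype.card_sum, Fintype.card_fin] at hr
  refine ⟨?_, by omega⟩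
  rw [Module.natCard_eq_pow_finrank (K := F)]
  congr 1
  omega

theorem card_slice (h : sympForm m F v v' = 1) {w : Fin m ⊕ Fin m → F} (hw : w ∈ pairPerp v v')
    (hw0 : w ≠ 0) (s : F) :
    Nat.card {x : Fin m ⊕ Fin m → F // x ∈ pairPerp v v' ∧ sympForm m F w x = s} * Nat.card F =
      Nat.card (pairPerp v v') := by
  obtain ⟨p, hp, hwp⟩ := pairPerp_nondeg h hw hw0
  rw [← Nat.card_prod]
  refine Nat.card_congr
    { toFun := fun q => ⟨q.1.1 + q.2 • p, Submodule.add_mem _ q.1.2.1 (Submodule.smul_mem _ _ hp)⟩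
      invFun := fun x =>
        ⟨⟨x.1 - ((sympForm m F w x.1 - s) / sympForm m F w p) • p,
          Submodule.sub_mem _ x.2 (Submodule.smul_mem _ _ hp), by
            rw [sympForm_sub_right, sympForm_smul_right, div_mul_cancel₀ _ hwp]; ring⟩,
          (sympForm m F w x.1 - s) / sympForm m F w p⟩
      left_inv := ?_
      right_inv := ?_ }
  · rintro ⟨⟨x, hx, hxs⟩, c⟩
    have e : (sympForm m F w (x + c • p) - s) / sympForm m F w p = c := by
      rw [sympForm_add_right, sympForm_smul_right, hxs, add_sub_cancel_left, mul_div_cancel_right₀ _ hwp]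
    simp only [Prod.mk.injEq, Subtype.mk.injEq]
    exact ⟨by rw [e, add_sub_cancel_right], e⟩
  · rintro ⟨x, hx⟩
    simp

/-- The images of a set under the transvections of the complement. -/
def imgFamily (v v' : Fin m ⊕ Fin m → F) (C : Set (Fin m ⊕ Fin m → F)) :
    Set (Set (Fin m ⊕ Fin m → F)) :=
  {D | ∃ g ∈ wGroup v v', (fun x => g.1 *ᵥ x) '' C = D}

theorem card_le_of_mem_imgFamily {C D : Set (Fin m ⊕ Fin m → F)} (hD : D ∈ imgFamily v v' C) :
    Nat.card D = Nat.card C := by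
  obtain ⟨g, -, rfl⟩ := hD
  exact Nat.card_image_of_injective (sp_mulVec_injective g) C

theorem mul_imgFamily {C D : Set (Fin m ⊕ Fin m → F)} (hD : D ∈ imgFamily v v' C)
    {k : symplecticGroup (Fin m) F} (hk : k ∈ wGroup v v') :
    (fun x => k.1 *ᵥ x) '' D ∈ imgFamily v v' C := by
  obtain ⟨g, hg, rfl⟩ := hD
  refine ⟨k * g, mul_mem hk hg, ?_⟩
  rw [Set.image_image]
  simp [Submonoid.coe_mul, mulVec_mulVec]

open scoped _root_.Classical in
/-- Double counting: every non-zero vector lies in the same number `c` of images, and the images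
through `w` cover the orbit of `z` under the fixer of `w`. -/
theorem exists_multiplicity (h : sympForm m F v v' = 1) (C : AddSubgroup (Fin m ⊕ Fin m → F))
    {w : Fin m ⊕ Fin m → F} (hwC : w ∈ C) (hw : w ∈ pairPerp v v') (hw0 : w ≠ 0) :
    ∃ c, 1 ≤ c ∧
      c * (Nat.card (pairPerp v v') - 1) ≤
        Nat.card (imgFamily v v' (C : Set (Fin m ⊕ Fin m → F))) * (Nat.card C - 1) ∧
      ∀ (O : Set (Fin m ⊕ Fin m → F)),
        (∀ x ∈ O, ∃ g ∈ wGroup v v', g.1 *ᵥ w = w ∧ ∃ z ∈ C, g.1 *ᵥ z = x) →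
        ∀ K, (∀ D ∈ imgFamily v v' (C : Set (Fin m ⊕ Fin m → F)), w ∈ D → Nat.card ↥(O ∩ D) ≤ K) →
        Nat.card O ≤ c * K := by
  let _ : Fintype F := Fintype.ofFinite F
  set ℬ := (imgFamily v v' (C : Set (Fin m ⊕ Fin m → F))).toFinset with hℬ
  set W : Finset (Fin m ⊕ Fin m → F) :=
    Finset.univ.filter (fun x => x ∈ pairPerp v v' ∧ x ≠ 0) with hW
  set c := (ℬ.filter (fun D => w ∈ D)).card
  have hmult : ∀ x ∈ W, c ≤ (ℬ.filter (fun D => x ∈ D)).card := by
    intro x hx
    obtain ⟨-, hx1, hx2⟩ := Finset.mem_filter.1 hx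
    obtain ⟨g, hg, hgx⟩ := exists_wGroup_move h hw hx1 hw0 hx2
    refine Finset.card_le_card_of_injOn (fun D => (fun y => g.1 *ᵥ y) '' D) ?_ ?_
    · intro D hD
      simp only [hℬ, Finset.coe_filter, Set.mem_ofPred_eq, Set.mem_toFinset] at hD ⊢
      exact ⟨mul_imgFamily hD.1 hg, w, hD.2, hgx⟩
    · exact (Set.image_injective.2 (sp_mulVec_injective g)).injOn
  refine ⟨c, ?_, ?_, ?_⟩
  · exact Finset.card_pos.2 ⟨(C : Set (Fin m ⊕ Fin m → F)), Finset.mem_filter.2
      ⟨Set.mem_toFinset.2 ⟨1, one_mem _, by simp⟩, hwC⟩⟩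
  · have hWc : W.card = Nat.card (pairPerp v v') - 1 := by
      have : W = (Finset.univ.filter (fun x => x ∈ pairPerp v v')).erase 0 := by
        ext x; simp [hW, and_comm]
      rw [this, Finset.card_erase_of_mem (by simp), Nat.card_eq_fintype_card, Fintype.card_subtype]
    have hD : ∀ D ∈ ℬ, (W.filter (fun x => x ∈ D)).card ≤ Nat.card C - 1 := by
      intro D hD
      rw [Set.mem_toFinset] at hD
      have hcard := card_le_of_mem_imgFamily hD
      have hsub : W.filter (fun x => x ∈ D) ⊆ (Finset.univ.filter (· ∈ D)).erase 0 := by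
        intro x hx
        simp only [Finset.mem_filter, hW] at hx
        simp [hx.2, hx.1.2.2]
      have h0 : (0 : Fin m ⊕ Fin m → F) ∈ Finset.univ.filter (· ∈ D) := by
        obtain ⟨g, -, rfl⟩ := hD
        exact Finset.mem_filter.2 ⟨Finset.mem_univ _, 0, C.zero_mem, by simp⟩
      refine (Finset.card_le_card hsub).trans ?_
      rw [Finset.card_erase_of_mem h0, ← Fintype.card_subtype, ← Nat.card_eq_fintype_card]
      exact le_of_eq (congrArg (· - 1) hcard)
    calc c * (Nat.card (pairPerp v v') - 1) = ∑ x ∈ W, c := by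
          rw [Finset.sum_const, smul_eq_mul, hWc, mul_comm]
      _ ≤ ∑ x ∈ W, (ℬ.filter (fun D => x ∈ D)).card := Finset.sum_le_sum hmult
      _ = ∑ D ∈ ℬ, (W.filter (fun x => x ∈ D)).card := by
          simp only [Finset.card_filter]; exact Finset.sum_comm
      _ ≤ ℬ.card * (Nat.card C - 1) := by
          rw [← smul_eq_mul]; exact Finset.sum_le_card_nsmul _ _ _ hD
      _ = _ := by rw [hℬ, Set.toFinset_card, ← Nat.card_eq_fintype_card]
  · intro O hO K hK
    calc Nat.card O = O.toFinset.card := by rw [Set.toFinset_card, ← Nat.card_eq_fintype_card]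
      _ ≤ ((ℬ.filter (fun D => w ∈ D)).biUnion
          (fun D => Finset.univ.filter (· ∈ O ∩ D))).card := by
          refine Finset.card_le_card ?_
          intro x hx
          rw [Set.mem_toFinset] at hx
          obtain ⟨g, hg, hgw, z, hz, rfl⟩ := hO x hx
          refine Finset.mem_biUnion.2 ⟨(fun y => g.1 *ᵥ y) '' (C : Set (Fin m ⊕ Fin m → F)), ?_, ?_⟩
          · exact Finset.mem_filter.2 ⟨Set.mem_toFinset.2 ⟨g, hg, rfl⟩, w, hwC, hgw⟩
          · exact Finset.mem_filter.2 ⟨Finset.mem_univ _, hx, z, hz, rfl⟩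
      _ ≤ ∑ D ∈ ℬ.filter (fun D => w ∈ D), (Finset.univ.filter (· ∈ O ∩ D)).card :=
          Finset.card_biUnion_le
      _ ≤ c * K := by
          rw [← smul_eq_mul]
          refine Finset.sum_le_card_nsmul _ _ _ fun D hD => ?_
          rw [Finset.mem_filter, Set.mem_toFinset] at hD
          rw [← Fintype.card_subtype, ← Nat.card_eq_fintype_card]
          exact hK D hD.1 hD.2

/-- An additive subgroup not in a line, of order at most `q^(m-1)`, has many images (`m ≥ 3`). -/
theorem imgFamily_bound (h : sympForm m F v v' = 1) (hm : 3 ≤ m)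
    (C : AddSubgroup (Fin m ⊕ Fin m → F)) (hC : ∀ x ∈ C, x ∈ pairPerp v v')
    (hcard : Nat.card C ≤ Nat.card F ^ (m - 1))
    {w z : Fin m ⊕ Fin m → F} (hwC : w ∈ C) (hw0 : w ≠ 0) (hzC : z ∈ C)
    (hzw : ∀ c : F, z ≠ c • w) :
    Nat.card F * (Nat.card (pairPerp v v') - 1) ≤
      Nat.card (imgFamily v v' (C : Set (Fin m ⊕ Fin m → F))) * (Nat.card C - 1) := by
  classical
  let _ : Fintype F := Fintype.ofFinite F
  obtain ⟨c, -, h1, h2⟩ := exists_multiplicity h C hwC (hC w hwC) hw0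
  set q := Nat.card F with hqdef
  have hq : 2 ≤ q := Finite.one_lt_card
  set s := sympForm m F w z
  set O : Set (Fin m ⊕ Fin m → F) :=
    {x | x ∈ pairPerp v v' ∧ sympForm m F w x = s ∧ ∀ a : F, x ≠ a • w}
  have hO : Nat.card O ≤ c * Nat.card C := by
    refine h2 O ?_ _ fun D hD _ => ?_
    · rintro x ⟨hx, hxs, hxw⟩
      obtain ⟨g, hg, hgw, hgz⟩ :=
        exists_wGroup_move_fix h (hC w hwC) hw0 (hC z hzC) hx hxs.symm hzw hxw
      exact ⟨g, hg, hgw, z, hzC, hgz⟩
    · exact (Nat.card_mono (Set.toFinite D) Set.inter_subset_right).trans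
        (card_le_of_mem_imgFamily hD).le
  have hslice := card_slice h (hC w hwC) hw0 s
  rw [(card_pairPerp h).1] at hslice
  have hge : Nat.card {x : Fin m ⊕ Fin m → F // x ∈ pairPerp v v' ∧ sympForm m F w x = s} ≤
      Nat.card O + q := by
    have hu : Nat.card (F ⊕ O) = q + Nat.card O := by rw [Nat.card_sum]
    rw [add_comm, ← hu]
    refine Nat.card_le_card_of_surjective (fun u : F ⊕ O => ?_) ?_
    · exact match u with
        | .inl a => if ha : a • w ∈ pairPerp v v' ∧ sympForm m F w (a • w) = s then ⟨_, ha⟩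
            else ⟨z, hC z hzC, rfl⟩
        | .inr x => ⟨x.1, x.2.1, x.2.2.1⟩
    · rintro ⟨x, hx, hxs⟩
      by_cases hex : ∃ a : F, x = a • w
      · obtain ⟨a, rfl⟩ := hex
        exact ⟨.inl a, by simp only [dif_pos (show a • w ∈ pairPerp v v' ∧ _ from ⟨hx, hxs⟩)]⟩
      · push Not at hex
        exact ⟨.inr ⟨x, hx, hxs, hex⟩, rfl⟩
  have hc : q ≤ c := by
    by_contra hlt
    push Not at hlt
    obtain ⟨k, rfl⟩ : ∃ k, m = k + 3 := ⟨m - 3, by omega⟩
    obtain ⟨r, hr⟩ : ∃ r, q = r + 1 := ⟨q - 1, by omega⟩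
    have e : 2 * (k + 3) - 2 = (2 * k + 3) + 1 := by omega
    rw [e, pow_succ] at hslice
    have hsl := Nat.eq_of_mul_eq_mul_right (show 0 < q by omega) hslice
    have hk : k + 3 - 1 = k + 2 := by omega
    rw [hk] at hcard
    have h3 : q ^ (2 * k + 3) ≤ r * q ^ (k + 2) + q := by
      rw [← hsl]
      refine hge.trans (Nat.add_le_add_right (hO.trans ?_) q)
      exact Nat.mul_le_mul (by omega) hcard
    have h4 : q ^ (k + 3) ≤ q ^ (2 * k + 3) := Nat.pow_le_pow_right (by omega) (by omega)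
    have h5 : q ^ 2 ≤ q ^ (k + 2) := Nat.pow_le_pow_right (by omega) (by omega)
    have h6 : q ^ (k + 3) = r * q ^ (k + 2) + q ^ (k + 2) := by rw [pow_succ, hr]; ring
    have h7 : q < q ^ 2 := by nlinarith
    omega
  exact (Nat.mul_le_mul_right _ hc).trans h1

/-- An additive subgroup has at least `(|W| - 1) / (|C| - 1)` images. -/
theorem imgFamily_bound_one (h : sympForm m F v v' = 1) (C : AddSubgroup (Fin m ⊕ Fin m → F))
    (hC : ∀ x ∈ C, x ∈ pairPerp v v') (hC0 : C ≠ ⊥) :
    Nat.card (pairPerp v v') - 1 ≤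
      Nat.card (imgFamily v v' (C : Set (Fin m ⊕ Fin m → F))) * (Nat.card C - 1) := by
  obtain ⟨w, hwC, hw0⟩ := (C.bot_or_exists_ne_zero).resolve_left hC0
  obtain ⟨c, hc, h1, -⟩ := exists_multiplicity h C hwC (hC w hwC) hw0
  exact (Nat.le_mul_of_pos_left _ hc).trans h1

end CfsgLib.SpMinIndex
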