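/-
The annihilator of an additive subgroup of the complement of a hyperbolic pair for the form
`(x, y) ↦ trace (f (x, y))` over the prime field.
-/
import Cfsg.Agent.Lib.SpMinIndex.Covering

set_option autoImplicit false

namespace CfsgLib.SpMinIndex

open Matrix Cfsg CfsgLib.Classical

variable {F : Type*} [Field F] {m : ℕ} (p : ℕ) [Fact p.Prime] [Algebra (ZMod p) F]
variable (v v' : Fin m ⊕ Fin m → F)

/-- The vectors of the complement whose product with `A` has trace zero. -/
def dualIn (A : AddSubgroup (Fin m ⊕ Fin m → F)) : AddSubgroup (Fin m ⊕ Fin m → F) where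
  carrier := {b | b ∈ pairPerp v v' ∧ ∀ a ∈ A, Algebra.trace (ZMod p) F (sympForm m F b a) = 0}
  zero_mem' := ⟨Submodule.zero_mem _, fun a _ => by rw [sympForm_zero_left, map_zero]⟩
  add_mem' := fun ⟨h1, h2⟩ ⟨h3, h4⟩ => ⟨Submodule.add_mem _ h1 h3, fun a ha => by
    rw [sympForm_add_left, map_add, h2 a ha, h4 a ha, add_zero]⟩
  neg_mem' := fun {x} ⟨h1, h2⟩ => ⟨Submodule.neg_mem _ h1, fun a ha => by
    rw [← neg_one_smul F x, sympForm_smul_left, neg_one_mul, map_neg, h2 a ha, neg_zero]⟩

theorem mem_dualIn {A : AddSubgroup (Fin m ⊕ Fin m → F)} {b : Fin m ⊕ Fin m → F} :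
    b ∈ dualIn p v v' A ↔
      b ∈ pairPerp v v' ∧ ∀ a ∈ A, Algebra.trace (ZMod p) F (sympForm m F b a) = 0 := Iff.rfl

theorem dualIn_le (A : AddSubgroup (Fin m ⊕ Fin m → F)) :
    dualIn p v v' A ≤ (pairPerp v v').toAddSubgroup := fun _ h => h.1

/-- The trace form on the complement. -/
noncomputable def traceForm : LinearMap.BilinForm (ZMod p) (pairPerp v v') :=
  LinearMap.mk₂ (ZMod p) (fun x y => Algebra.trace (ZMod p) F (sympForm m F x y))
    (fun x y z => by rw [Submodule.coe_add, sympForm_add_left, map_add])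
    (fun c x y => by
      rw [Submodule.coe_smul_of_tower, ← algebraMap_smul F c (x : Fin m ⊕ Fin m → F),
        sympForm_smul_left, ← Algebra.smul_def, map_smul])
    (fun x y z => by rw [Submodule.coe_add, sympForm_add_right, map_add])
    (fun c x y => by
      rw [Submodule.coe_smul_of_tower, ← algebraMap_smul F c (y : Fin m ⊕ Fin m → F),
        sympForm_smul_right, ← Algebra.smul_def, map_smul])

variable {p v v'}

theorem traceForm_apply (x y : pairPerp v v') :
    traceForm p v v' x y = Algebra.trace (ZMod p) F (sympForm m F x y) := rfl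

theorem traceForm_isRefl : (traceForm p v v').IsRefl := fun x y h => by
  rw [traceForm_apply] at h
  rw [traceForm_apply, sympForm_swap (x : Fin m ⊕ Fin m → F), map_neg, h, neg_zero]

variable [Finite F]

theorem exists_trace_ne : ∃ a : F, Algebra.trace (ZMod p) F a ≠ 0 := by
  by_contra hc
  push Not at hc
  exact Algebra.trace_ne_zero (ZMod p) F (LinearMap.ext fun a => by simpa using hc a)

theorem traceForm_nondegenerate (h : sympForm m F v v' = 1) :
    (traceForm p v v').Nondegenerate := by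
  have left : ∀ x : pairPerp v v', (∀ y, traceForm p v v' x y = 0) → x = 0 := by
    intro x hx
    by_contra hne
    obtain ⟨z, hz, hxz⟩ := pairPerp_nondeg h x.2 (fun e => hne (Subtype.ext e))
    obtain ⟨a, ha⟩ := exists_trace_ne (F := F) (p := p)
    refine ha ?_
    have := hx ⟨(a / sympForm m F x z) • z, Submodule.smul_mem _ _ hz⟩
    rwa [traceForm_apply, sympForm_smul_right, div_mul_cancel₀ _ hxz] at this
  exact ⟨left, fun y hy => left y fun x => traceForm_isRefl _ _ (hy x)⟩

/-- The restriction of an additive subgroup to the complement, over the prime field. -/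
noncomputable def inW (A : AddSubgroup (Fin m ⊕ Fin m → F)) :
    Submodule (ZMod p) (pairPerp v v') :=
  AddSubgroup.toZModSubmodule p (A.addSubgroupOf (pairPerp v v').toAddSubgroup)

theorem mem_inW {A : AddSubgroup (Fin m ⊕ Fin m → F)} {x : pairPerp v v'} :
    x ∈ (inW A : Submodule (ZMod p) (pairPerp v v')) ↔ (x : Fin m ⊕ Fin m → F) ∈ A := Iff.rfl

omit [Finite F] in
theorem card_inW {A : AddSubgroup (Fin m ⊕ Fin m → F)} (hA : A ≤ (pairPerp v v').toAddSubgroup) :
    Nat.card (inW A : Submodule (ZMod p) (pairPerp v v')) = Nat.card A :=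
  Nat.card_congr (AddSubgroup.addSubgroupOfEquivOfLe hA).toEquiv

omit [Finite F] in
theorem orthogonal_inW (A : AddSubgroup (Fin m ⊕ Fin m → F))
    (hA : A ≤ (pairPerp v v').toAddSubgroup) :
    (traceForm p v v').orthogonal (inW A) = inW (dualIn p v v' A) := by
  ext x
  simp only [LinearMap.BilinForm.mem_orthogonal_iff, mem_inW, mem_dualIn, LinearMap.BilinForm.isOrtho_def]
  constructor
  · intro hx
    exact ⟨x.2, fun a ha => traceForm_isRefl (⟨a, hA ha⟩ : pairPerp v v') x (hx ⟨a, hA ha⟩ ha)⟩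
  · intro hx a ha
    exact traceForm_isRefl x a (hx.2 a.1 ha)

variable (p)

/-- `|A| |A^⊥| = |W|`. -/
theorem card_mul_card_dualIn (h : sympForm m F v v' = 1) (A : AddSubgroup (Fin m ⊕ Fin m → F))
    (hA : A ≤ (pairPerp v v').toAddSubgroup) :
    Nat.card A * Nat.card (dualIn p v v' A) = Nat.card (pairPerp v v') := by
  have hp := LinearMap.BilinForm.finrank_orthogonal (traceForm_nondegenerate (p := p) h)
    (inW A)
  rw [orthogonal_inW A hA] at hp
  rw [← card_inW (p := p) hA, ← card_inW (p := p) (dualIn_le p v v' A),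
    Module.natCard_eq_pow_finrank (K := ZMod p) (V := (inW A : Submodule (ZMod p) (pairPerp v v'))),
    Module.natCard_eq_pow_finrank (K := ZMod p)
      (V := (inW (dualIn p v v' A) : Submodule (ZMod p) (pairPerp v v'))),
    Module.natCard_eq_pow_finrank (K := ZMod p) (V := pairPerp v v'), ← pow_add]
  congr 1
  have := Submodule.finrank_le (inW A : Submodule (ZMod p) (pairPerp v v'))
  omega

theorem index_eq_card_dualIn (h : sympForm m F v v' = 1) (A : AddSubgroup (Fin m ⊕ Fin m → F))
    (hA : A ≤ (pairPerp v v').toAddSubgroup) :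
    (A.addSubgroupOf (pairPerp v v').toAddSubgroup).index = Nat.card (dualIn p v v' A) := by
  have h1 := (A.addSubgroupOf (pairPerp v v').toAddSubgroup).card_mul_index
  have h3 : Nat.card (A.addSubgroupOf (pairPerp v v').toAddSubgroup) = Nat.card A :=
    Nat.card_congr (AddSubgroup.addSubgroupOfEquivOfLe hA).toEquiv
  rw [h3] at h1
  exact Nat.eq_of_mul_eq_mul_left Nat.card_pos
    (h1.trans (card_mul_card_dualIn p h A hA).symm)

theorem dualIn_dualIn (h : sympForm m F v v' = 1) (A : AddSubgroup (Fin m ⊕ Fin m → F))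
    (hA : A ≤ (pairPerp v v').toAddSubgroup) :
    dualIn p v v' (dualIn p v v' A) = A := by
  have e := LinearMap.BilinForm.orthogonal_orthogonal (traceForm_nondegenerate (p := p) h)
    traceForm_isRefl (inW A)
  rw [orthogonal_inW A hA, orthogonal_inW _ (dualIn_le p v v' A)] at e
  ext x
  constructor
  · intro hx
    have hx' : (⟨x, hx.1⟩ : pairPerp v v') ∈ (inW (dualIn p v v' (dualIn p v v' A)) : Submodule (ZMod p) _) := hx
    rw [e] at hx'
    exact hx'
  · intro hx
    have : (⟨x, hA hx⟩ : pairPerp v v') ∈ (inW (dualIn p v v' (dualIn p v v' A)) : Submodule (ZMod p) _) := by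
      rw [e]; exact hx
    exact this

omit [Finite F] in
theorem image_dualIn {g : symplecticGroup (Fin m) F} (hg : g ∈ leviStab v v')
    (A : AddSubgroup (Fin m ⊕ Fin m → F)) :
    (fun x => g.1 *ᵥ x) '' (dualIn p v v' A : Set (Fin m ⊕ Fin m → F)) =
      {b | b ∈ pairPerp v v' ∧ ∀ a ∈ (fun x => g.1 *ᵥ x) '' (A : Set (Fin m ⊕ Fin m → F)),
        Algebra.trace (ZMod p) F (sympForm m F b a) = 0} := by
  ext b
  constructor
  · rintro ⟨x, hx, rfl⟩
    refine ⟨levi_mem_pairPerp hg hx.1, ?_⟩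
    rintro _ ⟨a, ha, rfl⟩
    rw [sp_form]
    exact hx.2 a ha
  · rintro ⟨hb, hb2⟩
    refine ⟨g⁻¹.1 *ᵥ b, ⟨levi_mem_pairPerp (inv_mem hg) hb, fun a ha => ?_⟩, sp_mulVec_inv g b⟩
    rw [← sp_form g, sp_mulVec_inv]
    exact hb2 _ ⟨a, ha, rfl⟩

/-- The dual has at most as many images. -/
theorem card_imgFamily_dualIn_le (A : AddSubgroup (Fin m ⊕ Fin m → F)) :
    Nat.card (imgFamily v v' (dualIn p v v' A : Set (Fin m ⊕ Fin m → F))) ≤
      Nat.card (imgFamily v v' (A : Set (Fin m ⊕ Fin m → F))) := by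
  let D : Set (Fin m ⊕ Fin m → F) → Set (Fin m ⊕ Fin m → F) := fun S =>
    {b | b ∈ pairPerp v v' ∧ ∀ a ∈ S, Algebra.trace (ZMod p) F (sympForm m F b a) = 0}
  have key : ∀ {g}, g ∈ wGroup v v' →
      D ((fun x => g.1 *ᵥ x) '' (A : Set (Fin m ⊕ Fin m → F))) =
        (fun x => g.1 *ᵥ x) '' (dualIn p v v' A : Set (Fin m ⊕ Fin m → F)) :=
    fun hg => (image_dualIn p (wGroup_le v v' hg) A).symm
  refine Nat.card_le_card_of_surjective
    (fun S => ⟨D S.1, by obtain ⟨g, hg, e⟩ := S.2; exact ⟨g, hg, by rw [← e, key hg]⟩⟩) ?_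
  rintro ⟨_, g, hg, rfl⟩
  exact ⟨⟨_, g, hg, rfl⟩, Subtype.ext (key hg)⟩

end CfsgLib.SpMinIndex
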