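/-
Counting radical orbits in a transitive action, the kernel of such an action, and the case in
which every radical fixer covers the complement.
-/
import Cfsg.Agent.Lib.SpMinIndex.Duality
import Cfsg.Agent.Lib.Classical.SpSimple

set_option autoImplicit false

namespace CfsgLib.SpMinIndex

open Matrix Cfsg CfsgLib.Classical

variable {F : Type*} [Field F] {m : ℕ}
variable {Ω : Type*} [MulAction (symplecticGroup (Fin m) F) Ω]
variable {v v' : Fin m ⊕ Fin m → F}

/-- The index of `aFix` in the complement. -/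
noncomputable def aIndex (v v' : Fin m ⊕ Fin m → F) (ω : Ω) : ℕ :=
  ((aFix v v' ω).addSubgroupOf (pairPerp v v').toAddSubgroup).index

theorem card_aFix_mul_aIndex (ω : Ω) :
    Nat.card (aFix v v' ω) * aIndex v v' ω = Nat.card (pairPerp v v') := by
  have h := ((aFix v v' ω).addSubgroupOf (pairPerp v v').toAddSubgroup).card_mul_index
  rwa [Nat.card_congr (AddSubgroup.addSubgroupOfEquivOfLe (aFix_le v v' ω)).toEquiv] at h

theorem aFix_image {g : symplecticGroup (Fin m) F} (hg : g ∈ leviStab v v') (ω : Ω) :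
    (aFix v v' (g • ω) : Set (Fin m ⊕ Fin m → F)) =
      (fun x => g.1 *ᵥ x) '' (aFix v v' ω : Set (Fin m ⊕ Fin m → F)) := by
  ext a
  constructor
  · intro ha
    refine ⟨g⁻¹.1 *ᵥ a, ?_, sp_mulVec_inv g a⟩
    have := mem_aFix_smul (inv_mem hg) (SetLike.mem_coe.1 ha)
    rwa [inv_smul_smul] at this
  · rintro ⟨x, hx, rfl⟩
    exact mem_aFix_smul hg hx

theorem mem_aFix_smul' (g : symplecticGroup (Fin m) F) {ω : Ω} {a : Fin m ⊕ Fin m → F}
    (ha : a ∈ aFix v v' ω) : g.1 *ᵥ a ∈ aFix (g.1 *ᵥ v) (g.1 *ᵥ v') (g • ω) := by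
  obtain ⟨ha, t, hat⟩ := ha
  rw [mem_pairPerp] at ha
  refine ⟨mem_pairPerp.2 ⟨by rw [sp_form, ha.1], by rw [sp_form, ha.2]⟩, t, ?_⟩
  rw [← mul_smul, ← eic_conj', mul_smul, hat]

variable [Finite F] [Finite Ω]

/-- Points in different radical orbits give disjoint orbits. -/
theorem sum_radOrbit_le {ι : Type*} [Fintype ι] (w : ι → Ω)
    (hw : ∀ i j, SameRad v v' (w i) (w j) → i = j) :
    ∑ i, aIndex v v' (w i) * (sFix v (w i)).index ≤ Nat.card Ω := by
  calc ∑ i, aIndex v v' (w i) * (sFix v (w i)).index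
      ≤ ∑ i, Nat.card {ω' : Ω // SameRad v v' (w i) ω'} :=
        Finset.sum_le_sum fun i _ => card_radOrbit_ge (w i)
    _ = Nat.card (Σ i, {ω' : Ω // SameRad v v' (w i) ω'}) := Nat.card_sigma.symm
    _ ≤ Nat.card Ω := Nat.card_le_card_of_injective (fun p => p.2.1) (by
        rintro ⟨i, x, hx⟩ ⟨j, y, hy⟩ (e : x = y)
        subst e
        obtain rfl := hw i j (hx.trans hy.symm)
        rfl)

omit [Finite Ω] in
theorem aIndex_smul {g : symplecticGroup (Fin m) F} (hg : g ∈ leviStab v v') (ω : Ω) :
    aIndex v v' (g • ω) = aIndex v v' ω := by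
  have h1 := card_aFix_mul_aIndex (v := v) (v' := v') (g • ω)
  rw [← card_aFix_mul_aIndex (v := v) (v' := v') ω] at h1
  have hc : Nat.card (aFix v v' (g • ω)) = Nat.card (aFix v v' ω) := by
    refine (congrArg (fun s : Set (Fin m ⊕ Fin m → F) => Nat.card s) (aFix_image hg ω)).trans ?_
    exact Nat.card_image_of_injective (sp_mulVec_injective g) _
  rw [hc] at h1
  exact Nat.eq_of_mul_eq_mul_left Nat.card_pos h1

omit [Finite F] [Finite Ω] in
theorem sFix_levi {g : symplecticGroup (Fin m) F} (hg : g ∈ leviStab v v') (ω : Ω) :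
    sFix v (g • ω) = sFix v ω := by
  conv_lhs => rw [← hg.1]
  exact sFix_smul g v ω

open scoped _root_.Classical in
/-- The family of images of `aFix ω` gives disjoint orbits of the same size. -/
theorem imgFamily_mul_le (ω : Ω) :
    Nat.card (imgFamily v v' (aFix v v' ω : Set (Fin m ⊕ Fin m → F))) *
      (aIndex v v' ω * (sFix v ω).index) ≤ Nat.card Ω := by
  set ℬ := imgFamily v v' (aFix v v' ω : Set (Fin m ⊕ Fin m → F))
  let _ : Fintype ℬ := Fintype.ofFinite _
  choose g hg hgD using fun D : ℬ => D.2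
  have key := sum_radOrbit_le (v := v) (v' := v') (fun D : ℬ => g D • ω) fun D E h => by
    refine Subtype.ext ?_
    rw [← hgD D, ← hgD E, ← aFix_image (wGroup_le v v' (hg D)), ← aFix_image (wGroup_le v v' (hg E)),
      h.aFix_eq]
  refine le_trans (le_of_eq ?_) key
  rw [Finset.sum_congr rfl fun D _ => by
    rw [aIndex_smul (wGroup_le v v' (hg D)), sFix_levi (wGroup_le v v' (hg D))],
    Finset.sum_const, smul_eq_mul, Finset.card_univ, ← Nat.card_eq_fintype_card]

variable (p : ℕ) [Fact p.Prime] [Algebra (ZMod p) F]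

/-- The images of a proper non-trivial `aFix` (`m ≥ 3`). -/
theorem family_bound (h : sympForm m F v v' = 1) (hm : 3 ≤ m) (ω : Ω)
    (h0 : aFix v v' ω ≠ ⊥) :
    Nat.card F * (Nat.card (pairPerp v v') - 1) ≤
        Nat.card (imgFamily v v' (aFix v v' ω : Set (Fin m ⊕ Fin m → F))) * aIndex v v' ω ∨
      ∃ w ∈ pairPerp v v', ∀ b ∈ dualIn p v v' (aFix v v' ω), ∃ c : F, b = c • w := by
  set A := aFix v v' ω
  set B := dualIn p v v' A
  set L := Nat.card (imgFamily v v' (A : Set (Fin m ⊕ Fin m → F)))
  set q := Nat.card F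
  have hq : 2 ≤ q := Finite.one_lt_card
  have hidx : aIndex v v' ω = Nat.card B := index_eq_card_dualIn p h A (aFix_le v v' ω)
  have hAB : Nat.card A * Nat.card B = Nat.card (pairPerp v v') :=
    card_mul_card_dualIn p h A (aFix_le v v' ω)
  have hW : Nat.card (pairPerp v v') = q ^ (m - 1) * q ^ (m - 1) := by
    rw [(card_pairPerp h).1, ← pow_add]; congr 1; omega
  rw [hidx]
  rcases le_or_gt (Nat.card A) (q ^ (m - 1)) with hA | hA
  · left
    have hB : q ^ (m - 1) ≤ Nat.card B := by
      by_contra hlt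
      push Not at hlt
      have h3 : 0 < q ^ (m - 1) := pow_pos (by omega) _
      have h4 : Nat.card A * Nat.card B < q ^ (m - 1) * q ^ (m - 1) :=
        calc Nat.card A * Nat.card B ≤ q ^ (m - 1) * Nat.card B := Nat.mul_le_mul_right _ hA
          _ < _ := Nat.mul_lt_mul_of_pos_left hlt h3
      omega
    obtain ⟨w, hwA, hw0⟩ := (A.bot_or_exists_ne_zero).resolve_left h0
    by_cases hline : ∀ z ∈ A, ∃ c : F, z = c • w
    · have hAq : Nat.card A ≤ q := by
        choose c hc using hline
        refine Nat.card_le_card_of_injective (fun z : A => c z.1 z.2) fun x y (e : c x.1 x.2 = c y.1 y.2) => ?_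
        exact Subtype.ext (by rw [hc x.1 x.2, hc y.1 y.2, e])
      have h1 : Nat.card (pairPerp v v') - 1 ≤ L * (Nat.card A - 1) :=
        imgFamily_bound_one h A (aFix_le v v' ω) h0
      have hL : q * (Nat.card (pairPerp v v') - 1) ≤ L * (q * q) := by
        calc q * (Nat.card (pairPerp v v') - 1) ≤ q * (L * (Nat.card A - 1)) :=
              Nat.mul_le_mul_left _ h1
          _ ≤ q * (L * q) := by gcongr; omega
          _ = L * (q * q) := by ring
      refine hL.trans (Nat.mul_le_mul_left _ (le_trans ?_ hB))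
      calc q * q = q ^ 2 := by ring
        _ ≤ q ^ (m - 1) := Nat.pow_le_pow_right (by omega) (by omega)
    · push Not at hline
      obtain ⟨z, hzA, hzw⟩ := hline
      refine (imgFamily_bound h hm A (aFix_le v v' ω) hA hwA hw0 hzA hzw).trans
        (Nat.mul_le_mul_left _ ?_)
      omega
  · have hB : Nat.card B ≤ q ^ (m - 1) := by
      by_contra hlt
      push Not at hlt
      have := Nat.mul_lt_mul_of_lt_of_lt hA hlt
      omega
    by_cases hline : ∃ w ∈ pairPerp v v', ∀ b ∈ B, ∃ c : F, b = c • w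
    · exact Or.inr hline
    left
    push Not at hline
    obtain ⟨w, hwB, hw0⟩ : ∃ w ∈ B, w ≠ 0 := by
      by_contra hc
      push Not at hc
      obtain ⟨b, hb, hb'⟩ := hline 0 (Submodule.zero_mem _)
      exact hb' 0 (by rw [hc b hb, smul_zero])
    obtain ⟨z, hzB, hzw⟩ := hline w (dualIn_le p v v' A hwB)
    refine (imgFamily_bound h hm B (dualIn_le p v v' A) hB hwB hw0 hzB hzw).trans ?_
    exact Nat.mul_le_mul (card_imgFamily_dualIn_le p A) (Nat.sub_le _ _)

omit [Finite F] [Finite Ω] in
theorem eic_not_mem_center (h : sympForm m F v v' = 1) {u : Fin m ⊕ Fin m → F}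
    (hu : u ∈ pairPerp v v') (hu0 : u ≠ 0) :
    eic v u 0 ∉ Subgroup.center (symplecticGroup (Fin m) F) := by
  intro hc
  have hu' := mem_pairPerp.1 hu
  have e : (eic v u 0).1 *ᵥ v' = v' - u := by
    rw [eic_apply hu'.1, hu'.2, sympForm_swap v v', h]
    simp [sub_eq_add_neg]
  rcases (mem_center_sp_iff _).1 hc with e1 | e1 <;> rw [e1] at e
  · rw [Submonoid.coe_one, one_mulVec, eq_comm, sub_eq_self] at e
    exact hu0 e
  · rw [spNegOne_apply] at e
    have : sympForm m F v (-v') = sympForm m F v (v' - u) := by rw [e]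
    rw [sympForm_sub_right, hu'.1, ← neg_one_smul F v', sympForm_smul_right, h, sub_zero] at this
    refine hu0 ?_
    have h2 : (2 : F) = 0 := by linear_combination -this
    have : u = (2 : F) • v' := by
      rw [two_smul]
      calc u = v' - (v' - u) := by abel
        _ = v' - -v' := by rw [e]
        _ = v' + v' := by abel
    rw [this, h2, zero_smul]

variable [MulAction.IsPretransitive (symplecticGroup (Fin m) F) Ω] [Nontrivial Ω]

omit [Finite Ω] in
/-- A non-central element does not fix every point. -/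
theorem exists_smul_ne (hsimple : IsSimpleGroup (Cfsg.PSp m F))
    (hperf : commutator (symplecticGroup (Fin m) F) = ⊤) {g : symplecticGroup (Fin m) F}
    (hg : g ∉ Subgroup.center (symplecticGroup (Fin m) F)) : ∃ ω : Ω, g • ω ≠ ω := by
  by_contra hc
  push Not at hc
  set K := (MulAction.toPermHom (symplecticGroup (Fin m) F) Ω).ker
  have hgK : g ∈ K := by
    rw [MonoidHom.mem_ker]
    exact Equiv.ext hc
  set π := QuotientGroup.mk' (Subgroup.center (symplecticGroup (Fin m) F))
  have hsur : Function.Surjective π := QuotientGroup.mk'_surjective _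
  have hn : (K.map π).Normal := Subgroup.Normal.map inferInstance π hsur
  rcases hn.eq_bot_or_eq_top with e | e
  · rw [Subgroup.map_eq_bot_iff, QuotientGroup.ker_mk'] at e
    exact hg (e hgK)
  · have hKZ : K ⊔ Subgroup.center (symplecticGroup (Fin m) F) = ⊤ := by
      have := congrArg (Subgroup.comap π) e
      rwa [Subgroup.comap_map_eq, QuotientGroup.ker_mk', Subgroup.comap_top] at this
    have hK : K = ⊤ := by
      rw [eq_top_iff, ← hperf, commutator_eq_closure, Subgroup.closure_le]
      rintro _ ⟨x, y, rfl⟩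
      have hx : x ∈ K ⊔ Subgroup.center (symplecticGroup (Fin m) F) := hKZ ▸ Subgroup.mem_top x
      rw [Subgroup.sup_eq_closure_mul] at hx
      refine MonoidHom.mem_ker.2 ?_
      have hcomm : ∀ z : symplecticGroup (Fin m) F, z ∈ K ⊔ Subgroup.center _ →
          ∀ w, Commute (MulAction.toPermHom (symplecticGroup (Fin m) F) Ω z)
            (MulAction.toPermHom (symplecticGroup (Fin m) F) Ω w) := by
        intro z hz w
        obtain ⟨k, hk, c, hc, rfl⟩ := Subgroup.mem_sup_of_normal_right.1 hz
        rw [map_mul, MonoidHom.mem_ker.1 hk, one_mul]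
        exact (Commute.map (Subgroup.mem_center_iff.1 hc w).symm _)
      rw [map_commutatorElement, commutatorElement_eq_one_iff_commute]
      exact hcomm x (hKZ ▸ Subgroup.mem_top x) y
    obtain ⟨a, b, hab⟩ := exists_pair_ne Ω
    obtain ⟨k, hk⟩ := MulAction.exists_smul_eq (symplecticGroup (Fin m) F) a b
    have hk' : k ∈ K := hK ▸ Subgroup.mem_top k
    exact hab (hk ▸ (congrArg (fun e : Equiv.Perm Ω => e a) (MonoidHom.mem_ker.1 hk')).symm)

omit [Finite Ω] in
/-- Every transvection group moves some point. -/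
theorem exists_sFix_ne_top (hsimple : IsSimpleGroup (Cfsg.PSp m F))
    (hperf : commutator (symplecticGroup (Fin m) F) = ⊤) (h : sympForm m F v v' = 1) :
    ∃ ω : Ω, sFix v ω ≠ ⊤ := by
  have hg : spT v 1 ∉ Subgroup.center (symplecticGroup (Fin m) F) := by
    intro hc
    have e : (spT v 1).1 *ᵥ v' = v' - v := by
      rw [spT_apply, sympForm_swap v v', h]; simp [sub_eq_add_neg]
    rcases (mem_center_sp_iff _).1 hc with e1 | e1 <;> rw [e1] at e
    · rw [Submonoid.coe_one, one_mulVec] at e
      have := congrArg (sympForm m F v') e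
      rw [sympForm_sub_right, sympForm_self, sympForm_swap v v', h] at this
      exact one_ne_zero (α := F) (by linear_combination -this)
    · rw [spNegOne_apply] at e
      have := congrArg (sympForm m F v') e
      rw [sympForm_sub_right, sympForm_self, sympForm_swap v v', h, ← neg_one_smul F v',
        sympForm_smul_right, sympForm_self] at this
      exact one_ne_zero (α := F) (by linear_combination -this)
  obtain ⟨ω, hω⟩ := exists_smul_ne (Ω := Ω) hsimple hperf hg
  exact ⟨ω, fun e => hω (mem_sFix v |>.1 (e ▸ AddSubgroup.mem_top 1))⟩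

omit [Finite Ω] in
/-- For `m ≥ 3` some radical fixer does not cover the complement. -/
theorem exists_aFix_ne (hm : 3 ≤ m) (hsimple : IsSimpleGroup (Cfsg.PSp m F))
    (hperf : commutator (symplecticGroup (Fin m) F) = ⊤) (h : sympForm m F v v' = 1) :
    ∃ ω : Ω, aFix v v' ω ≠ (pairPerp v v').toAddSubgroup := by
  by_contra hc
  push Not at hc
  have hall : ∀ (u a : Fin m ⊕ Fin m → F), u ≠ 0 → sympForm m F u a = 0 → ∀ ω : Ω,
      ∃ t, eic u a t • ω = ω := by
    intro u a hu ha ω
    obtain ⟨w, hw⟩ := exists_sympForm_ne_zero hu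
    set u' := (sympForm m F u w)⁻¹ • w
    have hu' : sympForm m F u u' = 1 := by rw [sympForm_smul_right, inv_mul_cancel₀ hw]
    obtain ⟨g, -, hg, hg'⟩ := exists_sp_move_pair h hu'
    have ha' := exists_pairPerp_shift hu' ha
    have hmem : g⁻¹.1 *ᵥ (a + sympForm m F u' a • u) ∈ aFix v v' (g⁻¹ • ω) := by
      rw [hc, Submodule.mem_toAddSubgroup, mem_pairPerp]
      rw [mem_pairPerp] at ha'
      constructor
      · rw [← sp_form g, hg, sp_mulVec_inv, ha'.1]
      · rw [← sp_form g, hg', sp_mulVec_inv, ha'.2]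
    have := mem_aFix_smul' g hmem
    rw [sp_mulVec_inv, hg, hg', smul_inv_smul] at this
    obtain ⟨-, t, ht⟩ := this
    exact ⟨_, by rwa [eic_shift ha] at ht⟩
  -- a hyperbolic pair in the complement of two hyperbolic pairs
  obtain ⟨x, hx, hx0⟩ : ∃ x ∈ pairPerp v v', x ≠ 0 := by
    by_contra hcon
    push Not at hcon
    have h1 := (card_pairPerp h).1
    have : Nat.card (pairPerp v v') = 1 :=
      Nat.card_eq_one_iff_unique.2 ⟨⟨fun a b => Subtype.ext (by rw [hcon a a.2, hcon b b.2])⟩, ⟨0⟩⟩
    rw [this] at h1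
    exact absurd h1 (Nat.one_lt_pow (by omega) Finite.one_lt_card).ne
  obtain ⟨u₁, hu₁, hxu₁⟩ := pairPerp_nondeg h hx hx0
  set x' := (sympForm m F x u₁)⁻¹ • u₁
  have hx' : x' ∈ pairPerp v v' := Submodule.smul_mem _ _ hu₁
  have hxx' : sympForm m F x x' = 1 := by rw [sympForm_smul_right, inv_mul_cancel₀ hxu₁]
  let L : pairPerp v v' → F × F := fun a => (sympForm m F x a, sympForm m F x' a)
  have hninj : ¬ Function.Injective L := fun hi => by
    have hle := Nat.card_le_card_of_injective L hi
    rw [(card_pairPerp h).1, Nat.card_prod] at hle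
    have h3 : Nat.card F ^ 3 ≤ Nat.card F ^ (2 * m - 2) :=
      Nat.pow_le_pow_right Nat.card_pos (by omega)
    have h2 : Nat.card F * Nat.card F < Nat.card F ^ 3 := by
      have := (Finite.one_lt_card : 1 < Nat.card F)
      nlinarith [Nat.mul_lt_mul_of_pos_right this (show 0 < Nat.card F * Nat.card F by positivity)]
    omega
  obtain ⟨a₁, a₂, hL, hne⟩ : ∃ a₁ a₂, L a₁ = L a₂ ∧ a₁ ≠ a₂ := by
    simpa [Function.Injective] using hninj
  set a := (a₁ : Fin m ⊕ Fin m → F) - a₂
  have haW : a ∈ pairPerp v v' := Submodule.sub_mem _ a₁.2 a₂.2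
  have ha0 : a ≠ 0 := sub_ne_zero.2 fun e => hne (Subtype.ext e)
  have hax : sympForm m F x a = 0 := by
    have e : sympForm m F x a₁ = sympForm m F x a₂ := congrArg Prod.fst hL
    rw [sympForm_sub_right, e, sub_self]
  have hax' : sympForm m F x' a = 0 := by
    have e : sympForm m F x' a₁ = sympForm m F x' a₂ := congrArg Prod.snd hL
    rw [sympForm_sub_right, e, sub_self]
  obtain ⟨z, hz, haz⟩ := pairPerp_nondeg h haW ha0
  set z' := z + sympForm m F x' z • x - sympForm m F x z • x'
  have hz' : z' ∈ pairPerp v v' :=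
    Submodule.sub_mem _ (Submodule.add_mem _ hz (Submodule.smul_mem _ _ hx))
      (Submodule.smul_mem _ _ hx')
  have hxz' : sympForm m F x z' = 0 := by
    simp [z', sympForm_add_right, sympForm_sub_right, sympForm_smul_right, sympForm_self, hxx']
  have haz' : sympForm m F a z' ≠ 0 := by
    simpa [z', sympForm_add_right, sympForm_sub_right, sympForm_smul_right,
      sympForm_swap x a, hax, sympForm_swap x' a, hax'] using haz
  set b := (sympForm m F a z')⁻¹ • z'
  have hxb : sympForm m F x b = 0 := by rw [sympForm_smul_right, hxz', mul_zero]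
  have hab : sympForm m F a b = 1 := by rw [sympForm_smul_right, inv_mul_cancel₀ haz']
  obtain ⟨ω, hω⟩ := exists_smul_ne (Ω := Ω) hsimple hperf (eic_not_mem_center h hx hx0)
  refine hω ?_
  have hva := perp_of_mem_pairPerp haW
  have hvb : sympForm m F v b = 0 := by
    rw [sympForm_smul_right, perp_of_mem_pairPerp hz', mul_zero]
  have hvx := perp_of_mem_pairPerp hx
  have hv0 : v ≠ 0 := fun e => by simp [e] at h
  obtain ⟨t, ht⟩ := hall v a hv0 hva ω
  obtain ⟨s, hs⟩ := hall x b hx0 hxb ω
  have e1 : (eic x b s).1 *ᵥ v = v := by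
    rw [eic_apply hxb, hvb, sympForm_swap x v, sympForm_swap v x, neg_neg, hvx]
    simp
  have e2 : (eic x b s).1 *ᵥ a = a + x := by
    rw [eic_apply hxb, hab, sympForm_swap x a, hax]
    simp
  have key : eic x b s * eic v a t * (eic x b s)⁻¹ * (eic v a t)⁻¹ = eic v x 0 := by
    have hva' : sympForm m F v (a + x) = 0 := by rw [sympForm_add_right, hva, hvx, add_zero]
    have hvn : sympForm m F v (-a) = 0 := by
      rw [← neg_one_smul F a, sympForm_smul_right, hva, mul_zero]
    rw [eic_conj, e1, e2, eic_inv hva, eic_mul hva' hvn, ← neg_one_smul F a, sympForm_smul_left,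
      sympForm_add_right, sympForm_self, sympForm_swap x a, hax]
    simp
  rw [← key, mul_smul, mul_smul, mul_smul, inv_smul_eq_iff.2 ht.symm, inv_smul_eq_iff.2 hs.symm,
    ht, hs]

end CfsgLib.SpMinIndex
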