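/-
The additive group of a finite field acting on few points, invariantly under multiplication by
squares.
-/
import Mathlib

set_option autoImplicit false

namespace CfsgLib.SpMinIndex

open MulAction

variable {F : Type*} [Field F] [Finite F] {X : Type*} [Finite X]

omit [Finite F] [Finite X] in
theorem card_fixed_eq_of_conj (σ : Equiv.Perm X) (e : Equiv.Perm X) :
    Nat.card {x : X // (σ * e * σ⁻¹) x = x} = Nat.card {x : X // e x = x} :=
  Nat.card_congr
    { toFun := fun x => ⟨σ⁻¹ x.1, by
        have h := congrArg (σ⁻¹ : Equiv.Perm X) x.2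
        simpa using h⟩
      invFun := fun x => ⟨σ x.1, by simp [x.2]⟩
      left_inv := fun x => Subtype.ext (by simp)
      right_inv := fun x => Subtype.ext (by simp) }

/-- A non-trivial action of the additive group of `F`, invariant under squares, needs at least
`|F| / 2` points, and `|F|` points if every element is a square. -/
theorem perm_small (φ : Multiplicative F →* Equiv.Perm X)
    (hinv : ∀ μ : F, μ ≠ 0 → ∃ σ : Equiv.Perm X, ∀ c : F,
      σ * φ (Multiplicative.ofAdd c) * σ⁻¹ = φ (Multiplicative.ofAdd (μ ^ 2 * c))) :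
    φ = 1 ∨ (Nat.card F ≤ 2 * Nat.card X ∧ ((2 : F) = 0 → Nat.card F ≤ Nat.card X)) := by
  classical
  let _ : Fintype F := Fintype.ofFinite F
  let _ : Fintype X := Fintype.ofFinite X
  let _ : MulAction (Multiplicative F) X := MulAction.compHom X φ
  set fx : F → ℕ := fun c => Nat.card {x : X // φ (Multiplicative.ofAdd c) x = x} with hfx
  have hsq : ∀ μ c : F, μ ≠ 0 → fx (μ ^ 2 * c) = fx c := by
    intro μ c hμ
    obtain ⟨σ, hσ⟩ := hinv μ hμ
    simp only [fx]
    rw [← hσ]
    exact card_fixed_eq_of_conj σ _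
  obtain ⟨ε, hε0, hε, hε2⟩ : ∃ ε : F, ε ≠ 0 ∧
      (∀ c : F, c ≠ 0 → ∃ μ : F, μ ≠ 0 ∧ (c = μ ^ 2 ∨ c = μ ^ 2 * ε)) ∧ ((2 : F) = 0 → ε = 1) := by
    by_cases h2 : ringChar F = 2
    · refine ⟨1, one_ne_zero, fun c hc => ?_, fun _ => rfl⟩
      obtain ⟨μ, hμ⟩ := FiniteField.isSquare_of_char_two h2 c
      exact ⟨μ, fun e => hc (by rw [hμ, e, mul_zero]), Or.inl (by rw [hμ, sq])⟩
    · obtain ⟨ε, hε⟩ := FiniteField.exists_nonsquare h2
      have hε0 : ε ≠ 0 := fun e => hε ⟨0, by rw [e, mul_zero]⟩
      refine ⟨ε, hε0, fun c hc => ?_, fun h => absurd h (Ring.two_ne_zero h2)⟩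
      by_cases hcs : IsSquare c
      · obtain ⟨μ, hμ⟩ := hcs
        exact ⟨μ, fun e => hc (by rw [hμ, e, mul_zero]), Or.inl (by rw [hμ, sq])⟩
      · have hcε : IsSquare (c / ε) := by
          have h1 := quadraticChar_neg_one_iff_not_isSquare.2 hcs
          have h2 := quadraticChar_neg_one_iff_not_isSquare.2 hε
          rw [← quadraticChar_one_iff_isSquare (div_ne_zero hc hε0)]
          have hm : quadraticChar F (c / ε) * quadraticChar F ε = quadraticChar F c := by
            rw [← map_mul, div_mul_cancel₀ _ hε0]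
          rw [h1, h2] at hm
          linarith
        obtain ⟨μ, hμ⟩ := hcε
        refine ⟨μ, fun e => ?_, Or.inr ?_⟩
        · rw [e, mul_zero, div_eq_zero_iff] at hμ; tauto
        · rw [sq, ← hμ, div_mul_cancel₀ _ hε0]
  set K := fx 1 + fx ε with hK
  have hpair : ∀ c : F, c ≠ 0 → fx c + fx (ε * c) = K := by
    intro c hc
    obtain ⟨μ, hμ, rfl | rfl⟩ := hε c hc
    · rw [mul_comm ε, hsq μ ε hμ, show μ ^ 2 = μ ^ 2 * 1 from (mul_one _).symm, hsq μ 1 hμ]
    · rw [hsq μ ε hμ, show ε * (μ ^ 2 * ε) = (μ * ε) ^ 2 * 1 from by ring,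
        hsq _ 1 (mul_ne_zero hμ hε0), add_comm]
  set n := Nat.card X with hn
  have hf0 : fx 0 = n := by
    simp only [fx, ofAdd_zero, map_one, Equiv.Perm.one_apply]
    exact Nat.card_congr (Equiv.subtypeUnivEquiv fun _ => trivial)
  have hle : ∀ c, fx c ≤ n := fun c => Finite.card_subtype_le _
  set O := Nat.card (orbitRel.Quotient (Multiplicative F) X)
  have hburn : ∑ c : F, fx c = O * Nat.card F := by
    have h := sum_card_fixedBy_eq_card_orbits_mul_card_group (Multiplicative F) X
    rw [Fintype.card_multiplicative] at h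
    simp only [O, Nat.card_eq_fintype_card]
    rw [← h]
    refine Fintype.sum_equiv Multiplicative.ofAdd _ _ fun c => ?_
    simp only [fx, Nat.card_eq_fintype_card]
    exact Fintype.card_congr (Equiv.refl _)
  have hperm : ∑ c : F, fx (ε * c) = ∑ c : F, fx c :=
    Fintype.sum_equiv (Equiv.mulLeft₀ ε hε0) _ _ fun c => rfl
  have htot : 2 * (O * Nat.card F) = 2 * n + (Nat.card F - 1) * K := by
    rw [← hburn, two_mul]
    nth_rewrite 2 [← hperm]
    rw [← Finset.sum_add_distrib, ← Finset.add_sum_erase _ _ (Finset.mem_univ (0 : F)),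
      Finset.sum_congr rfl fun c hc => hpair c (Finset.ne_of_mem_erase hc), Finset.sum_const,
      Finset.card_erase_of_mem (Finset.mem_univ _), Finset.card_univ, smul_eq_mul,
      mul_zero, hf0, Nat.card_eq_fintype_card, two_mul]
  have hKle : K ≤ 2 * n := by have := hle 1; have := hle ε; omega
  by_cases hKeq : K = 2 * n
  · left
    refine MonoidHom.ext fun c => Equiv.ext fun x => ?_
    rcases eq_or_ne c.toAdd 0 with hc | hc
    · have hc' : c = 1 := Multiplicative.toAdd.injective (by rw [hc, toAdd_one])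
      rw [hc', map_one]; rfl
    · have h1 : fx c.toAdd + fx (ε * c.toAdd) = 2 * n := (hpair _ hc).trans hKeq
      have h2 : fx c.toAdd = n := by have := hle c.toAdd; have := hle (ε * c.toAdd); omega
      simp only [fx, ofAdd_toAdd] at h2
      rw [Nat.card_eq_fintype_card, hn, Nat.card_eq_fintype_card, Fintype.card_subtype,
        Finset.card_eq_iff_eq_univ] at h2
      show φ c x = x
      have := h2 ▸ Finset.mem_univ x
      simpa using this
  · right
    obtain ⟨r, hr⟩ : ∃ r, Nat.card F = r + 1 := ⟨Nat.card F - 1, by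
      have := (Nat.card_pos : 0 < Nat.card F); omega⟩
    rw [hr, Nat.add_sub_cancel] at htot
    rw [hr]
    obtain ⟨d, hd⟩ : ∃ d, 2 * n = K + d := ⟨2 * n - K, by omega⟩
    have hdiv : (r + 1) ∣ d := by
      have e : d + (r + 1) * K = (r + 1) * (2 * O) := by
        have h1 : 2 * (O * (r + 1)) = K + d + r * K := by rw [htot, hd]
        linarith [show (r + 1) * (2 * O) = 2 * (O * (r + 1)) by ring,
          show (r + 1) * K = K + r * K by ring]
      exact (Nat.dvd_add_left (Dvd.intro _ rfl)).1 (e ▸ Dvd.intro _ rfl)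
    have hdpos : 0 < d := by omega
    have hdge := Nat.le_of_dvd hdpos hdiv
    refine ⟨by omega, fun h2 => ?_⟩
    have hK2 : K = 2 * fx 1 := by rw [hK, hε2 h2, two_mul]
    have h1 : O * (r + 1) = n + r * fx 1 := by
      rw [hK2] at htot
      have : r * (2 * fx 1) = 2 * (r * fx 1) := by ring
      omega
    have hlt : fx 1 < n := by omega
    obtain ⟨e, he⟩ : ∃ e, n = fx 1 + e := ⟨n - fx 1, by omega⟩
    have hdiv2 : (r + 1) ∣ e := by
      have e1 : e + (r + 1) * fx 1 = (r + 1) * O := by
        linarith [show (r + 1) * O = O * (r + 1) by ring,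
          show (r + 1) * fx 1 = fx 1 + r * fx 1 by ring]
      exact (Nat.dvd_add_left (Dvd.intro _ rfl)).1 (e1 ▸ Dvd.intro _ rfl)
    have := Nat.le_of_dvd (by omega) hdiv2
    omega

end CfsgLib.SpMinIndex
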