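/-
A point whose radical fixer is small is fixed by every transvection of some complement, provided
there are few points.
-/
import Cfsg.Agent.Lib.SpMinIndex.Orbits
import Cfsg.Agent.Lib.SpMinIndex.PermSmall

set_option autoImplicit false

namespace CfsgLib.SpMinIndex

open Matrix Cfsg CfsgLib.Classical

variable {F : Type*} [Field F] {m : ℕ}
variable {v v' : Fin m ⊕ Fin m → F}

theorem eic_smul_left {v a : Fin m ⊕ Fin m → F} (ha : sympForm m F v a = 0) (k t : F) :
    eic (k • v) a t = eic v (k • a) (k ^ 2 * t) := by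
  have h1 : sympForm m F (k • v) a = 0 := by rw [sympForm_smul_left, ha, mul_zero]
  have h2 : sympForm m F v (k • a) = 0 := by rw [sympForm_smul_right, ha, mul_zero]
  refine sp_ext fun z => ?_
  rw [eic_apply h1, eic_apply h2]
  simp only [sympForm_smul_right]
  module

theorem eq_pair_add_perp (h : sympForm m F v v' = 1) (x : Fin m ⊕ Fin m → F) :
    x + sympForm m F v' x • v - sympForm m F v x • v' ∈ pairPerp v v' := by
  rw [mem_pairPerp]
  simp [sympForm_add_right, sympForm_sub_right, sympForm_smul_right, sympForm_self,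
    sympForm_swap v v', h]

/-- The torus element scaling `v` by `k` and `v'` by `k⁻¹`, fixing the complement. -/
theorem exists_torus (h : sympForm m F v v' = 1) (k : F) (hk : k ≠ 0) :
    ∃ τ : symplecticGroup (Fin m) F, τ.1 *ᵥ v = k • v ∧ τ.1 *ᵥ v' = k⁻¹ • v' ∧
      ∀ a ∈ pairPerp v v', τ.1 *ᵥ a = a := by
  set P : Submodule F (Fin m ⊕ Fin m → F) := Submodule.span F {v, v'}
  have hv : v ∈ P := Submodule.subset_span (by simp)
  have hv' : v' ∈ P := Submodule.subset_span (by simp)
  obtain ⟨g, hg, hgv, hgv'⟩ := exists_spTGroup_move_pair P hv hv' (P.smul_mem k hv)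
    (P.smul_mem k⁻¹ hv') h (by rw [sympForm_smul_left, sympForm_smul_right, h, mul_one, mul_inv_cancel₀ hk])
  refine ⟨g, hgv, hgv', fun a ha => spTGroup_fix (fun u hu => ?_) hg⟩
  rw [mem_pairPerp] at ha
  obtain ⟨c, d, rfl⟩ := Submodule.mem_span_pair.1 hu
  rw [sympForm_add_right, sympForm_smul_right, sympForm_smul_right, sympForm_swap v a, ha.1,
    sympForm_swap v' a, ha.2]
  simp

theorem commute_wGroup {τ : symplecticGroup (Fin m) F}
    (hτ : ∀ a ∈ pairPerp v v', τ.1 *ᵥ a = a) {g : symplecticGroup (Fin m) F}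
    (hg : g ∈ wGroup v v') : τ * g = g * τ := by
  have : wGroup v v' ≤ Subgroup.centralizer {τ} := by
    rw [wGroup, spTGroup, Subgroup.closure_le]
    rintro A ⟨a, ha, c, rfl⟩
    rw [SetLike.mem_coe, Subgroup.mem_centralizer_singleton_iff]
    conv_rhs => rw [← inv_mul_cancel_right (τ * spT a c) τ, spT_conj, hτ a ha]
  exact (Subgroup.mem_centralizer_singleton_iff.1 (this hg)).symm

theorem spT_commute_wGroup (t : F) {g : symplecticGroup (Fin m) F} (hg : g ∈ wGroup v v') :
    spT v t * g = g * spT v t :=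
  commute_wGroup (fun a ha => spT_fix (by
    rw [sympForm_swap, perp_of_mem_pairPerp ha, neg_zero]) t) hg

/-- Conjugating transvections: `[g, spT a c] = spT (g a) c * spT a (-c)`. -/
theorem commutator_spT (g : symplecticGroup (Fin m) F) (a : Fin m ⊕ Fin m → F) (c : F) :
    g * spT a c * g⁻¹ * (spT a c)⁻¹ = spT (g.1 *ᵥ a) c * spT a (-c) := by
  rw [spT_conj, spT_inv]

section action

variable {Ω : Type*} [MulAction (symplecticGroup (Fin m) F) Ω]

/-- Being in the same radical orbit. -/
def radSetoid (v v' : Fin m ⊕ Fin m → F) : Setoid Ω where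
  r := SameRad v v'
  iseqv := ⟨fun ω => ⟨0, Submodule.zero_mem _, 0, by rw [eic_zero, spT_zero, one_smul]⟩,
    fun h => h.symm, fun h h' => h.trans h'⟩

theorem SameRad.smul {g : symplecticGroup (Fin m) F} (hg : g ∈ leviStab v v') {ω ω' : Ω}
    (h : SameRad v v' ω ω') : SameRad v v' (g • ω) (g • ω') := by
  obtain ⟨a, ha, t, rfl⟩ := h
  refine ⟨g.1 *ᵥ a, levi_mem_pairPerp hg ha, t, ?_⟩
  rw [← mul_smul, ← mul_smul, eic_conj', hg.1]

variable [Finite F] [Finite Ω]

open scoped _root_.Classical in
/-- The classes of the images under a set of elements of the Levi subgroup. -/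
theorem card_classes_mul_le {ι : Type*} [Finite ι] (g : ι → symplecticGroup (Fin m) F)
    (hg : ∀ i, g i ∈ leviStab v v') (ω : Ω)
    (hdist : ∀ i j, SameRad v v' (g i • ω) (g j • ω) → i = j) :
    Nat.card ι * (aIndex v v' ω * (sFix v ω).index) ≤ Nat.card Ω := by
  let _ : Fintype ι := Fintype.ofFinite ι
  refine le_trans (le_of_eq ?_) (sum_radOrbit_le _ hdist)
  rw [Finset.sum_congr rfl fun i _ => by rw [aIndex_smul (hg i), sFix_levi (hg i)], Finset.sum_const,
    smul_eq_mul, Finset.card_univ, ← Nat.card_eq_fintype_card]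

theorem aFix_bot_eic {a : Fin m ⊕ Fin m → F} (ha : a ∈ pairPerp v v') (t : F) {ω : Ω}
    (h0 : aFix v v' ω = ⊥) : aFix v v' (eic v a t • ω) = ⊥ := by rw [aFix_eic ha, h0]

/-- Core of the torus argument: after a radical shift, the transvections of the complement fix
the point. -/
theorem exists_full_complement (h : sympForm m F v v' = 1) (hm : 2 ≤ m) (hq : 3 ≤ Nat.card F)
    (hm2 : m = 2 → 4 ≤ Nat.card F) {ω : Ω} (hS : sFix v ω ≠ ⊤) (hA : aFix v v' ω = ⊥)
    (hN : Nat.card Ω * (Nat.card F - 1) < Nat.card F ^ 2 * Nat.card (pairPerp v v')) :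
    ∃ v'', sympForm m F v v'' = 1 ∧ ∀ a ∈ pairPerp v v'', ∀ c, spT a c • ω = ω := by
  classical
  let _ : Fintype F := Fintype.ofFinite F
  set q := Nat.card F with hqdef
  set s := (sFix v ω).index with hsdef
  set W := Nat.card (pairPerp v v') with hWdef
  have hWpos : 0 < W := Nat.card_pos
  have hidx : aIndex v v' ω = W := by
    have := card_aFix_mul_aIndex (v := v) (v' := v') ω
    rwa [hA, AddSubgroup.card_bot, one_mul] at this
  have hs1 : s ≠ 1 := fun e => hS (AddSubgroup.index_eq_one.1 e)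
  have hsq : s ∣ q := AddSubgroup.index_dvd_card _
  have hs2 : 2 ≤ s := by
    have : 0 < s := Nat.pos_of_dvd_of_pos hsq (by omega)
    omega
  -- some non-trivial torus element fixes the radical orbit
  choose τ hτv hτv' hτW using fun k : Fˣ => exists_torus h (k : F) k.ne_zero
  have hsame : ∀ {σ : symplecticGroup (Fin m) F} {k : F}, σ.1 *ᵥ v = k • v →
      (∀ a ∈ pairPerp v v', σ.1 *ᵥ a = a) → ∀ a ∈ pairPerp v v', ∀ t,
      σ * eic v a t = eic v (k • a) (k ^ 2 * t) * σ := by
    intro σ k hσv hσW a ha t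
    rw [eic_conj', hσv, hσW a ha, eic_smul_left (perp_of_mem_pairPerp ha)]
  obtain ⟨k, l, hkl, hSame⟩ : ∃ k l : Fˣ, k ≠ l ∧ SameRad v v' (τ k • ω) (τ l • ω) := by
    by_contra hc
    push Not at hc
    have hsum := sum_radOrbit_le (v := v) (v' := v') (fun k : Fˣ => τ k • ω) fun k l e => by
      by_contra hne
      exact hc k l hne e
    have hinv : ∀ k : Fˣ, aIndex v v' (τ k • ω) = W ∧ (sFix v (τ k • ω)).index = s := by
      intro k
      constructor
      · have hbot : aFix v v' (τ k • ω) = ⊥ := by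
          rw [AddSubgroup.eq_bot_iff_forall]
          rintro a ⟨ha, t, hat⟩
          have hs : sympForm m F v ((k : F)⁻¹ • a) = 0 := by
            rw [sympForm_smul_right, perp_of_mem_pairPerp ha, mul_zero]
          have : (k : F)⁻¹ • a ∈ aFix v v' ω := by
            refine ⟨Submodule.smul_mem _ _ ha, ((k : F) ^ 2)⁻¹ * t, ?_⟩
            have e := hsame (hτv k) (hτW k) ((k : F)⁻¹ • a) (Submodule.smul_mem _ _ ha)
              (((k : F) ^ 2)⁻¹ * t)
            rw [smul_smul, mul_inv_cancel₀ k.ne_zero, one_smul, ← mul_assoc,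
              mul_inv_cancel₀ (pow_ne_zero 2 k.ne_zero), one_mul] at e
            refine smul_left_cancel (τ k) ?_
            rw [← mul_smul, e, mul_smul, hat]
          rw [hA, AddSubgroup.mem_bot, smul_eq_zero] at this
          exact this.resolve_left (inv_ne_zero k.ne_zero)
        have := card_aFix_mul_aIndex (v := v) (v' := v') (τ k • ω)
        rwa [hbot, AddSubgroup.card_bot, one_mul] at this
      · have hc : Nat.card (sFix v (τ k • ω)) = Nat.card (sFix v ω) := by
          refine Nat.card_congr ((Equiv.mulLeft₀ (((k : F) ^ 2)⁻¹)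
            (inv_ne_zero (pow_ne_zero 2 k.ne_zero))).symm.subtypeEquiv fun t => ?_).symm
          simp only [Equiv.mulLeft₀_symm_apply, inv_inv]
          rw [← sFix_smul (τ k) v ω, hτv k, mem_sFix, mem_sFix, spT_smul, mul_comm]
        have h1 := (sFix v (τ k • ω)).card_mul_index
        have h2 := (sFix v ω).card_mul_index
        rw [hc] at h1
        exact Nat.eq_of_mul_eq_mul_left Nat.card_pos (h1.trans h2.symm)
    rw [Finset.sum_congr rfl fun k _ => by rw [(hinv k).1, (hinv k).2], Finset.sum_const,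
      smul_eq_mul, Finset.card_univ, Fintype.card_units, ← Nat.card_eq_fintype_card] at hsum
    change (q - 1) * (W * s) ≤ _ at hsum
    obtain ⟨r, hr⟩ : ∃ r, q = r + 1 := ⟨q - 1, by omega⟩
    rw [hr, Nat.add_sub_cancel] at hsum hN
    have h1 : r * (W * s) * r < (r + 1) ^ 2 * W :=
      lt_of_le_of_lt (Nat.mul_le_mul_right r hsum) hN
    have h2 : r * r * s < (r + 1) ^ 2 := by
      refine Nat.lt_of_mul_lt_mul_right (a := W) ?_
      calc r * r * s * W = r * (W * s) * r := by ring
        _ < _ := h1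
    rcases Nat.lt_or_ge q 4 with hq4 | hq4
    · have hr2 : r = 2 := by omega
      have : s = 3 := by
        rcases (Nat.dvd_prime Nat.prime_three).1 (show s ∣ 3 by rw [← show q = 3 by omega]; exact hsq) with h | h
        · exact absurd h hs1
        · exact h
      subst hr2; rw [this] at h2; omega
    · nlinarith [Nat.mul_le_mul_left (r * r) hs2]
  -- shift so that a scaling fixes the point
  set κ : F := (k : F)⁻¹ * l with hκ
  have hκ1 : κ ≠ 1 := by
    intro e
    refine hkl (Units.ext ?_)
    rw [hκ, inv_mul_eq_one₀ k.ne_zero] at e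
    exact e
  set σ := (τ k)⁻¹ * τ l with hσdef
  have hkinv : (τ k)⁻¹.1 *ᵥ v = (k : F)⁻¹ • v := by
    have : (τ k).1 *ᵥ ((k : F)⁻¹ • v) = v := by
      rw [mulVec_smul, hτv k, smul_smul, inv_mul_cancel₀ k.ne_zero, one_smul]
    conv_lhs => rw [← this, sp_inv_mulVec]
  have hkW : ∀ a ∈ pairPerp v v', (τ k)⁻¹.1 *ᵥ a = a := fun a ha => by
    conv_lhs => rw [← hτW k a ha, sp_inv_mulVec]
  have hσv : σ.1 *ᵥ v = κ • v := by
    rw [hσdef, Submonoid.coe_mul, ← mulVec_mulVec, hτv l, mulVec_smul, hkinv, smul_smul, hκ,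
      mul_comm]
  have hσW : ∀ a ∈ pairPerp v v', σ.1 *ᵥ a = a := fun a ha => by
    rw [hσdef, Submonoid.coe_mul, ← mulVec_mulVec, hτW l a ha, hkW a ha]
  obtain ⟨b, hb, t, hbt⟩ := hSame
  have hfix0 : (eic v (-((k : F)⁻¹ • b)) (-((k : F)⁻¹ ^ 2 * t)) * σ) • ω = ω := by
    have e := hsame hkinv hkW b hb t
    have hv2 : sympForm m F v ((k : F)⁻¹ • b) = 0 := perp_of_mem_pairPerp (Submodule.smul_mem _ _ hb)
    rw [← eic_inv hv2, hσdef, mul_smul, mul_smul, inv_smul_eq_iff, ← hbt, ← mul_smul, e, mul_smul,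
      inv_smul_smul]
  set b₀ := -((k : F)⁻¹ • b)
  set t₀ := -((k : F)⁻¹ ^ 2 * t)
  have hb₀ : b₀ ∈ pairPerp v v' := Submodule.neg_mem _ (Submodule.smul_mem _ _ hb)
  set c₀ := (κ - 1)⁻¹ • b₀ with hc₀def
  have hc₀ : c₀ ∈ pairPerp v v' := Submodule.smul_mem _ _ hb₀
  set ω' := eic v c₀ 0 • ω with hω'def
  have hA' : aFix v v' ω' = ⊥ := aFix_bot_eic hc₀ 0 hA
  have hS' : sFix v ω' = sFix v ω := sFix_eic hc₀ 0 ω
  have hidx' : aIndex v v' ω' = W := by
    have := card_aFix_mul_aIndex (v := v) (v' := v') ω'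
    rwa [hA', AddSubgroup.card_bot, one_mul] at this
  obtain ⟨t₁, hy⟩ : ∃ t₁, (spT v t₁ * σ) • ω' = ω' := by
    have hva := perp_of_mem_pairPerp hc₀
    have hvb := perp_of_mem_pairPerp hb₀
    have hvk := perp_of_mem_pairPerp ((pairPerp v v').smul_mem κ hc₀)
    have e1 : σ * eic v c₀ 0 = eic v (κ • c₀) 0 * σ := by
      rw [hsame hσv hσW c₀ hc₀ 0, mul_zero]
    have hbc : b₀ = κ • c₀ - c₀ := by
      rw [hc₀def, smul_smul, ← sub_smul]
      have : κ * (κ - 1)⁻¹ - (κ - 1)⁻¹ = 1 := by
        field_simp [sub_ne_zero.2 hκ1]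
      rw [this, one_smul]
    -- the conjugate of `eic v b₀ t₀ * σ` by `eic v c₀ 0`
    refine ⟨t₀ + sympForm m F b₀ c₀ + sympForm m F (-(κ • c₀)) (c₀ + b₀), ?_⟩
    have hcb : sympForm m F v (c₀ + b₀) = 0 := perp_of_mem_pairPerp (Submodule.add_mem _ hc₀ hb₀)
    have hnk : sympForm m F v (-(κ • c₀)) = 0 :=
      perp_of_mem_pairPerp (Submodule.neg_mem _ ((pairPerp v v').smul_mem κ hc₀))
    have e2 : eic v c₀ 0 * eic v b₀ t₀ * (eic v (κ • c₀) 0)⁻¹ =
        spT v (t₀ + sympForm m F b₀ c₀ + sympForm m F (-(κ • c₀)) (c₀ + b₀)) := by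
      rw [eic_inv hvk, neg_zero, eic_mul hva hvb, eic_mul hcb hnk, ← eic_zero v]
      congr 1
      · rw [hbc]; abel
      · ring
    rw [← e2, hω'def, ← mul_smul, mul_assoc _ σ, e1, ← mul_assoc, inv_mul_cancel_right,
      mul_assoc, mul_smul, hfix0]
  set y := spT v t₁ * σ with hydef
  -- the classes in the orbit of the transvections of the complement
  let Cl := Quotient (radSetoid (Ω := Ω) v v')
  let _ : MulAction (wGroup v v') Cl :=
    { smul := fun g => Quotient.map (fun x => (g : symplecticGroup (Fin m) F) • x)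
        fun _ _ hr => SameRad.smul (wGroup_le v v' g.2) hr
      one_smul := fun c => Quotient.inductionOn c fun x =>
        congrArg (Quotient.mk _) (one_smul _ x)
      mul_smul := fun g g' c => Quotient.inductionOn c fun x =>
        congrArg (Quotient.mk _) (mul_smul _ _ x) }
  let X := MulAction.orbit (wGroup v v') (Quotient.mk (radSetoid v v') ω' : Cl)
  have hX : Nat.card X * (W * s) ≤ Nat.card Ω := by
    choose g hg using fun x : X => x.2
    have := card_classes_mul_le (v := v) (v' := v') (fun x : X => (g x : symplecticGroup (Fin m) F))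
      (fun x => wGroup_le v v' (g x).2) ω' fun x y e => by
        refine Subtype.ext ?_
        rw [← hg x, ← hg y]
        exact Quotient.sound e
    rwa [hidx', hS'] at this
  have htriv : ∀ a ∈ pairPerp v v', ∀ c : F, SameRad v v' ω' (spT a c • ω') := by
    intro a ha c
    rcases eq_or_ne a 0 with rfl | ha0
    · have : spT (0 : Fin m ⊕ Fin m → F) c = 1 := sp_ext fun z => by simp [spT_apply]
      rw [this, one_smul]
      exact (radSetoid v v').refl' ω'
    let ψ : Multiplicative F →* wGroup v v' :=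
      { toFun := fun c => ⟨spT a c.toAdd, spT_mem_spTGroup ha _⟩
        map_one' := Subtype.ext (spT_zero a)
        map_mul' := fun c d => Subtype.ext (spT_mul a _ _).symm }
    have hinv : ∀ μ : F, μ ≠ 0 → ∃ σ' : Equiv.Perm X, ∀ c : F,
        σ' * (MulAction.toPermHom (wGroup v v') X).comp ψ (Multiplicative.ofAdd c) * σ'⁻¹ =
          (MulAction.toPermHom (wGroup v v') X).comp ψ (Multiplicative.ofAdd (μ ^ 2 * c)) := by
      intro μ hμ
      obtain ⟨g, hg, hga⟩ := exists_wGroup_move h ha ((pairPerp v v').smul_mem μ ha) ha0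
        (smul_ne_zero hμ ha0)
      refine ⟨MulAction.toPermHom (wGroup v v') X ⟨g, hg⟩, fun c => ?_⟩
      simp only [MonoidHom.comp_apply, ← map_inv, ← map_mul]
      congr 1
      refine Subtype.ext ?_
      show g * spT a c * g⁻¹ = spT a (μ ^ 2 * c)
      rw [spT_conj, hga, spT_smul, mul_comm]
    rcases perm_small ((MulAction.toPermHom (wGroup v v') X).comp ψ) hinv with h1 | ⟨h2, h3⟩
    · have := congrArg Subtype.val (Equiv.ext_iff.1
        (DFunLike.congr_fun h1 (Multiplicative.ofAdd c)) ⟨_, MulAction.mem_orbit_self _⟩)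
      exact ((radSetoid v v').symm' (Quotient.exact this))
    · exfalso
      obtain ⟨r, hr⟩ : ∃ r, q = r + 1 := ⟨q - 1, by omega⟩
      rw [hr, Nat.add_sub_cancel] at hN
      have h4 : Nat.card X * s * r < (r + 1) ^ 2 := by
        refine Nat.lt_of_mul_lt_mul_right (a := W) ?_
        calc Nat.card X * s * r * W = Nat.card X * (W * s) * r := by ring
          _ ≤ Nat.card Ω * r := Nat.mul_le_mul_right r hX
          _ < _ := hN
      rcases Nat.lt_or_ge s 3 with hs3 | hs3
      · have hse : s = 2 := by omega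
        have h2F : (2 : F) = 0 := by
          by_contra hne
          have hev : 2 ∣ Fintype.card F := by
            rw [← Nat.card_eq_fintype_card]; exact hse ▸ hsq
          have hr2 : ringChar F ≠ 2 := fun e => hne (by
            have := ringChar.Nat.cast_ringChar (R := F)
            rw [e] at this; exact_mod_cast this)
          have := FiniteField.odd_card_of_char_ne_two hr2
          omega
        have h5 := h3 h2F
        rw [hse] at h4
        nlinarith [Nat.mul_le_mul_right r (Nat.mul_le_mul_right 2 h5)]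
      · nlinarith [Nat.mul_le_mul_right r (Nat.mul_le_mul (le_refl (Nat.card X)) hs3),
          Nat.mul_le_mul_right r h2]
  have hfixclass : ∀ g ∈ wGroup v v', SameRad v v' ω' (g • ω') := by
    intro g hg
    unfold wGroup spTGroup at hg
    induction hg using Subgroup.closure_induction with
    | mem x hx => obtain ⟨a, ha, c, rfl⟩ := hx; exact htriv a ha c
    | one => rw [one_smul]; exact (radSetoid v v').refl' ω'
    | mul x y hx _ hx' hy' =>
      refine hx'.trans ?_
      rw [mul_smul]
      exact SameRad.smul (wGroup_le v v' hx) hy'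
    | inv x hx hx' =>
      have := SameRad.smul (wGroup_le v v' (inv_mem hx : x⁻¹ ∈ wGroup v v')) hx'
      rw [inv_smul_smul] at this
      exact this.symm
  have hlift : ∀ g ∈ wGroup v v', ∃ t, (spT v t * g) • ω' = ω' := by
    intro g hg
    obtain ⟨b, hb, t, hbt⟩ := (hfixclass g hg).symm
    rw [← mul_smul] at hbt
    have hvb := perp_of_mem_pairPerp hb
    have hvk := perp_of_mem_pairPerp ((pairPerp v v').smul_mem κ hb)
    suffices hb0 : b = 0 by
      subst hb0
      exact ⟨t, by rwa [eic_zero] at hbt⟩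
    have hσg := commute_wGroup hσW hg
    have hTg := spT_commute_wGroup (v := v) (v' := v') t₁ hg
    have hyb : y * eic v b t = eic v (κ • b) (κ ^ 2 * t) * y := by
      have hc : spT v t₁ * eic v (κ • b) (κ ^ 2 * t) = eic v (κ • b) (κ ^ 2 * t) * spT v t₁ := by
        rw [← eic_zero, eic_mul (sympForm_zero_right v) hvk, eic_mul hvk (sympForm_zero_right v)]
        simp [add_comm]
      rw [hydef, mul_assoc (spT v t₁) σ, hsame hσv hσW b hb t,
        ← mul_assoc (spT v t₁) _ σ, hc, mul_assoc _ (spT v t₁) σ]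
    have hyg : y * g = g * y := by rw [hydef, mul_assoc, hσg, ← mul_assoc, hTg, mul_assoc]
    have h1 : (eic v (κ • b) (κ ^ 2 * t) * g) • ω' = ω' := by
      have e : y * (eic v b t * g) = eic v (κ • b) (κ ^ 2 * t) * g * y := by
        rw [← mul_assoc, hyb, mul_assoc, hyg, ← mul_assoc]
      have := congrArg (fun z => z • ω') e
      simp only [mul_smul] at this hbt ⊢
      rw [hbt, hy] at this
      exact this.symm
    have h2 : (eic v (κ • b) (κ ^ 2 * t) * (eic v b t)⁻¹) • ω' = ω' := by
      rw [mul_smul] at hbt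
      calc (eic v (κ • b) (κ ^ 2 * t) * (eic v b t)⁻¹) • ω'
          = eic v (κ • b) (κ ^ 2 * t) • g • ω' := by rw [mul_smul]; congr 1; rw [inv_smul_eq_iff, hbt]
        _ = ω' := by rw [← mul_smul, h1]
    have hnb : sympForm m F v (-b) = 0 := perp_of_mem_pairPerp (Submodule.neg_mem _ hb)
    rw [eic_inv hvb, eic_mul hvk hnb] at h2
    have hmem : κ • b + -b ∈ aFix v v' ω' :=
      ⟨Submodule.add_mem _ ((pairPerp v v').smul_mem κ hb) (Submodule.neg_mem _ hb), _, h2⟩
    rw [hA', AddSubgroup.mem_bot, show κ • b + -b = (κ - 1) • b by rw [sub_smul, one_smul]; abel,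
      smul_eq_zero] at hmem
    exact hmem.resolve_left (sub_ne_zero.2 hκ1)
  have hcomm : ∀ g ∈ wGroup v v', ∀ g' ∈ wGroup v v', (g * g' * g⁻¹ * g'⁻¹) • ω' = ω' := by
    intro g hg g' hg'
    obtain ⟨t, ht⟩ := hlift g hg
    obtain ⟨t', ht'⟩ := hlift g' hg'
    have e : (spT v t * g) * (spT v t' * g') * (spT v t * g)⁻¹ * (spT v t' * g')⁻¹ =
        g * g' * g⁻¹ * g'⁻¹ := by
      have c1 : ∀ t, ∀ x ∈ wGroup v v', Commute (spT v t) x := fun t x hx => spT_commute_wGroup t hx
      have c2 : Commute (spT v t) (spT v t') := by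
        show spT v t * spT v t' = spT v t' * spT v t
        rw [spT_mul, spT_mul, add_comm]
      calc (spT v t * g) * (spT v t' * g') * (spT v t * g)⁻¹ * (spT v t' * g')⁻¹
          = spT v t * (g * spT v t') * g' * g⁻¹ * ((spT v t)⁻¹ * g'⁻¹) * (spT v t')⁻¹ := by group
        _ = spT v t * spT v t' * (g * g' * g⁻¹ * g'⁻¹) * (spT v t)⁻¹ * (spT v t')⁻¹ := by
            rw [← (c1 t' g hg).eq, ((c1 t g'⁻¹ (inv_mem hg')).inv_left).eq]; group
        _ = g * g' * g⁻¹ * g'⁻¹ := by
            have hg4 : g * g' * g⁻¹ * g'⁻¹ ∈ wGroup v v' :=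
              mul_mem (mul_mem (mul_mem hg hg') (inv_mem hg)) (inv_mem hg')
            rw [((c1 t _ hg4).mul_left (c1 t' _ hg4)).eq, c2.eq]; group
    rw [← e, mul_smul, mul_smul, mul_smul, inv_smul_eq_iff.2 ht'.symm, inv_smul_eq_iff.2 ht.symm,
      ht', ht]
  have hpure : ∀ a ∈ pairPerp v v', ∀ c : F, spT a c • ω' = ω' := by
    intro a ha c
    rcases eq_or_ne a 0 with rfl | ha0
    · have : spT (0 : Fin m ⊕ Fin m → F) c = 1 := sp_ext fun z => by simp [spT_apply]
      rw [this, one_smul]
    rcases Nat.lt_or_ge q 4 with hq4 | hq4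
    · have hm3 : 3 ≤ m := by
        by_contra hlt
        have := hm2 (by omega)
        omega
      have hq3 : q = 3 := by omega
      obtain ⟨u, hu, hau⟩ := pairPerp_nondeg h ha ha0
      set a'' := (sympForm m F a u)⁻¹ • u
      have ha'' : a'' ∈ pairPerp v v' := Submodule.smul_mem _ _ hu
      have haa : sympForm m F a a'' = 1 := by rw [sympForm_smul_right, inv_mul_cancel₀ hau]
      obtain ⟨x, hx, hxa, hxw⟩ : ∃ x ∈ pairPerp v v', sympForm m F a x = 0 ∧ ∀ r : F, x ≠ r • a := by
        by_contra hcon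
        push Not at hcon
        have hsl := card_slice h ha ha0 0
        rw [(card_pairPerp h).1] at hsl
        have hle : Nat.card {x : Fin m ⊕ Fin m → F // x ∈ pairPerp v v' ∧ sympForm m F a x = 0} ≤ q := by
          choose r hr using fun x : {x : Fin m ⊕ Fin m → F // x ∈ pairPerp v v' ∧ sympForm m F a x = 0} =>
            hcon x.1 x.2.1 x.2.2
          exact Nat.card_le_card_of_injective r fun x y e => Subtype.ext (by rw [hr x, hr y, e])
        have h3 : q ^ 3 ≤ q ^ (2 * m - 2) := Nat.pow_le_pow_right (by omega) (by omega)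
        have h4 : q ^ (2 * m - 2) ≤ q * q := hsl ▸ Nat.mul_le_mul_right q hle
        rw [hq3] at h3 h4
        omega
      obtain ⟨z, hz, haz, hxz⟩ := exists_perp_ne h ha ha0 hx hxw
      set a' := x + sympForm m F a'' x • a
      have ha' : a' ∈ pairPerp v v' := Submodule.add_mem _ hx (Submodule.smul_mem _ _ ha)
      have haa' : sympForm m F a a' = 0 := by
        rw [sympForm_add_right, sympForm_smul_right, sympForm_self, hxa, mul_zero, add_zero]
      have ha'z : sympForm m F a' z ≠ 0 := by
        rw [sympForm_add_left, sympForm_smul_left, haz, mul_zero, add_zero]; exact hxz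
      set b := (sympForm m F z a')⁻¹ • z
      have hba : sympForm m F b a' = 1 := by
        rw [sympForm_smul_left, inv_mul_cancel₀]
        rw [sympForm_swap]; exact neg_ne_zero.2 ha'z
      have hab : sympForm m F a b = 0 := by rw [sympForm_smul_right, haz, mul_zero]
      have hbW : b ∈ pairPerp v v' := Submodule.smul_mem _ _ hz
      have hs : ∀ d : F, eic a (d • a') 0 ∈ wGroup v v' := fun d => by
        unfold eic
        exact mul_mem (mul_mem (spT_mem_spTGroup (Submodule.add_mem _ ha (Submodule.smul_mem _ _ ha')) _)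
          (spT_mem_spTGroup ha _)) (spT_mem_spTGroup (Submodule.smul_mem _ _ ha') _)
      have hmove : ∀ d : F, (eic a (d • a') 0).1 *ᵥ b = b + d • a := fun d => by
        rw [eic_apply (by rw [sympForm_smul_right, haa', mul_zero]), sympForm_smul_right, hba,
          sympForm_swap a b, hab]
        simp
      set e := c / 2 with he
      have h20 : (2 : F) ≠ 0 := by
        intro h2
        have hr : ringChar F = 2 := by
          have := (ringChar.spec F 2).1 (by exact_mod_cast h2)
          rcases (Nat.dvd_prime Nat.prime_two).1 this with h | h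
          · exact absurd h (CharP.ringChar_ne_one)
          · exact h
        have := FiniteField.even_card_of_char_two hr
        rw [← Nat.card_eq_fintype_card] at this
        omega
      have k1 := hcomm _ (hs 1) _ (spT_mem_spTGroup hbW e)
      have k2 := hcomm _ (hs (-1)) _ (spT_mem_spTGroup hbW e)
      rw [commutator_spT, hmove, one_smul] at k1
      rw [commutator_spT, hmove] at k2
      have key : spT a c = spT (b + a) e * spT b (-e) * (spT (b + (-1 : F) • a) e * spT b (-e)) := by
        have hba0 : sympForm m F b a = 0 := by rw [sympForm_swap, hab, neg_zero]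
        refine sp_ext fun z => ?_
        simp only [Submonoid.coe_mul, ← mulVec_mulVec, spT_apply, sympForm_add_left, sympForm_add_right,
          sympForm_smul_left, sympForm_smul_right, sympForm_self, hab, hba0, mul_zero, add_zero, zero_add]
        have hc2 : c = 2 * e := by rw [he, mul_div_cancel₀ _ h20]
        rw [hc2]
        module
      rw [key, mul_smul, k2, k1]
    · obtain ⟨μ, hμ, hμ2⟩ := exists_sq_ne_one_of_four_le (F := F) (by
        rw [← Nat.card_eq_fintype_card]; exact hq4)
      obtain ⟨g, hg, hga⟩ := exists_wGroup_move h ha ((pairPerp v v').smul_mem μ ha) ha0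
        (smul_ne_zero hμ ha0)
      have := hcomm g hg _ (spT_mem_spTGroup ha (c / (μ ^ 2 - 1)))
      rw [commutator_spT, hga, spT_smul, spT_mul] at this
      have e : c / (μ ^ 2 - 1) * μ ^ 2 + -(c / (μ ^ 2 - 1)) = c := by
        field_simp [sub_ne_zero.2 hμ2]
        ring
      rwa [e] at this
  -- back to `ω`
  have hva := perp_of_mem_pairPerp hc₀
  set x := (eic v c₀ 0)⁻¹ with hxdef
  have hxv : x.1 *ᵥ v = v := by
    have h1 : sympForm m F v (-c₀) = 0 := perp_of_mem_pairPerp (Submodule.neg_mem _ hc₀)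
    have h2 : sympForm m F (-c₀) v = 0 := by rw [sympForm_swap, h1, neg_zero]
    rw [hxdef, eic_inv hva, eic_apply h1, sympForm_self, h1]
    simp
  refine ⟨x.1 *ᵥ v', by rw [← h, ← sp_form x v v', hxv], fun a ha c => ?_⟩
  have hax : x⁻¹.1 *ᵥ a ∈ pairPerp v v' := by
    rw [mem_pairPerp] at ha ⊢
    constructor
    · rw [← sp_form x, sp_mulVec_inv, hxv, ha.1]
    · rw [← sp_form x, sp_mulVec_inv, ha.2]
  have hωx : ω = x • ω' := by rw [hxdef, hω'def, inv_smul_smul]
  calc spT a c • ω = spT (x.1 *ᵥ (x⁻¹.1 *ᵥ a)) c • x • ω' := by rw [sp_mulVec_inv, ← hωx]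
    _ = x • spT (x⁻¹.1 *ᵥ a) c • ω' := by
          simp only [← spT_conj, mul_smul, inv_smul_smul]
    _ = ω := by rw [hpure _ hax c, ← hωx]

end action

end CfsgLib.SpMinIndex
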