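/-
For `m ≥ 3` and few points, the radical fixers of a point are trivial on the complement or cover
it, unless they contain the transvections at `v`.
-/
import Cfsg.Agent.Lib.SpMinIndex.Torus

set_option autoImplicit false

namespace CfsgLib.SpMinIndex

open Matrix Cfsg CfsgLib.Classical

variable {F : Type*} [Field F] {m : ℕ}
variable {Ω : Type*} [MulAction (symplecticGroup (Fin m) F) Ω]
variable {v v' : Fin m ⊕ Fin m → F}

theorem eic_comm_two (h2 : (2 : F) = 0) {a b : Fin m ⊕ Fin m → F} (ha : sympForm m F v a = 0)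
    (hb : sympForm m F v b = 0) (t s : F) : eic v a t * eic v b s = eic v b s * eic v a t := by
  rw [eic_mul ha hb, eic_mul hb ha, add_comm a b, sympForm_swap b a]
  congr 1
  linear_combination (sympForm m F b a) * h2

/-- In characteristic two the elements fixing a point are constant on radical orbits. -/
theorem SameRad.eic_fix {ω ω' : Ω} (h2 : (2 : F) = 0) (hr : SameRad v v' ω ω')
    {a : Fin m ⊕ Fin m → F} (ha : sympForm m F v a = 0) {t : F} (hf : eic v a t • ω = ω) :
    eic v a t • ω' = ω' := by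
  obtain ⟨b, hb, s, rfl⟩ := hr
  rw [← mul_smul, eic_comm_two h2 ha (perp_of_mem_pairPerp hb), mul_smul, hf]

theorem eic_fix_sub {ω : Ω} {a : Fin m ⊕ Fin m → F} (ha : sympForm m F v a = 0) {s t : F}
    (hs : eic v a s • ω = ω) (ht : eic v a t • ω = ω) : t - s ∈ sFix v ω := by
  have hn : sympForm m F v (-a) = 0 := by
    rw [← neg_one_smul F a, sympForm_smul_right, ha, mul_zero]
  rw [mem_sFix, ← eic_zero]
  have e : eic v 0 (t - s) = eic v (-a) (-s) * eic v a t := by
    rw [eic_mul hn ha, neg_add_cancel, ← neg_one_smul F a, sympForm_smul_right, sympForm_self,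
      mul_zero, add_zero, neg_add_eq_sub]
  rw [e, mul_smul, ht, ← eic_inv ha, inv_smul_eq_iff, hs]

theorem eic_mul_fix {ω : Ω} {a b : Fin m ⊕ Fin m → F} (ha : sympForm m F v a = 0)
    (hb : sympForm m F v b = 0) {s t : F} (hs : eic v a s • ω = ω) (ht : eic v b t • ω = ω) :
    eic v (a + b) (s + t + sympForm m F b a) • ω = ω := by
  rw [← eic_mul ha hb, mul_smul, ht, hs]

/-- The `c` for which conjugation by `spT u c` fixes the parameters on the line of `u`. -/
def lineKer (h2 : (2 : F) = 0) (ω : Ω) (ψ : F → F)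
    (hadd : ∀ a b, ψ (a + b) - (ψ a + ψ b) ∈ sFix v ω) : AddSubgroup F where
  carrier := {c | ∀ x : F, ψ (c * x) + c * x ^ 2 ∈ sFix v ω}
  zero_mem' := fun x => by
    have e := neg_mem (hadd 0 0)
    simp only [add_zero, sub_add_cancel_left, neg_neg] at e
    simpa using e
  add_mem' := fun {a b} ha hb x => by
    have e := add_mem (add_mem (ha x) (hb x)) (hadd (a * x) (b * x))
    rw [← add_mul a b x] at e
    convert e using 1
    ring
  neg_mem' := fun {a} ha => by
    have e : -a = a := by linear_combination -a * h2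
    rw [e]; exact ha

theorem mem_lineKer {h2 : (2 : F) = 0} {ω : Ω} {ψ : F → F}
    {hadd : ∀ a b, ψ (a + b) - (ψ a + ψ b) ∈ sFix v ω} {c : F} :
    c ∈ lineKer h2 ω ψ hadd ↔ ∀ x : F, ψ (c * x) + c * x ^ 2 ∈ sFix v ω := Iff.rfl

theorem card_lineKer_le [Finite F] (h2 : (2 : F) = 0) {ω : Ω} (hS : sFix v ω ≠ ⊤) (ψ : F → F)
    (hadd : ∀ a b, ψ (a + b) - (ψ a + ψ b) ∈ sFix v ω) :
    Nat.card (lineKer h2 ω ψ hadd) ≤ 2 := by
  by_contra hgt
  push Not at hgt
  let _ : Fintype F := Fintype.ofFinite F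
  rw [← SetLike.coe_sort_coe, Nat.card_coe_set_eq] at hgt
  obtain ⟨a, ha, b, hb, hab, ha0, hb0⟩ :
      ∃ a ∈ lineKer h2 ω ψ hadd, ∃ b ∈ lineKer h2 ω ψ hadd, a ≠ b ∧ a ≠ 0 ∧ b ≠ 0 := by
    obtain ⟨a, b, c, ha, hb, hc, hab, hac, hbc⟩ := (Set.two_lt_ncard_iff (Set.toFinite _)).1 hgt
    rcases eq_or_ne a 0 with rfl | ha0
    · exact ⟨b, hb, c, hc, hbc, hab.symm, hac.symm⟩
    rcases eq_or_ne b 0 with rfl | hb0
    · exact ⟨a, ha, c, hc, hac, ha0, hbc.symm⟩
    exact ⟨a, ha, b, hb, hab, ha0, hb0⟩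
  refine hS (eq_top_iff.2 fun t _ => ?_)
  have hne : a⁻¹ - b⁻¹ ≠ 0 := sub_ne_zero.2 fun e => hab (inv_injective e)
  obtain ⟨z, hz⟩ : ∃ z, t / (a⁻¹ - b⁻¹) = z * z := by
    have h2' : ringChar F = 2 := by
      have := (ringChar.spec F 2).1 (by exact_mod_cast h2)
      rcases (Nat.dvd_prime Nat.prime_two).1 this with h | h
      · exact absurd h CharP.ringChar_ne_one
      · exact h
    exact FiniteField.isSquare_of_char_two h2' _
  have e := sub_mem (mem_lineKer.1 ha (z / a)) (mem_lineKer.1 hb (z / b))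
  rw [mul_div_cancel₀ _ ha0, mul_div_cancel₀ _ hb0] at e
  have hval : ψ z + a * (z / a) ^ 2 - (ψ z + b * (z / b) ^ 2) = t := by
    have ht : t = z * z * (a⁻¹ - b⁻¹) := by rw [← hz, div_mul_cancel₀ _ hne]
    rw [ht]
    field_simp
    ring
  rwa [hval] at e

/-- The parameter of `a` at `spT u c • ω`. -/
theorem eic_fix_spT (h2 : (2 : F) = 0) {ω : Ω} {u a : Fin m ⊕ Fin m → F} (hu : u ∈ pairPerp v v')
    (ha : a ∈ pairPerp v v') (c : F) {s t : F} (hs : eic v a s • ω = ω)
    (ht : eic v ((c * sympForm m F a u) • u) t • ω = ω) :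
    eic v a (s + t + c * sympForm m F a u ^ 2) • (spT u c • ω) = spT u c • ω := by
  set k := c * sympForm m F a u with hk
  have hva := perp_of_mem_pairPerp ha
  have hvu := perp_of_mem_pairPerp ((pairPerp v v').smul_mem k hu)
  have e := eic_mul_fix hva hvu hs ht
  have himg : (spT u c).1 *ᵥ (a + k • u) = a := by
    rw [spT_apply, sympForm_add_left, sympForm_smul_left, sympForm_self, mul_zero, add_zero,
      ← hk, add_assoc, ← add_smul, show k + k = 0 by linear_combination k * h2, zero_smul, add_zero]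
  have hval : s + t + sympForm m F (k • u) a = s + t + c * sympForm m F a u ^ 2 := by
    rw [sympForm_smul_left, sympForm_swap a u, hk]
    linear_combination -(c * sympForm m F a u ^ 2) * h2
  rw [hval] at e
  have e2 := eic_conj' (spT u c) v (a + k • u) (s + t + c * sympForm m F a u ^ 2)
  rw [(spT_mem_leviStab hu c).1, himg] at e2
  rw [← mul_smul, ← e2, mul_smul, e]

/-- Equal orbits of two shifts give equal parameters. -/
theorem shift_key (h2 : (2 : F) = 0) {ω : Ω} {u u' a : Fin m ⊕ Fin m → F}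
    (hu : u ∈ pairPerp v v') (hu' : u' ∈ pairPerp v v') (ha : a ∈ pairPerp v v') (c d : F)
    (hij : SameRad v v' (spT u c • ω) (spT u' d • ω)) {s t₁ t₂ : F} (hs : eic v a s • ω = ω)
    (h₁ : eic v ((c * sympForm m F a u) • u) t₁ • ω = ω)
    (h₂ : eic v ((d * sympForm m F a u') • u') t₂ • ω = ω) :
    t₁ + c * sympForm m F a u ^ 2 - (t₂ + d * sympForm m F a u' ^ 2) ∈ sFix v ω := by
  have e1 := SameRad.eic_fix h2 hij (perp_of_mem_pairPerp ha) (eic_fix_spT h2 hu ha c hs h₁)
  have e2 := eic_fix_sub (perp_of_mem_pairPerp ha) (eic_fix_spT h2 hu' ha d hs h₂) e1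
  have hlev : sFix v (spT u' d • ω) = sFix v ω := by
    conv_lhs => rw [← (spT_mem_leviStab hu' d).1]
    exact sFix_smul _ v ω
  rw [hlev] at e2
  convert e2 using 1
  ring

open scoped _root_.Classical in
/-- Many shifts in different radical orbits. -/
theorem exists_shifts [Finite F] (h2 : (2 : F) = 0) (hq4 : 4 ≤ Nat.card F) {ω : Ω}
    (hS : sFix v ω ≠ ⊤) {x y w : Fin m ⊕ Fin m → F} (hx : x ∈ pairPerp v v')
    (hy : y ∈ pairPerp v v') (hwx : sympForm m F w x = 0) (hwy : sympForm m F w y = 0)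
    (hxy : sympForm m F x y = 1)
    (hperp : ∀ a ∈ pairPerp v v', sympForm m F w a = 0 → a ∈ aFix v v' ω) :
    ∃ S : Finset (symplecticGroup (Fin m) F), Nat.card F + 2 ≤ 2 * S.card ∧
      (∀ g ∈ S, g ∈ leviStab v v' ∧ aFix v v' (g • ω) = aFix v v' ω) ∧
      ∀ g ∈ S, ∀ g' ∈ S, SameRad v v' (g • ω) (g' • ω) → g = g' := by
  let _ : Fintype F := Fintype.ofFinite F
  have hyx : sympForm m F y x = 1 := by rw [sympForm_swap, hxy]; linear_combination -h2
  have hlineT : ∀ u ∈ pairPerp v v', sympForm m F w u = 0 → ∀ r : F,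
      ∃ t, eic v (r • u) t • ω = ω :=
    fun u hu hwu r => (hperp _ (Submodule.smul_mem _ _ hu)
      (by rw [sympForm_smul_right, hwu, mul_zero])).2
  have hmk : ∀ u ∈ pairPerp v v', sympForm m F w u = 0 → ∃ ψ : F → F,
      (∀ r, eic v (r • u) (ψ r) • ω = ω) ∧ ∀ a b, ψ (a + b) - (ψ a + ψ b) ∈ sFix v ω := by
    intro u hu hwu
    choose ψ hψ using hlineT u hu hwu
    refine ⟨ψ, hψ, fun a b => ?_⟩
    have hva := perp_of_mem_pairPerp ((pairPerp v v').smul_mem a hu)
    have hvb := perp_of_mem_pairPerp ((pairPerp v v').smul_mem b hu)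
    have e := eic_mul_fix hva hvb (hψ a) (hψ b)
    rw [← add_smul, sympForm_smul_left, sympForm_smul_right, sympForm_self, mul_zero, mul_zero,
      add_zero] at e
    exact eic_fix_sub (perp_of_mem_pairPerp ((pairPerp v v').smul_mem _ hu)) e (hψ (a + b))
  obtain ⟨ψx, hψx, hGx⟩ := hmk x hx hwx
  obtain ⟨ψy, hψy, hGy⟩ := hmk y hy hwy
  have z0 : ∀ ψ : F → F, (∀ a b, ψ (a + b) - (ψ a + ψ b) ∈ sFix v ω) → ψ 0 ∈ sFix v ω := by
    intro ψ hψ
    have e := neg_mem (hψ 0 0)
    simpa using e
  set K₁ := lineKer h2 ω ψx hGx with hK₁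
  set K₂ := lineKer h2 ω ψy hGy with hK₂
  let _ : Fintype (F ⧸ K₁) := Fintype.ofFinite _
  let _ : Fintype (F ⧸ K₂) := Fintype.ofFinite _
  -- shifts along `x`, and non-trivial shifts along `y`
  have hxx : ∀ c d : F ⧸ K₁, SameRad v v' (spT x c.out • ω) (spT x d.out • ω) → c = d := by
    intro c d hij
    rw [← QuotientAddGroup.out_eq' c, ← QuotientAddGroup.out_eq' d, QuotientAddGroup.eq]
    intro r
    have hra : r • y ∈ pairPerp v v' := Submodule.smul_mem _ _ hy
    have e := shift_key h2 hx hx hra c.out d.out hij (hψy r)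
      (t₁ := ψx (c.out * r)) (t₂ := ψx (d.out * r))
      (by rw [sympForm_smul_left, hyx, mul_one]; exact hψx _)
      (by rw [sympForm_smul_left, hyx, mul_one]; exact hψx _)
    rw [sympForm_smul_left, hyx, mul_one] at e
    have hadd := hGx (c.out * r) (d.out * r)
    rw [← add_mul] at hadd
    rw [show -c.out = c.out by linear_combination -c.out * h2]
    convert add_mem hadd e using 1
    linear_combination (ψx (d.out * r) + d.out * r ^ 2) * h2
  have hyy : ∀ c d : F ⧸ K₂, SameRad v v' (spT y c.out • ω) (spT y d.out • ω) → c = d := by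
    intro c d hij
    rw [← QuotientAddGroup.out_eq' c, ← QuotientAddGroup.out_eq' d, QuotientAddGroup.eq]
    intro r
    have hra : r • x ∈ pairPerp v v' := Submodule.smul_mem _ _ hx
    have e := shift_key h2 hy hy hra c.out d.out hij (hψx r)
      (t₁ := ψy (c.out * r)) (t₂ := ψy (d.out * r))
      (by rw [sympForm_smul_left, hxy, mul_one]; exact hψy _)
      (by rw [sympForm_smul_left, hxy, mul_one]; exact hψy _)
    rw [sympForm_smul_left, hxy, mul_one] at e
    have hadd := hGy (c.out * r) (d.out * r)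
    rw [← add_mul] at hadd
    rw [show -c.out = c.out by linear_combination -c.out * h2]
    convert add_mem hadd e using 1
    linear_combination (ψy (d.out * r) + d.out * r ^ 2) * h2
  have hxy' : ∀ (c : F ⧸ K₁) (d : F ⧸ K₂),
      SameRad v v' (spT x c.out • ω) (spT y d.out • ω) → d = 0 := by
    intro c d hij
    rw [← QuotientAddGroup.out_eq' d, QuotientAddGroup.eq_zero_iff]
    intro r
    have hra : r • x ∈ pairPerp v v' := Submodule.smul_mem _ _ hx
    have e := shift_key h2 hx hy hra c.out d.out hij (hψx r)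
      (t₁ := ψx 0) (t₂ := ψy (d.out * r))
      (by rw [sympForm_smul_left, sympForm_self, mul_zero, mul_zero]; exact hψx 0)
      (by rw [sympForm_smul_left, hxy, mul_one]; exact hψy _)
    rw [sympForm_smul_left, sympForm_self, mul_zero, sympForm_smul_left, hxy, mul_one,
      zero_pow two_ne_zero, mul_zero, add_zero] at e
    convert sub_mem (z0 ψx hGx) e using 1
    ring
  let T : (F ⧸ K₁) ⊕ {c : F ⧸ K₂ // c ≠ 0} → symplecticGroup (Fin m) F := fun i =>
    match i with | .inl c => spT x c.out | .inr c => spT y c.1.out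
  have hTinj : ∀ i j, SameRad v v' (T i • ω) (T j • ω) → i = j := by
    rintro (c | c) (d | d) hij
    · rw [hxx c d hij]
    · exact absurd (hxy' c d.1 hij) d.2
    · exact absurd (hxy' d c.1 hij.symm) c.2
    · rw [Subtype.ext (hyy c.1 d.1 hij)]
  have hTA : ∀ u ∈ pairPerp v v', sympForm m F w u = 0 → ∀ c : F,
      spT u c ∈ leviStab v v' ∧ aFix v v' (spT u c • ω) = aFix v v' ω := by
    intro u hu hwu c
    refine ⟨spT_mem_leviStab hu c, ?_⟩
    have hd : ∀ k : F, k • u ∈ aFix v v' ω := fun k =>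
      hperp _ (Submodule.smul_mem _ _ hu) (by rw [sympForm_smul_right, hwu, mul_zero])
    refine le_antisymm ?_ ?_ <;> intro a ha
    · have e := mem_aFix_smul (inv_mem (spT_mem_leviStab hu c)) ha
      rw [inv_smul_smul, spT_inv, spT_apply] at e
      have e2 := sub_mem e (hd (-c * sympForm m F a u))
      simpa using e2
    · have e := mem_aFix_smul (spT_mem_leviStab hu c) (add_mem ha (hd (-c * sympForm m F a u)))
      rw [spT_apply, sympForm_add_left, sympForm_smul_left, sympForm_self, mul_zero, add_zero,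
        add_assoc, ← add_smul, neg_mul, neg_add_cancel, zero_smul, add_zero] at e
      exact e
  refine ⟨Finset.univ.image T, ?_, ?_, ?_⟩
  · rw [Finset.card_image_of_injective _ (fun i j e => hTinj i j (by
      rw [e]; exact ⟨0, Submodule.zero_mem _, 0, by rw [eic_zero, spT_zero, one_smul]⟩)), Finset.card_univ, Fintype.card_sum]
    have hc : ∀ (K : AddSubgroup F), Nat.card K ≤ 2 → Nat.card F ≤ 2 * Nat.card (F ⧸ K) := by
      intro K hK
      rw [K.card_eq_card_quotient_mul_card_addSubgroup, mul_comm 2]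
      exact Nat.mul_le_mul_left _ hK
    have h1 := hc K₁ (card_lineKer_le h2 hS ψx hGx)
    have h3 := hc K₂ (card_lineKer_le h2 hS ψy hGy)
    have hsub : Fintype.card {c : F ⧸ K₂ // c ≠ 0} + 1 = Fintype.card (F ⧸ K₂) := by
      rw [← Fintype.card_option]
      exact Fintype.card_congr (Equiv.optionSubtypeNe (0 : F ⧸ K₂))
    rw [Nat.card_eq_fintype_card] at h1 h3 hq4 ⊢
    rw [Nat.card_eq_fintype_card] at h1 h3
    omega
  · simp only [Finset.mem_image, Finset.mem_univ, true_and]
    rintro g ⟨(c | c), rfl⟩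
    · exact hTA x hx hwx _
    · exact hTA y hy hwy _
  · simp only [Finset.mem_image, Finset.mem_univ, true_and]
    rintro g ⟨i, rfl⟩ g' ⟨j, rfl⟩ e
    rw [hTinj i j e]

variable [Finite F] [Finite Ω] (p : ℕ) [Fact p.Prime] [Algebra (ZMod p) F]

open scoped _root_.Classical in
include p in
/-- No fixer is a proper non-trivial subgroup of the complement without all transvections at
`v`. -/
theorem aFix_cases (h : sympForm m F v v' = 1) (hm : 3 ≤ m) (hq : 3 ≤ Nat.card F) {ω : Ω}
    (hS : sFix v ω ≠ ⊤)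
    (hN : Nat.card Ω * (Nat.card F - 1) < Nat.card F ^ 2 * Nat.card (pairPerp v v')) :
    aFix v v' ω = ⊥ ∨ aFix v v' ω = (pairPerp v v').toAddSubgroup := by
  by_contra hcon
  push Not at hcon
  obtain ⟨h0, hAW⟩ := hcon
  let _ : Fintype F := Fintype.ofFinite F
  set q := Nat.card F with hqdef
  set W := Nat.card (pairPerp v v') with hWdef
  set s := (sFix v ω).index with hsdef
  set A := aFix v v' ω with hAdef
  set L := Nat.card (imgFamily v v' (A : Set (Fin m ⊕ Fin m → F))) with hLdef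
  obtain ⟨r, hr⟩ : ∃ r, q = r + 1 := ⟨q - 1, by omega⟩
  rw [hr, Nat.add_sub_cancel] at hN
  have hs2 : 2 ≤ s := by
    have h1 : s ≠ 1 := fun e => hS (AddSubgroup.index_eq_one.1 e)
    have : 0 < s := Nat.pos_of_dvd_of_pos (AddSubgroup.index_dvd_card (sFix v ω)) (Nat.card_pos (α := F))
    omega
  have hW : q ^ 4 ≤ W := by
    rw [hWdef, (card_pairPerp h).1]
    exact Nat.pow_le_pow_right (by omega) (by omega)
  have hW' : 27 * q ≤ W := by
    have h3 : 27 ≤ q ^ 3 := le_trans (by norm_num) (Nat.pow_le_pow_left hq 3)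
    calc 27 * q ≤ q ^ 3 * q := Nat.mul_le_mul_right q h3
      _ = q ^ 4 := by ring
      _ ≤ W := hW
  have hfam := imgFamily_mul_le (v := v) (v' := v') ω
  obtain ⟨W', hW1⟩ : ∃ W', W = W' + 1 := ⟨W - 1, by omega⟩
  rcases family_bound p h hm ω h0 with hb | ⟨w, hw, hline⟩
  · change q * (W - 1) ≤ L * aIndex v v' ω at hb
    change L * (aIndex v v' ω * s) ≤ _ at hfam
    rw [hW1, Nat.add_sub_cancel, hr] at hb
    rw [hW1] at hN
    have h4 : (r + 1) * W' * 2 * r < (r + 1) * ((r + 1) * (W' + 1)) := by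
      calc (r + 1) * W' * 2 * r ≤ L * aIndex v v' ω * s * r :=
            Nat.mul_le_mul_right r (Nat.mul_le_mul hb hs2)
        _ = L * (aIndex v v' ω * s) * r := by ring
        _ ≤ Nat.card Ω * r := Nat.mul_le_mul_right r hfam
        _ < (r + 1) ^ 2 * (W' + 1) := hN
        _ = _ := by ring
    have h5 : W' * 2 * r < (r + 1) * (W' + 1) := by
      refine Nat.lt_of_mul_lt_mul_left (a := r + 1) ?_
      calc (r + 1) * (W' * 2 * r) = (r + 1) * W' * 2 * r := by ring
        _ < _ := h4
    rw [hW1, hr] at hW'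
    nlinarith
  -- the dual of `A` lies in the line of `w`
  set B := dualIn p v v' A with hBdef
  have hAle : A ≤ (pairPerp v v').toAddSubgroup := aFix_le v v' ω
  have hB0 : B ≠ ⊥ := by
    intro e
    apply hAW
    have hc := card_mul_card_dualIn p h A hAle
    rw [show dualIn p v v' A = ⊥ from e, AddSubgroup.card_bot, mul_one] at hc
    exact AddSubgroup.eq_of_le_of_card_ge hAle hc.ge
  have hw0 : w ≠ 0 := by
    rintro rfl
    refine hB0 ((AddSubgroup.eq_bot_iff_forall _).2 fun b hb => ?_)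
    obtain ⟨c, rfl⟩ := hline b hb
    exact smul_zero c
  have hperpA : ∀ a ∈ pairPerp v v', sympForm m F w a = 0 → a ∈ A := by
    intro a ha hwa
    rw [← dualIn_dualIn p h A hAle]
    refine ⟨ha, fun b hb => ?_⟩
    obtain ⟨c, rfl⟩ := hline b hb
    rw [sympForm_smul_right, sympForm_swap, hwa, neg_zero, mul_zero, map_zero]
  have hfix : ∀ a ∈ pairPerp v v', sympForm m F w a = 0 → ∃ t, eic v a t • ω = ω :=
    fun a ha hwa => (hperpA a ha hwa).2
  -- a hyperbolic pair orthogonal to `w`
  obtain ⟨x, hx, hwx, hxw⟩ : ∃ x ∈ pairPerp v v', sympForm m F w x = 0 ∧ ∀ c : F, x ≠ c • w := by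
    by_contra hc
    push Not at hc
    have hsl := card_slice h hw hw0 0
    have hle : Nat.card {x : Fin m ⊕ Fin m → F // x ∈ pairPerp v v' ∧ sympForm m F w x = 0} ≤ q := by
      choose c hc' using fun x : {x : Fin m ⊕ Fin m → F // x ∈ pairPerp v v' ∧ sympForm m F w x = 0} =>
        hc x.1 x.2.1 x.2.2
      exact Nat.card_le_card_of_injective c fun x y e => Subtype.ext (by rw [hc' x, hc' y, e])
    have hWq : W ≤ q * q := le_trans (le_of_eq hsl.symm) (Nat.mul_le_mul_right q hle)
    have h4 : q ^ 4 ≤ q ^ 2 := le_trans hW (by rw [sq]; exact hWq)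
    exact absurd h4 (not_le.2 (Nat.pow_lt_pow_right (by omega) (by norm_num)))
  obtain ⟨z, hz, hwz, hxz⟩ := exists_perp_ne h hw hw0 hx hxw
  set y := (sympForm m F x z)⁻¹ • z with hydef
  have hy : y ∈ pairPerp v v' := Submodule.smul_mem _ _ hz
  have hwy : sympForm m F w y = 0 := by rw [hydef, sympForm_smul_right, hwz, mul_zero]
  have hxy : sympForm m F x y = 1 := by rw [hydef, sympForm_smul_right, inv_mul_cancel₀ hxz]
  by_cases h2 : (2 : F) = 0
  swap
  · refine hS (eq_top_iff.2 fun c _ => ?_)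
    set b := (-(c / 2)) • y with hbdef
    have hb : b ∈ pairPerp v v' := Submodule.smul_mem _ _ hy
    obtain ⟨t₁, ht₁⟩ := hfix x hx hwx
    obtain ⟨t₂, ht₂⟩ := hfix b hb (by rw [hbdef, sympForm_smul_right, hwy, mul_zero])
    have hvx := perp_of_mem_pairPerp hx
    have hvb := perp_of_mem_pairPerp hb
    have e1 := eic_mul_fix hvx hvb ht₁ ht₂
    have e2 := eic_mul_fix hvb hvx ht₂ ht₁
    rw [add_comm b x] at e2
    have := eic_fix_sub (perp_of_mem_pairPerp (Submodule.add_mem _ hx hb)) e2 e1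
    have hbx : sympForm m F b x = c / 2 := by
      rw [hbdef, sympForm_smul_left, sympForm_swap x y, hxy]; ring
    have hval : t₁ + t₂ + sympForm m F b x - (t₂ + t₁ + sympForm m F x b) = c := by
      rw [sympForm_swap b x, hbx]
      field_simp
      ring
    rwa [hval] at this
  have hq4 : 4 ≤ q := by
    by_contra hlt
    have hq3 : Fintype.card F = 3 := by rw [← Nat.card_eq_fintype_card]; omega
    have h3 : ((Fintype.card F : ℕ) : F) = 0 := FiniteField.cast_card_eq_zero F
    rw [hq3] at h3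
    have h3' : (3 : F) = 0 := by simpa using h3
    exact one_ne_zero (α := F) (by linear_combination h3' - h2)
  obtain ⟨S, hScard, hSmem, hSinj⟩ := exists_shifts h2 hq4 hS hx hy hwx hwy hxy hperpA
  set ℬ := imgFamily v v' (A : Set (Fin m ⊕ Fin m → F))
  let _ : Fintype ℬ := Fintype.ofFinite _
  choose g hg hgD using fun D : ℬ => D.2
  have hdist : ∀ a b : ℬ × S, SameRad v v' (g a.1 • (a.2 : symplecticGroup (Fin m) F) • ω)
      (g b.1 • (b.2 : symplecticGroup (Fin m) F) • ω) → a = b := by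
    rintro ⟨D, i⟩ ⟨E, j⟩ hr'
    have hgD' := wGroup_le v v' (hg D)
    have hgE' := wGroup_le v v' (hg E)
    have hDE : D = E := by
      refine Subtype.ext ?_
      have e := congrArg (fun K : AddSubgroup (Fin m ⊕ Fin m → F) => (K : Set (Fin m ⊕ Fin m → F))) hr'.aFix_eq
      simp only [aFix_image hgD', aFix_image hgE', (hSmem _ i.2).2, (hSmem _ j.2).2] at e
      rw [← hgD D, ← hgD E]
      exact e
    subst hDE
    have e := SameRad.smul (inv_mem hgD') hr'
    rw [inv_smul_smul, inv_smul_smul] at e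
    rw [Subtype.ext (hSinj _ i.2 _ j.2 e)]
  have hsum := sum_radOrbit_le (v := v) (v' := v') _ hdist
  rw [Finset.sum_congr rfl fun a _ => by
    rw [aIndex_smul (wGroup_le v v' (hg a.1)), aIndex_smul (hSmem _ a.2.2).1,
      sFix_levi (wGroup_le v v' (hg a.1)), sFix_levi (hSmem _ a.2.2).1],
    Finset.sum_const, smul_eq_mul, Finset.card_univ, Fintype.card_prod,
    ← Nat.card_eq_fintype_card, Fintype.card_coe] at hsum
  change L * S.card * (aIndex v v' ω * s) ≤ _ at hsum
  have hidx : aIndex v v' ω = Nat.card B := index_eq_card_dualIn p h A hAle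
  rw [hidx] at hsum
  have hBq : Nat.card B ≤ q := by
    choose c hc using hline
    refine Nat.card_le_card_of_injective (fun z : B => c z.1 z.2)
      fun a b (e : c a.1 a.2 = c b.1 b.2) => ?_
    exact Subtype.ext (by rw [hc a.1 a.2, hc b.1 b.2, e])
  have hL : q * W' ≤ L * Nat.card B * r := by
    have h1 : Nat.card (pairPerp v v') - 1 ≤
        Nat.card (imgFamily v v' (B : Set (Fin m ⊕ Fin m → F))) * (Nat.card B - 1) :=
      imgFamily_bound_one h B (dualIn_le p v v' _) hB0
    have h2' : Nat.card (imgFamily v v' (B : Set (Fin m ⊕ Fin m → F))) ≤ L := card_imgFamily_dualIn_le p A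
    rw [← hWdef, hW1, Nat.add_sub_cancel] at h1
    obtain ⟨b, hb⟩ : ∃ b, Nat.card B = b + 1 := ⟨Nat.card B - 1, by
      have := (Nat.card_pos : 0 < Nat.card B); omega⟩
    rw [hb, Nat.add_sub_cancel] at h1
    have hbr : b ≤ r := by omega
    calc q * W' ≤ q * (L * b) := Nat.mul_le_mul_left q (h1.trans (Nat.mul_le_mul_right b h2'))
      _ = L * (q * b) := by ring
      _ ≤ L * ((b + 1) * r) := by
          refine Nat.mul_le_mul_left L ?_
          rw [hr]
          calc (r + 1) * b = r * b + b := by ring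
            _ ≤ r * b + r := Nat.add_le_add_left hbr _
            _ = (b + 1) * r := by ring
      _ = L * Nat.card B * r := by rw [hb]; ring
  rw [hW1] at hN
  have h5 : (q + 2) * (q * W') ≤ Nat.card Ω * r := by
    calc (q + 2) * (q * W') ≤ 2 * S.card * (L * Nat.card B * r) := Nat.mul_le_mul hScard hL
      _ = L * S.card * (Nat.card B * 2) * r := by ring
      _ ≤ L * S.card * (Nat.card B * s) * r := by gcongr
      _ ≤ _ := Nat.mul_le_mul_right r hsum
  rw [hr] at h5 hW'
  rw [hW1] at hW'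
  have h6 : (r + 1 + 2) * W' < (r + 1) * (W' + 1) := by
    refine Nat.lt_of_mul_lt_mul_left (a := r + 1) ?_
    calc (r + 1) * ((r + 1 + 2) * W') = (r + 1 + 2) * ((r + 1) * W') := by ring
      _ < (r + 1) ^ 2 * (W' + 1) := lt_of_le_of_lt h5 hN
      _ = _ := by ring
  nlinarith

end CfsgLib.SpMinIndex
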