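/-
The points whose transvection groups fix a given point of the action.
-/
import Cfsg.Agent.Lib.SpMinIndex.Families

set_option autoImplicit false

namespace CfsgLib.SpMinIndex

open Matrix Cfsg CfsgLib.Classical
open scoped LinearAlgebra.Projectivization

variable {F : Type*} [Field F] {m : ℕ}
variable {Ω : Type*} [MulAction (symplecticGroup (Fin m) F) Ω]

/-- All transvections at `u` fix `ω`. -/
def FullAt (ω : Ω) (u : Fin m ⊕ Fin m → F) : Prop := ∀ c : F, spT u c • ω = ω

theorem fullAt_iff {ω : Ω} {u : Fin m ⊕ Fin m → F} : FullAt ω u ↔ sFix u ω = ⊤ := by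
  rw [eq_top_iff]
  exact ⟨fun h c _ => h c, fun h c => h (AddSubgroup.mem_top c)⟩

theorem FullAt.smul {ω : Ω} {u : Fin m ⊕ Fin m → F} (h : FullAt ω u) (k : F) :
    FullAt ω (k • u) := fun c => by rw [spT_smul]; exact h _

theorem FullAt.conj {ω : Ω} {u : Fin m ⊕ Fin m → F} (h : FullAt ω u)
    (g : symplecticGroup (Fin m) F) : FullAt (g • ω) (g.1 *ᵥ u) := fun c => by
  rw [← spT_conj, mul_smul, mul_smul, inv_smul_smul, h c]

/-- Two non-orthogonal full vectors give a full line. -/
theorem FullAt.line {ω : Ω} {u w : Fin m ⊕ Fin m → F} (hu : FullAt ω u) (hw : FullAt ω w)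
    (hne : sympForm m F u w ≠ 0) (a b : F) : FullAt ω (a • u + b • w) := by
  rcases eq_or_ne a 0 with rfl | ha
  · rw [zero_smul, zero_add]; exact hw.smul b
  have h1 := hu.conj (spT w (b / a / sympForm m F u w))
  rw [hw _, spT_apply, div_mul_cancel₀ _ hne] at h1
  have h2 := h1.smul a
  rwa [smul_add, smul_smul, mul_div_cancel₀ _ ha] at h2

theorem spT_three {u v : Fin m ⊕ Fin m → F} (h : sympForm m F u v = 0) (k d : F) :
    spT u (k * d - d) * spT (u + v) (-(k * d)) * spT (u + k • v) d = spT v ((k ^ 2 - k) * d) := by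
  have h' : sympForm m F v u = 0 := by rw [sympForm_swap, h, neg_zero]
  refine sp_ext fun z => ?_
  simp only [Submonoid.coe_mul, ← mulVec_mulVec, spT_apply, sympForm_add_left, sympForm_add_right,
    sympForm_smul_left, sympForm_smul_right, sympForm_self, h, h', mul_zero, add_zero]
  module

variable [Finite F]

theorem exists_field_ne (hq : 3 ≤ Nat.card F) (a b : F) : ∃ c : F, c ≠ a ∧ c ≠ b := by
  classical
  let _ : Fintype F := Fintype.ofFinite F
  by_contra hc
  push Not at hc
  have hsub : (Finset.univ : Finset F) ⊆ {a, b} := fun c _ => by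
    rcases eq_or_ne c a with h | h
    · simp [h]
    · simp [hc c h]
  have h1 := Finset.card_le_card hsub
  have h2 := Finset.card_le_two (a := a) (b := b)
  rw [Finset.card_univ, ← Nat.card_eq_fintype_card] at h1
  omega

/-- A full vector orthogonal to a point whose radical fixer covers the complement lies on it. -/
theorem mem_line_of_covers {v v' u : Fin m ⊕ Fin m → F} {ω : Ω} (h : sympForm m F v v' = 1)
    (hq : 3 ≤ Nat.card F) (hA : aFix v v' ω = (pairPerp v v').toAddSubgroup)
    (hvu : sympForm m F v u = 0) (hu : FullAt ω u) :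
    (∃ c : F, u = c • v) ∨ FullAt ω v := by
  set u₀ := u + sympForm m F v' u • v
  rcases eq_or_ne u₀ 0 with e | hne
  · exact Or.inl ⟨-sympForm m F v' u, by rw [neg_smul]; exact eq_neg_of_add_eq_zero_left e⟩
  right
  have hu₀ : u₀ ∈ pairPerp v v' := exists_pairPerp_shift h hvu
  have huv : sympForm m F u v = 0 := by rw [sympForm_swap, hvu, neg_zero]
  have hshift : ∀ r : F, FullAt ω (u + r • v) := by
    intro r
    obtain ⟨z, hz, hne'⟩ := pairPerp_nondeg h hu₀ hne
    set a := (r / sympForm m F u₀ z) • z with ha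
    have haW : a ∈ pairPerp v v' := Submodule.smul_mem _ _ hz
    obtain ⟨-, t, ht⟩ : a ∈ aFix v v' ω := by rw [hA]; exact haW
    have hva := perp_of_mem_pairPerp haW
    have hval : sympForm m F u a = r := by
      have e : sympForm m F u₀ a = r := by
        rw [ha, sympForm_smul_right, div_mul_cancel₀ _ hne']
      rwa [sympForm_add_left, sympForm_smul_left, hva, mul_zero, add_zero] at e
    have h1 := hu.conj (eic v a t)
    rw [ht, eic_apply hva, hval, huv] at h1
    simpa using h1
  intro c
  obtain ⟨k, hk0, hk1⟩ := exists_field_ne hq 0 1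
  have hkk : k ^ 2 - k ≠ 0 := by
    rw [show k ^ 2 - k = k * (k - 1) by ring]
    exact mul_ne_zero hk0 (sub_ne_zero.2 hk1)
  have e := spT_three huv k (c / (k ^ 2 - k))
  rw [mul_div_cancel₀ _ hkk] at e
  have h1 := hshift 1
  rw [one_smul] at h1
  rw [← e, mul_smul, mul_smul, hshift k, h1, hu]

omit [Finite F] in
theorem eq_of_perp_pairPerp {v v' y : Fin m ⊕ Fin m → F} (h : sympForm m F v v' = 1)
    (hy : ∀ x ∈ pairPerp v v', sympForm m F y x = 0) :
    y = sympForm m F v y • v' - sympForm m F v' y • v := by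
  have h0 : y + sympForm m F v' y • v - sympForm m F v y • v' = 0 := by
    by_contra h0
    obtain ⟨z, hz, hne'⟩ := pairPerp_nondeg h (eq_pair_add_perp h y) h0
    obtain ⟨hz1, hz2⟩ := mem_pairPerp.1 hz
    apply hne'
    rw [sympForm_sub_left, sympForm_add_left, sympForm_smul_left, sympForm_smul_left, hz1, hz2,
      hy z hz]
    ring
  rw [sub_eq_zero] at h0
  rw [← h0]; abel

/-- The vectors of `U` outside its radical are full, and there are some. -/
def GoodSpace (ω : Ω) (U : Submodule F (Fin m ⊕ Fin m → F)) : Prop :=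
  (∀ u ∈ U, ∀ z ∈ U, sympForm m F u z ≠ 0 → FullAt ω u) ∧
    ∃ u ∈ U, ∃ z ∈ U, sympForm m F u z ≠ 0

/-- A good space extends by a full vector not orthogonal to it. -/
theorem GoodSpace.extend {ω : Ω} {U : Submodule F (Fin m ⊕ Fin m → F)} (hU : GoodSpace ω U)
    (hq : 3 ≤ Nat.card F) {w : Fin m ⊕ Fin m → F} (hw : FullAt ω w) {z₀ : Fin m ⊕ Fin m → F}
    (hz₀ : z₀ ∈ U) (hzw : sympForm m F z₀ w ≠ 0) : GoodSpace ω (U ⊔ Submodule.span F {w}) := by
  obtain ⟨hfull, p, hp, p', hp', hpp⟩ := hU
  -- a full vector of `U` not orthogonal to `w`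
  obtain ⟨v₀, hv₀, hv₀w, hv₀f, z₁, hz₁, hv₀z⟩ : ∃ v₀ ∈ U, sympForm m F v₀ w ≠ 0 ∧ FullAt ω v₀ ∧
      ∃ z₁ ∈ U, sympForm m F v₀ z₁ ≠ 0 := by
    by_cases hr : ∃ z ∈ U, sympForm m F z₀ z ≠ 0
    · obtain ⟨z, hz, hne⟩ := hr
      exact ⟨z₀, hz₀, hzw, hfull z₀ hz₀ z hz hne, z, hz, hne⟩
    push Not at hr
    by_cases hpw : sympForm m F p w = 0
    · have hne : sympForm m F (p + z₀) p' ≠ 0 := by rwa [sympForm_add_left, hr p' hp', add_zero]
      exact ⟨p + z₀, U.add_mem hp hz₀, by rwa [sympForm_add_left, hpw, zero_add],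
        hfull _ (U.add_mem hp hz₀) p' hp' hne, p', hp', hne⟩
    · exact ⟨p, hp, hpw, hfull p hp p' hp' hpp, p', hp', hpp⟩
  -- every vector of `U` not orthogonal to `U + w` is full
  have key : ∀ u ∈ U, ((∃ z ∈ U, sympForm m F u z ≠ 0) ∨ sympForm m F u w ≠ 0) → FullAt ω u := by
    intro u hu hne
    by_cases hr : ∃ z ∈ U, sympForm m F u z ≠ 0
    · obtain ⟨z, hz, hne'⟩ := hr; exact hfull u hu z hz hne'
    have huw : sympForm m F u w ≠ 0 := hne.resolve_left hr
    push Not at hr
    obtain ⟨c, hc0, hc⟩ := exists_field_ne hq 0 (sympForm m F u w / sympForm m F v₀ w)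
    have hd : sympForm m F (u - c • v₀) w ≠ 0 := by
      rw [sympForm_sub_left, sympForm_smul_left, sub_ne_zero]
      exact fun e => hc (by rw [e, mul_div_cancel_right₀ _ hv₀w])
    have hdf : FullAt ω (u - c • v₀) := by
      refine hfull _ (U.sub_mem hu (U.smul_mem c hv₀)) z₁ hz₁ ?_
      rw [sympForm_sub_left, hr z₁ hz₁, sympForm_smul_left, zero_sub, neg_ne_zero]
      exact mul_ne_zero hc0 hv₀z
    have h1 : FullAt ω ((1 : F) • (u - c • v₀) + (1 : F) • w) := hdf.line hw hd 1 1
    have h2 : FullAt ω (c • v₀ + (-1 : F) • w) := hv₀f.line hw hv₀w c (-1)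
    have h3 : sympForm m F ((1 : F) • (u - c • v₀) + (1 : F) • w) (c • v₀ + (-1 : F) • w) ≠ 0 := by
      simp only [sympForm_add_left, sympForm_add_right, sympForm_sub_left, sympForm_smul_left,
        sympForm_smul_right, sympForm_self, hr v₀ hv₀, sympForm_swap v₀ w]
      intro e
      apply huw
      linear_combination -e
    have h4 := h1.line h2 h3 1 1
    simpa [sub_eq_add_neg, add_assoc, add_left_comm] using h4
  refine ⟨?_, p, Submodule.mem_sup_left hp, p', Submodule.mem_sup_left hp', hpp⟩
  intro x hx z hz hne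
  obtain ⟨u, hu, _, hb, rfl⟩ := Submodule.mem_sup.1 hx
  obtain ⟨b, rfl⟩ := Submodule.mem_span_singleton.1 hb
  obtain ⟨u', hu', _, hd, rfl⟩ := Submodule.mem_sup.1 hz
  obtain ⟨d, rfl⟩ := Submodule.mem_span_singleton.1 hd
  rcases eq_or_ne b 0 with rfl | hb0
  · rw [zero_smul, add_zero] at hne ⊢
    refine key u hu ?_
    by_contra hc
    push Not at hc
    apply hne
    rw [sympForm_add_right, sympForm_smul_right, hc.1 u' hu', hc.2, mul_zero, add_zero]
  -- scale to `u₁ + w`
  set u₁ := b⁻¹ • u
  have hu₁ : u₁ ∈ U := U.smul_mem _ hu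
  suffices hx1 : FullAt ω (u₁ + w) by
    have := hx1.smul b
    rwa [smul_add, smul_smul, mul_inv_cancel₀ hb0, one_smul] at this
  have hne1 : sympForm m F (u₁ + w) (u' + d • w) ≠ 0 := fun e => hne (by
    have : u + b • w = b • (u₁ + w) := by rw [smul_add, smul_smul, mul_inv_cancel₀ hb0, one_smul]
    rw [this, sympForm_smul_left, e, mul_zero])
  by_cases huw : sympForm m F u₁ w = 0
  · have hne2 : sympForm m F (u₁ + w) u' ≠ 0 := fun e => hne1 (by
      rw [sympForm_add_right, e, sympForm_smul_right, sympForm_add_left, huw, sympForm_self]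
      ring)
    obtain ⟨y, hy, hy1, hy2⟩ := exists_both_ne_zero U (v := w) (w := u₁ + w)
      ⟨z₀, hz₀, by rw [sympForm_swap]; exact neg_ne_zero.2 hzw⟩ ⟨u', hu', hne2⟩
    have hyw : sympForm m F y w ≠ 0 := by rw [sympForm_swap]; exact neg_ne_zero.2 hy1
    have hyf : FullAt ω y := key y hy (Or.inr hyw)
    have h2 : FullAt ω ((1 : F) • y + (1 : F) • w) := hyf.line hw hyw 1 1
    have hne3 : sympForm m F (u₁ - y) ((1 : F) • y + (1 : F) • w) ≠ 0 := by
      simp only [one_smul, sympForm_sub_left, sympForm_add_right, sympForm_self, huw]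
      intro e
      apply hy2
      rw [sympForm_add_left, sympForm_swap y w]
      linear_combination e
    have h1 : FullAt ω (u₁ - y) := by
      refine key _ (U.sub_mem hu₁ hy) ?_
      by_contra hc
      push Not at hc
      apply hne3
      rw [one_smul, one_smul, sympForm_add_right, hc.1 y hy, hc.2, add_zero]
    have h4 := h1.line h2 hne3 1 1
    have e : (1 : F) • (u₁ - y) + (1 : F) • ((1 : F) • y + (1 : F) • w) = u₁ + w := by module
    rwa [e] at h4
  · have := (key u₁ hu₁ (Or.inr huw)).line hw huw 1 1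
    simpa using this

variable [Finite Ω]

/-- A point of a projective space fixed by a point fixer bounds the number of points. -/
theorem card_proj_le [MulAction.IsPretransitive (symplecticGroup (Fin m) F) Ω] {ω : Ω}
    (P : ℙ F (Fin m ⊕ Fin m → F))
    (h : ∀ g : symplecticGroup (Fin m) F, g • ω = ω → g • P = P) :
    Nat.card (ℙ F (Fin m ⊕ Fin m → F)) ≤ Nat.card Ω := by
  have := sp_isPretransitive (F := F) (m := m)
  choose g hg using fun ω' : Ω => MulAction.exists_smul_eq (symplecticGroup (Fin m) F) ω ω'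
  refine Nat.card_le_card_of_surjective (fun ω' => g ω' • P) fun P' => ?_
  obtain ⟨k, hk⟩ := MulAction.exists_smul_eq (symplecticGroup (Fin m) F) P P'
  refine ⟨k • ω, ?_⟩
  have e : (k⁻¹ * g (k • ω)) • ω = ω := by rw [mul_smul, hg, inv_smul_smul]
  have := h _ e
  rw [mul_smul, inv_smul_eq_iff] at this
  exact this.trans hk

/-- With few points, a point cannot have a complement of full vectors at each non-full vector. -/
theorem false_of_complements [MulAction.IsPretransitive (symplecticGroup (Fin m) F) Ω]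
    [Nontrivial Ω] (hm : 2 ≤ m) (hq : 3 ≤ Nat.card F) (ω : Ω)
    (hN : Nat.card Ω < Nat.card (ℙ F (Fin m ⊕ Fin m → F)))
    (hcompl : ∀ v : Fin m ⊕ Fin m → F, ¬ FullAt ω v →
      ∃ v'', sympForm m F v v'' = 1 ∧ ∀ a ∈ pairPerp v v'', FullAt ω a) : False := by
  obtain ⟨v, hv⟩ : ∃ v, ¬ FullAt ω v := by
    by_contra hc
    push Not at hc
    have htop : (⊤ : Subgroup (symplecticGroup (Fin m) F)) ≤ MulAction.stabilizer _ ω := by
      rw [← spTGroup_univ, spTGroup, Subgroup.closure_le]
      rintro A ⟨u, -, c, rfl⟩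
      exact hc u c
    obtain ⟨a, b, hab⟩ := exists_pair_ne Ω
    obtain ⟨g, hg⟩ := MulAction.exists_smul_eq (symplecticGroup (Fin m) F) ω a
    obtain ⟨g', hg'⟩ := MulAction.exists_smul_eq (symplecticGroup (Fin m) F) ω b
    exact hab ((hg.symm.trans (htop (Subgroup.mem_top g))).trans
      ((hg'.symm.trans (htop (Subgroup.mem_top g'))).symm))
  obtain ⟨v', h, hW⟩ := hcompl v hv
  set W := pairPerp v v' with hWdef
  have hWcard := card_pairPerp (F := F) h
  obtain ⟨a, ha, ha0⟩ : ∃ a ∈ W, a ≠ 0 := by
    by_contra hc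
    push Not at hc
    have : Nat.card W = 1 :=
      Nat.card_eq_one_iff_unique.2 ⟨⟨fun a b => Subtype.ext (by rw [hc a a.2, hc b b.2])⟩, ⟨0⟩⟩
    rw [hWdef, hWcard.1] at this
    exact absurd this.symm (Nat.one_lt_pow (by omega) Finite.one_lt_card).ne
  obtain ⟨b, hb, hab⟩ := pairPerp_nondeg h ha ha0
  have hgW : GoodSpace ω W := ⟨fun u hu _ _ _ => hW u hu, a, ha, b, hb, hab⟩
  obtain ⟨U, ⟨hWU, hgU⟩, hmax⟩ := WellFounded.has_min (wellFounded_gt (α := Submodule F (Fin m ⊕ Fin m → F)))
    {U | W ≤ U ∧ GoodSpace ω U} ⟨W, le_rfl, hgW⟩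
  have hperp : ∀ w, FullAt ω w → w ∈ U ∨ ∀ z ∈ U, sympForm m F z w = 0 := by
    intro w hw
    by_contra hc
    push Not at hc
    obtain ⟨hwU, z, hz, hzw⟩ := hc
    refine hmax _ ⟨le_trans hWU le_sup_left, hgU.extend hq hw hz hzw⟩ ?_
    refine lt_of_le_of_ne le_sup_left fun e => hwU ?_
    rw [e]
    exact Submodule.mem_sup_right (Submodule.mem_span_singleton_self w)
  have hdecomp : ∀ x : Fin m ⊕ Fin m → F,
      x + sympForm m F v' x • v - sympForm m F v x • v' ∈ W := fun x => eq_pair_add_perp h x
  -- the part of `U` in the plane of `v` and `v'`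
  by_cases hP : ∃ r ∈ U, r ≠ 0 ∧ ∀ w ∈ W, sympForm m F r w = 0
  · obtain ⟨r, hr, hr0, hrW⟩ := hP
    have er := eq_of_perp_pairPerp h hrW
    have hprop : ∀ y, (∀ w ∈ W, sympForm m F y w = 0) → sympForm m F r y = 0 →
        ∃ c : F, c • r = y := by
      intro y hy hry
      have ey := eq_of_perp_pairPerp h hy
      set α := sympForm m F v r
      set β := sympForm m F v' r
      set γ := sympForm m F v y
      set δ := sympForm m F v' y
      have hD : α * δ - β * γ = 0 := by
        rw [← hry]
        conv_rhs => rw [er, ey]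
        simp only [sympForm_sub_left, sympForm_sub_right, sympForm_smul_left, sympForm_smul_right,
          sympForm_self, h, sympForm_swap v v']
        ring
      rcases eq_or_ne α 0 with hα | hα
      · have hβ : β ≠ 0 := fun e => hr0 (by rw [er, hα, e]; simp)
        refine ⟨δ / β, ?_⟩
        have hγ : γ = 0 := by
          rw [hα, zero_mul, zero_sub, neg_eq_zero] at hD
          exact (mul_eq_zero.1 hD).resolve_left hβ
        rw [er, ey, hα, hγ]
        simp [smul_smul, hβ]
      · refine ⟨γ / α, ?_⟩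
        rw [er, ey, smul_sub, smul_smul, smul_smul, div_mul_cancel₀ _ hα]
        congr 2
        field_simp
        linear_combination -hD
    have hrU : ∀ z ∈ U, sympForm m F r z = 0 := by
      intro z hz
      by_contra hne
      set y := sympForm m F v z • v' - sympForm m F v' z • v with hydef
      have hyU : y ∈ U := by
        have := U.sub_mem hz (hWU (hdecomp z))
        convert this using 1
        rw [hydef]; abel
      have hry : sympForm m F r z = sympForm m F r y := by
        rw [hydef, sympForm_sub_right, sympForm_smul_right, sympForm_smul_right]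
        have h0 := hrW _ (hdecomp z)
        rw [sympForm_sub_right, sympForm_add_right, sympForm_smul_right, sympForm_smul_right] at h0
        linear_combination h0
      set α := sympForm m F v r
      set β := sympForm m F v' r
      set γ := sympForm m F v z
      set δ := sympForm m F v' z
      have hD : α * δ - β * γ ≠ 0 := by
        intro e
        apply hne
        rw [hry, er, hydef]
        simp only [sympForm_sub_left, sympForm_sub_right, sympForm_smul_left, sympForm_smul_right,
          sympForm_self, h, sympForm_swap v v']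
        linear_combination e
      have hvU : v ∈ U := by
        have hm' : (γ • r - α • y) ∈ U := U.sub_mem (U.smul_mem γ hr) (U.smul_mem α hyU)
        have e3 : γ • r - α • y = (α * δ - β * γ) • v := by rw [er, hydef]; module
        rw [e3] at hm'
        exact (U.smul_mem_iff hD).1 hm'
      have hv'U : v' ∈ U := by
        have hm' : (δ • r - β • y) ∈ U := U.sub_mem (U.smul_mem δ hr) (U.smul_mem β hyU)
        have e3 : δ • r - β • y = (α * δ - β * γ) • v' := by rw [er, hydef]; module
        rw [e3] at hm'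
        exact (U.smul_mem_iff hD).1 hm'
      exact hv (hgU.1 v hvU v' hv'U (by rw [h]; exact one_ne_zero))
    have hfullU : ∀ w, FullAt ω w → w ∈ U := by
      intro w hw
      rcases hperp w hw with h1 | h1
      · exact h1
      obtain ⟨c, rfl⟩ := hprop w
        (fun x hx => by rw [sympForm_swap, h1 x (hWU hx), neg_zero]) (h1 r hr)
      exact U.smul_mem c hr
    refine absurd (card_proj_le (ω := ω) (Projectivization.mk F r hr0) fun g hg => ?_) (not_le.2 hN)
    rw [Projectivization.smul_mk, Projectivization.mk_eq_mk_iff']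
    have hgW' : ∀ x ∈ W, g.1 *ᵥ x ∈ U := fun x hx => hfullU _ (hg ▸ (hW x hx).conj g)
    have hgr : g.1 *ᵥ r ∈ U := by
      have hne : sympForm m F (a + r) b ≠ 0 := by rwa [sympForm_add_left, hrW b hb, add_zero]
      have h1 : g.1 *ᵥ (a + r) ∈ U :=
        hfullU _ (hg ▸ (hgU.1 _ (U.add_mem (hWU ha) hr) b (hWU hb) hne).conj g)
      rw [mulVec_add] at h1
      simpa using U.sub_mem h1 (hgW' a ha)
    -- every vector of `U` is in the span of `W` and `r`, so `g` preserves `U`
    have hgU' : ∀ z ∈ U, g.1 *ᵥ z ∈ U := by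
      intro z hz
      set y := sympForm m F v z • v' - sympForm m F v' z • v with hydef
      have hyU : y ∈ U := by
        have := U.sub_mem hz (hWU (hdecomp z))
        convert this using 1
        rw [hydef]; abel
      have hyW : ∀ x ∈ W, sympForm m F y x = 0 := fun x hx => by
        rw [hWdef, mem_pairPerp] at hx
        rw [hydef, sympForm_sub_left, sympForm_smul_left, sympForm_smul_left, hx.1, hx.2]
        ring
      obtain ⟨c, hc⟩ := hprop y hyW (hrU y hyU)
      have ez : z = (z + sympForm m F v' z • v - sympForm m F v z • v') + c • r := by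
        rw [hc, hydef]; abel
      rw [ez, mulVec_add, mulVec_smul]
      exact U.add_mem (hgW' _ (hdecomp z)) (U.smul_mem c hgr)
    have hsurj : ∀ z ∈ U, ∃ y ∈ U, g.1 *ᵥ y = z := by
      have hbij := Finite.injective_iff_surjective.1
        (show Function.Injective fun y : U => (⟨g.1 *ᵥ y.1, hgU' _ y.2⟩ : U) from
          fun x y e => Subtype.ext (sp_mulVec_injective g (congrArg Subtype.val e)))
      intro z hz
      obtain ⟨y, hy⟩ := hbij ⟨z, hz⟩
      exact ⟨y.1, y.2, congrArg Subtype.val hy⟩
    obtain ⟨c, hc⟩ := hprop (g.1 *ᵥ r) (fun x hx => by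
      obtain ⟨y, hy, rfl⟩ := hsurj x (hWU hx)
      rw [sp_form]
      exact hrU y hy) (hrU _ hgr)
    exact ⟨c, hc⟩
  · push Not at hP
    -- `U = W`
    have hUW : ∀ x ∈ U, x ∈ W := by
      intro x hx
      by_contra hxW
      set r := sympForm m F v x • v' - sympForm m F v' x • v with hrdef
      have hr : r ∈ U := by
        have := U.sub_mem hx (hWU (hdecomp x))
        convert this using 1
        rw [hrdef]; abel
      have hr0 : r ≠ 0 := fun e => hxW (by
        have := hdecomp x
        have e' : x + sympForm m F v' x • v - sympForm m F v x • v' = x := by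
          rw [add_sub_assoc, ← neg_sub (sympForm m F v x • v'), ← hrdef, e, neg_zero, add_zero]
        rwa [e'] at this)
      obtain ⟨w, hw, hne⟩ := hP r hr hr0
      obtain ⟨h1, h2⟩ := mem_pairPerp.1 hw
      apply hne
      rw [hrdef, sympForm_sub_left, sympForm_smul_left, sympForm_smul_left, h1, h2]
      ring
    let W' : Submodule F (Fin m ⊕ Fin m → F) := Submodule.span F {v, v'}
    have hperpW' : ∀ y, (∀ z ∈ W, sympForm m F z y = 0) → y ∈ W' := by
      intro y hy
      rw [Submodule.mem_span_pair]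
      refine ⟨-sympForm m F v' y, sympForm m F v y, ?_⟩
      conv_rhs => rw [eq_of_perp_pairPerp (y := y) h (fun x hx => by rw [sympForm_swap, hy x hx, neg_zero])]
      module
    have hvx : ¬ FullAt ω (a + v) := by
      intro hf
      rcases hperp _ hf with h1 | h1
      · have := (hUW _ h1)
        rw [hWdef, mem_pairPerp] at this
        have e : sympForm m F v' (a + v) = -1 := by
          rw [sympForm_add_right, (mem_pairPerp.1 ha).2, sympForm_swap v v', h, zero_add]
        rw [e] at this
        exact one_ne_zero (α := F) (by linear_combination -this.2)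
      · have := h1 b (hWU hb)
        rw [sympForm_add_right, sympForm_swap a b, sympForm_swap v b, perp_of_mem_pairPerp hb] at this
        exact hab (by linear_combination -this)
    obtain ⟨x', hx', hW1⟩ := hcompl _ hvx
    have hsub : ∀ y ∈ pairPerp (a + v) x', y ∈ W ∨ y ∈ W' := fun y hy => by
      rcases hperp y (hW1 y hy) with h1 | h1
      · exact Or.inl (hUW y h1)
      · exact Or.inr (hperpW' y fun z hz => h1 z (hWU hz))
    have hor : (pairPerp (a + v) x').toAddSubgroup ≤ W.toAddSubgroup ∨
        (pairPerp (a + v) x').toAddSubgroup ≤ W'.toAddSubgroup := by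
      by_contra hc
      push Not at hc
      obtain ⟨p₁, hp₁, hn₁⟩ := SetLike.not_le_iff_exists.1 hc.1
      obtain ⟨p₂, hp₂, hn₂⟩ := SetLike.not_le_iff_exists.1 hc.2
      have hp₁' : p₁ ∈ W' := (hsub p₁ hp₁).resolve_left hn₁
      have hp₂' : p₂ ∈ W := (hsub p₂ hp₂).resolve_right hn₂
      rcases hsub (p₁ + p₂) (Submodule.add_mem _ hp₁ hp₂) with h3 | h3
      · exact hn₁ ((W.add_mem_iff_left hp₂').1 h3)
      · exact hn₂ ((W'.add_mem_iff_right hp₁').1 h3)
    rcases hor with h1 | h1
    · have heq : pairPerp (a + v) x' = W :=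
        Submodule.toAddSubgroup_injective (AddSubgroup.eq_of_le_of_card_ge h1 (le_of_eq (by
          rw [hWdef]; exact (hWcard.1).trans (card_pairPerp hx').1.symm)))
      have := perp_of_mem_pairPerp (heq ▸ hb : b ∈ pairPerp (a + v) x')
      rw [sympForm_add_left, perp_of_mem_pairPerp hb, add_zero] at this
      exact hab this
    · have hW'card : Nat.card W' ≤ Nat.card F * Nat.card F := by
        rw [← Nat.card_prod]
        refine Nat.card_le_card_of_surjective
          (fun c : F × F => (⟨c.1 • v + c.2 • v', Submodule.mem_span_pair.2 ⟨_, _, rfl⟩⟩ : W')) ?_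
        rintro ⟨y, hy⟩
        obtain ⟨c, d, rfl⟩ := Submodule.mem_span_pair.1 hy
        exact ⟨(c, d), rfl⟩
      have hle : Nat.card W' ≤ Nat.card (pairPerp (a + v) x') := by
        rw [(card_pairPerp hx').1]
        refine hW'card.trans ?_
        rw [← sq]
        exact Nat.pow_le_pow_right Nat.card_pos (by omega)
      have heq : pairPerp (a + v) x' = W' :=
        Submodule.toAddSubgroup_injective (AddSubgroup.eq_of_le_of_card_ge h1 hle)
      have hv'W : v' ∈ pairPerp (a + v) x' := heq ▸ Submodule.subset_span (by simp)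
      have := perp_of_mem_pairPerp hv'W
      rw [sympForm_add_left, h, sympForm_swap v' a, (mem_pairPerp.1 ha).2, neg_zero, zero_add] at this
      exact one_ne_zero this

end CfsgLib.SpMinIndex
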