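/-
The smallest number of points of a non-trivial transitive action of `Sp_2m(q)`, `m ≥ 3`, `q ≥ 3`.
-/
import Cfsg.Agent.Lib.SpMinIndex.Full

set_option autoImplicit false

namespace CfsgLib.SpMinIndex

open Matrix Cfsg CfsgLib.Classical
open scoped LinearAlgebra.Projectivization

variable {F : Type*} [Field F] {m : ℕ}

theorem exists_partner {u : Fin m ⊕ Fin m → F} (hu : u ≠ 0) :
    ∃ u', sympForm m F u u' = 1 := by
  obtain ⟨w, hw⟩ := exists_sympForm_ne_zero hu
  exact ⟨(sympForm m F u w)⁻¹ • w, by rw [sympForm_smul_right, inv_mul_cancel₀ hw]⟩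

variable [Finite F]

theorem exists_compl_pair {v v' : Fin m ⊕ Fin m → F} (h : sympForm m F v v' = 1) (hm : 2 ≤ m) :
    ∃ a ∈ pairPerp v v', ∃ b ∈ pairPerp v v', sympForm m F a b ≠ 0 := by
  obtain ⟨a, ha, ha0⟩ : ∃ a ∈ pairPerp v v', a ≠ 0 := by
    by_contra hc
    push Not at hc
    have : Nat.card (pairPerp v v') = 1 :=
      Nat.card_eq_one_iff_unique.2 ⟨⟨fun a b => Subtype.ext (by rw [hc a a.2, hc b b.2])⟩, ⟨0⟩⟩
    rw [(card_pairPerp h).1] at this
    exact absurd this.symm (Nat.one_lt_pow (by omega) Finite.one_lt_card).ne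
  obtain ⟨b, hb, hab⟩ := pairPerp_nondeg h ha ha0
  exact ⟨a, ha, b, hb, hab⟩

theorem card_proj_mul (F : Type*) [Field F] [Finite F] (m : ℕ) :
    Nat.card (ℙ F (Fin m ⊕ Fin m → F)) * (Nat.card F - 1) = Nat.card F ^ (2 * m) - 1 := by
  rw [← Projectivization.card, Nat.card_fun, Nat.card_sum, Nat.card_fin]
  congr 2
  omega

variable {Ω : Type*} [MulAction (symplecticGroup (Fin m) F) Ω] [Finite Ω]
variable [MulAction.IsPretransitive (symplecticGroup (Fin m) F) Ω] [Nontrivial Ω]

/-- A small action with two kinds of radical fixers only is impossible. -/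
theorem false_of_cases (hm : 2 ≤ m) (hq : 3 ≤ Nat.card F)
    (hlt : Nat.card Ω < Nat.card (ℙ F (Fin m ⊕ Fin m → F)))
    (hcases : ∀ (ω : Ω) {v v' : Fin m ⊕ Fin m → F}, sympForm m F v v' = 1 → ¬ FullAt ω v →
      (∃ v'', sympForm m F v v'' = 1 ∧ ∀ a ∈ pairPerp v v'', FullAt ω a) ∨
        aFix v v' ω = (pairPerp v v').toAddSubgroup)
    (hne : ∀ {v v' : Fin m ⊕ Fin m → F}, sympForm m F v v' = 1 →
      ∃ ω : Ω, aFix v v' ω ≠ (pairPerp v v').toAddSubgroup) : False := by
  classical
  -- every point has a pair of non-orthogonal full vectors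
  have hpair : ∀ ω : Ω, ∃ u w, FullAt ω u ∧ FullAt ω w ∧ sympForm m F u w ≠ 0 := by
    intro ω
    suffices hs : ∃ ω₁ : Ω, ∃ u w, FullAt ω₁ u ∧ FullAt ω₁ w ∧ sympForm m F u w ≠ 0 by
      obtain ⟨ω₁, u, w, hu, hw, hne⟩ := hs
      obtain ⟨g, rfl⟩ := MulAction.exists_smul_eq (symplecticGroup (Fin m) F) ω₁ ω
      exact ⟨_, _, hu.conj g, hw.conj g, by rwa [sp_form]⟩
    set i : Fin m := ⟨0, by omega⟩
    set v : Fin m ⊕ Fin m → F := Pi.single (Sum.inr i) 1
    set v' : Fin m ⊕ Fin m → F := Pi.single (Sum.inl i) 1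
    have h : sympForm m F v v' = 1 := by simp [v, v', sympForm_single_inl]
    obtain ⟨ω₁, hω₁⟩ := hne h
    refine ⟨ω₁, ?_⟩
    by_cases hv : FullAt ω₁ v
    · have hv0 : v ≠ 0 := fun e => by simp [e] at h
      by_cases hall : ∀ a ∈ pairPerp v v', FullAt ω₁ a
      · obtain ⟨a, ha, b, hb, hab⟩ := exists_compl_pair h (by omega)
        exact ⟨a, b, hall a ha, hall b hb, hab⟩
      push Not at hall
      obtain ⟨x, hx, hxf⟩ := hall
      have hx0 : x ≠ 0 := fun e => hxf (by rw [e]; simpa using hv.smul 0)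
      obtain ⟨x', hx'⟩ := exists_partner hx0
      rcases hcases ω₁ hx' hxf with ⟨x'', hx'', hW⟩ | hA
      · obtain ⟨a, ha, b, hb, hab⟩ := exists_compl_pair hx'' (by omega)
        exact ⟨a, b, hW a ha, hW b hb, hab⟩
      · exfalso
        rcases mem_line_of_covers hx' hq hA
            (by rw [sympForm_swap, perp_of_mem_pairPerp hx, neg_zero]) hv with ⟨c, hc⟩ | hc
        · have hc0 : c ≠ 0 := fun e => hv0 (by rw [hc, e, zero_smul])
          have := hv.smul c⁻¹
          rw [hc, smul_smul, inv_mul_cancel₀ hc0, one_smul] at this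
          exact hxf this
        · exact hxf hc
    · rcases hcases ω₁ h hv with ⟨v'', hv'', hW⟩ | hA
      · obtain ⟨a, ha, b, hb, hab⟩ := exists_compl_pair hv'' (by omega)
        exact ⟨a, b, hW a ha, hW b hb, hab⟩
      · exact absurd hA hω₁
  obtain ⟨ω⟩ : Nonempty Ω := inferInstance
  refine false_of_complements (by omega) hq ω hlt fun v hv => ?_
  have hv0 : v ≠ 0 := fun e => hv fun c => by
    have : spT v c = 1 := by rw [e]; exact sp_ext fun z => by simp [spT_apply]
    rw [this, one_smul]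
  obtain ⟨v', h⟩ := exists_partner hv0
  refine (hcases ω h hv).resolve_right fun hA => ?_
  obtain ⟨u, w, hu, hw, hne⟩ := hpair ω
  -- a full vector of the line of `u` and `w` orthogonal to `v`
  obtain ⟨x, hxf, hvx, hx0⟩ : ∃ x, FullAt ω x ∧ sympForm m F v x = 0 ∧ x ≠ 0 := by
    have hw0 : w ≠ 0 := fun e => hne (by rw [e, sympForm_zero_right])
    rcases eq_or_ne (sympForm m F v w) 0 with e | e
    · exact ⟨w, hw, e, hw0⟩
    · refine ⟨_, hu.line hw hne 1 (-(sympForm m F v u / sympForm m F v w)), ?_, ?_⟩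
      · rw [sympForm_add_right, sympForm_smul_right, sympForm_smul_right, neg_mul,
          div_mul_cancel₀ _ e]
        ring
      · intro e0
        have h0 := congrArg (fun z => sympForm m F z w) e0
        simp only [sympForm_add_left, sympForm_smul_left, sympForm_self, mul_zero, add_zero, one_mul,
          sympForm_zero_left] at h0
        exact hne h0
  rcases mem_line_of_covers h hq hA hvx hxf with ⟨c, rfl⟩ | hc
  · have hc0 : c ≠ 0 := fun e => hx0 (by rw [e, zero_smul])
    have := hxf.smul c⁻¹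
    rw [smul_smul, inv_mul_cancel₀ hc0, one_smul] at this
    exact hv this
  · exact hv hc


/-- A non-trivial transitive action of `Sp_2m(q)`, `m ≥ 3`, `q ≥ 3`, has at least as many points
as the projective space. -/
theorem card_ge_three (hm : 3 ≤ m) (hq : 3 ≤ Nat.card F) :
    Nat.card (ℙ F (Fin m ⊕ Fin m → F)) ≤ Nat.card Ω := by
  classical
  let _ : Fintype F := Fintype.ofFinite F
  by_contra hlt
  push Not at hlt
  set p := ringChar F
  haveI : Fact p.Prime := ⟨CharP.char_is_prime F p⟩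
  let _ : Algebra (ZMod p) F := ZMod.algebra F p
  have hN : ∀ {v v' : Fin m ⊕ Fin m → F}, sympForm m F v v' = 1 →
      Nat.card Ω * (Nat.card F - 1) < Nat.card F ^ 2 * Nat.card (pairPerp v v') := by
    intro v v' h
    rw [(card_pairPerp h).1, ← pow_add, show 2 + (2 * m - 2) = 2 * m by omega]
    have h1 : Nat.card Ω * (Nat.card F - 1) <
        Nat.card (ℙ F (Fin m ⊕ Fin m → F)) * (Nat.card F - 1) :=
      Nat.mul_lt_mul_of_pos_right hlt (by omega)
    rw [card_proj_mul] at h1
    omega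
  have hsimple := isSimpleGroup_PSp (F := F) (by omega : 2 ≤ m) (fun h => absurd h (by omega))
  have hperf := commutator_sp_eq_top (F := F) (m := m) (Or.inr (Or.inl hm))
  have hcases : ∀ (ω : Ω) {v v' : Fin m ⊕ Fin m → F}, sympForm m F v v' = 1 → ¬ FullAt ω v →
      (∃ v'', sympForm m F v v'' = 1 ∧ ∀ a ∈ pairPerp v v'', FullAt ω a) ∨
        aFix v v' ω = (pairPerp v v').toAddSubgroup := by
    intro ω v v' h hv
    have hS : sFix v ω ≠ ⊤ := fun e => hv (fullAt_iff.2 e)
    rcases aFix_cases p h hm hq hS (hN h) with h0 | h0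
    · exact Or.inl (exists_full_complement h (by omega) hq (fun e => absurd e (by omega)) hS h0 (hN h))
    · exact Or.inr h0
  exact false_of_cases (by omega) hq hlt hcases fun h => exists_aFix_ne hm hsimple hperf h

end CfsgLib.SpMinIndex
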