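/-
Images of additive subgroups of a two-dimensional complement.
-/
import Cfsg.Agent.Lib.SpMinIndex.MainThree

set_option autoImplicit false

namespace CfsgLib.SpMinIndex

open Matrix Cfsg CfsgLib.Classical

variable {F : Type*} [Field F] [Finite F] {v v' : Fin 2 ⊕ Fin 2 → F}

theorem card_pairPerp_two (h : sympForm 2 F v v' = 1) :
    Nat.card (pairPerp v v') = Nat.card F * Nat.card F := by
  rw [(card_pairPerp h).1, show 2 * 2 - 2 = 2 from rfl, sq]

theorem mem_line_of_perp (h : sympForm 2 F v v' = 1) {w x : Fin 2 ⊕ Fin 2 → F}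
    (hw : w ∈ pairPerp v v') (hw0 : w ≠ 0) (hx : x ∈ pairPerp v v')
    (hwx : sympForm 2 F w x = 0) : ∃ c : F, x = c • w := by
  have hsl := card_slice h hw hw0 0
  rw [card_pairPerp_two h] at hsl
  have hc := Nat.eq_of_mul_eq_mul_right (Nat.card_pos (α := F)) hsl
  let φ : F → {y : Fin 2 ⊕ Fin 2 → F // y ∈ pairPerp v v' ∧ sympForm 2 F w y = 0} := fun c =>
    ⟨c • w, Submodule.smul_mem _ _ hw, by rw [sympForm_smul_right, sympForm_self, mul_zero]⟩
  have hinj : Function.Injective φ := fun a b e => smul_left_injective F hw0 (congrArg Subtype.val e)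
  obtain ⟨c, e⟩ := ((Nat.bijective_iff_injective_and_card φ).2 ⟨hinj, hc.symm⟩).2 ⟨x, hx, hwx⟩
  exact ⟨c, (congrArg Subtype.val e).symm⟩

/-- An additive subgroup of order at most `q` not in a line has at least two images through each
vector. -/
theorem imgFamily_bound_two (h : sympForm 2 F v v' = 1) (C : AddSubgroup (Fin 2 ⊕ Fin 2 → F))
    (hC : ∀ x ∈ C, x ∈ pairPerp v v') (hcard : Nat.card C ≤ Nat.card F)
    {w z : Fin 2 ⊕ Fin 2 → F} (hwC : w ∈ C) (hw0 : w ≠ 0) (hzC : z ∈ C)
    (hzw : ∀ c : F, z ≠ c • w) :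
    2 * (Nat.card F * Nat.card F - 1) ≤
      Nat.card (imgFamily v v' (C : Set (Fin 2 ⊕ Fin 2 → F))) * (Nat.card C - 1) := by
  classical
  let _ : Fintype F := Fintype.ofFinite F
  set q := Nat.card F with hq
  obtain ⟨c, -, h1, h2⟩ := exists_multiplicity h C hwC (hC w hwC) hw0
  rw [card_pairPerp_two h] at h1
  refine le_trans (Nat.mul_le_mul_right _ ?_) h1
  set s := sympForm 2 F w z with hs
  have hs0 : s ≠ 0 := fun e => by
    obtain ⟨c, hc⟩ := mem_line_of_perp h (hC w hwC) hw0 (hC z hzC) e
    exact hzw c hc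
  set O : Set (Fin 2 ⊕ Fin 2 → F) := {x | x ∈ pairPerp v v' ∧ sympForm 2 F w x = s}
  have hOcard : Nat.card O = q := by
    have := card_slice h (hC w hwC) hw0 s
    rw [card_pairPerp_two h] at this
    exact Nat.eq_of_mul_eq_mul_right (Nat.card_pos (α := F)) this
  have hline : ∀ x ∈ O, ∀ r : F, x ≠ r • w := by
    rintro x ⟨-, hx⟩ r rfl
    rw [sympForm_smul_right, sympForm_self, mul_zero] at hx
    exact hs0 hx.symm
  have hOc : Nat.card O ≤ c * (q - 1) := by
    refine h2 O ?_ _ fun D hD hwD => ?_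
    · intro x hx
      obtain ⟨g, hg, hgw, hgz⟩ :=
        exists_wGroup_move_fix h (hC w hwC) hw0 (hC z hzC) hx.1 hx.2.symm hzw (hline x hx)
      exact ⟨g, hg, hgw, z, hzC, hgz⟩
    · by_contra hlt
      push Not at hlt
      obtain ⟨g, hg, rfl⟩ := hD
      set D := (fun x => g.1 *ᵥ x) '' (C : Set (Fin 2 ⊕ Fin 2 → F))
      have hDcard : Nat.card D ≤ q :=
        (Nat.card_image_of_injective (sp_mulVec_injective g) _).trans_le hcard
      have hsub : ∀ x, x ∈ O ∩ D → x ∈ O := fun x hx => hx.1
      have hfull : Nat.card ↥(O ∩ D) = q := le_antisymm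
        ((Nat.card_mono (Set.toFinite O) hsub).trans hOcard.le) (by omega)
      have heq : O ∩ D = O := Set.eq_of_subset_of_ncard_le hsub (by
        rw [← Nat.card_coe_set_eq, ← Nat.card_coe_set_eq, hOcard, hfull])
      -- `D` contains `O` and `0`
      have h0 : (0 : Fin 2 ⊕ Fin 2 → F) ∈ D := ⟨0, C.zero_mem, by simp⟩
      have hsub2 : insert 0 O ⊆ D := by
        rintro x (rfl | hx)
        · exact h0
        · have hx' : x ∈ O ∩ D := by rw [heq]; exact hx
          exact hx'.2
      have h0O : (0 : Fin 2 ⊕ Fin 2 → F) ∉ O := fun hx => hline 0 hx 0 (zero_smul F w).symm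
      have hle := Set.ncard_le_ncard hsub2 (Set.toFinite D)
      rw [Set.ncard_insert_of_notMem h0O (Set.toFinite O), ← Nat.card_coe_set_eq,
        ← Nat.card_coe_set_eq, hOcard] at hle
      omega
  by_contra hlt
  push Not at hlt
  have : c * (q - 1) ≤ q - 1 := by
    calc c * (q - 1) ≤ 1 * (q - 1) := Nat.mul_le_mul_right _ (by omega)
      _ = q - 1 := one_mul _
  have hq2 : 2 ≤ q := Finite.one_lt_card
  omega

variable {Ω : Type*} [MulAction (symplecticGroup (Fin 2) F) Ω]
variable (p : ℕ) [Fact p.Prime] [Algebra (ZMod p) F]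

include p in
open scoped _root_.Classical in
/-- The number of points in a family with a proper non-trivial `aFix`. -/
theorem family_two (h : sympForm 2 F v v' = 1) (hq : 4 ≤ Nat.card F) (ω : Ω)
    (h0 : aFix v v' ω ≠ ⊥) (hA : aFix v v' ω ≠ (pairPerp v v').toAddSubgroup) :
    (Nat.card F + 1) * (Nat.card F + 1) ≤
        Nat.card (imgFamily v v' (aFix v v' ω : Set (Fin 2 ⊕ Fin 2 → F))) * aIndex v v' ω ∨
      ∃ a ∈ pairPerp v v', a ≠ 0 ∧ ∀ x, x ∈ aFix v v' ω ↔ ∃ c : F, x = c • a := by
  set A := aFix v v' ω with hAdef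
  set B := dualIn p v v' A
  set L := Nat.card (imgFamily v v' (A : Set (Fin 2 ⊕ Fin 2 → F)))
  set q := Nat.card F with hqdef
  have hAB : Nat.card A * Nat.card B = q * q := by
    rw [card_mul_card_dualIn p h A (aFix_le v v' ω), card_pairPerp_two h]
  rw [index_eq_card_dualIn p h A (aFix_le v v' ω) |> fun e => (e : aIndex v v' ω = Nat.card B)]
  have main : ∀ (C : AddSubgroup (Fin 2 ⊕ Fin 2 → F)), (∀ x ∈ C, x ∈ pairPerp v v') → C ≠ ⊥ →
      Nat.card C ≤ q → Nat.card C ≤ Nat.card B →
      Nat.card (imgFamily v v' (C : Set (Fin 2 ⊕ Fin 2 → F))) ≤ L →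
      (q + 1) * (q + 1) ≤ L * Nat.card B ∨
        ∃ a ∈ pairPerp v v', a ≠ 0 ∧ ∀ x, x ∈ C ↔ ∃ c : F, x = c • a := by
    intro C hCW hC0 hCq hCB hCL
    set LC := Nat.card (imgFamily v v' (C : Set (Fin 2 ⊕ Fin 2 → F))) with hLC
    have hLC1 : 1 ≤ LC := by
      have : Nonempty (imgFamily v v' (C : Set (Fin 2 ⊕ Fin 2 → F))) := ⟨⟨_, 1, one_mem _, rfl⟩⟩
      exact Nat.card_pos
    obtain ⟨n, hn⟩ : ∃ n, Nat.card C = n + 1 := ⟨Nat.card C - 1, by
      have := (Nat.card_pos : 0 < Nat.card C); omega⟩
    have hstep : LC * n + LC ≤ L * Nat.card B := by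
      calc LC * n + LC = LC * Nat.card C := by rw [hn]; ring
        _ ≤ _ := Nat.mul_le_mul hCL hCB
    obtain ⟨a, haC, ha0⟩ := (C.bot_or_exists_ne_zero).resolve_left hC0
    have hq2 : q + 1 ≤ q * q := by nlinarith
    by_cases hline : ∀ x ∈ C, ∃ c : F, x = c • a
    · rcases eq_or_lt_of_le hCq with hc | hc
      · refine Or.inr ⟨a, hCW a haC, ha0, fun x => ⟨hline x, ?_⟩⟩
        rintro ⟨r, rfl⟩
        choose f hf using fun x : C => hline x.1 x.2
        have hinj : Function.Injective f := fun x y e => Subtype.ext (by rw [hf x, hf y, e])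
        obtain ⟨y, hy⟩ := ((Nat.bijective_iff_injective_and_card f).2 ⟨hinj, hc⟩).2 r
        rw [← hy, ← hf y]; exact y.2
      · left
        -- the order of `C` divides `q`
        let T : AddSubgroup F := C.comap ((LinearMap.toSpanSingleton F (Fin 2 ⊕ Fin 2 → F) a).toAddMonoidHom)
        have hT : Nat.card C = Nat.card T := by
          choose f hf using fun x : C => hline x.1 x.2
          exact (Nat.card_congr
            { toFun := fun t : T => (⟨t.1 • a, t.2⟩ : C)
              invFun := fun x => ⟨f x, by show f x • a ∈ C; rw [← hf x]; exact x.2⟩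
              left_inv := fun t => Subtype.ext (smul_left_injective F ha0 (hf ⟨t.1 • a, t.2⟩).symm)
              right_inv := fun x => Subtype.ext (hf x).symm }).symm
        obtain ⟨k, hk⟩ : Nat.card C ∣ q := hT ▸ AddSubgroup.card_addSubgroup_dvd_card T
        have h2 : 2 * Nat.card C ≤ q := by
          rcases Nat.lt_or_ge k 2 with hk2 | hk2
          · interval_cases k <;> omega
          · rw [hk, mul_comm 2]; exact Nat.mul_le_mul_left _ hk2
        have h1 : q * q - 1 ≤ LC * n := by
          have := imgFamily_bound_one h C hCW hC0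
          rw [card_pairPerp_two h, hn, Nat.add_sub_cancel] at this
          exact this
        have hL2 : 2 * q + 2 ≤ LC := by
          by_contra hlt
          push Not at hlt
          have : LC * n ≤ (2 * q + 1) * n := Nat.mul_le_mul_right _ (by omega)
          have h3 : (2 * q + 1) * n * 2 + (2 * q + 1) * 2 ≤ (2 * q + 1) * q := by
            calc (2 * q + 1) * n * 2 + (2 * q + 1) * 2 = (2 * q + 1) * (2 * (n + 1)) := by ring
              _ ≤ _ := Nat.mul_le_mul_left _ (by omega)
          have h4 : (2 * q + 1) * q = 2 * (q * q) + q := by ring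
          omega
        have : (q + 1) * (q + 1) = q * q + 2 * q + 1 := by ring
        omega
    · left
      push Not at hline
      obtain ⟨z, hzC, hza⟩ := hline
      have h1 := imgFamily_bound_two h C hCW hCq haC ha0 hzC hza
      rw [hn, Nat.add_sub_cancel] at h1
      change 2 * (q * q - 1) ≤ LC * n at h1
      have : (q + 1) * (q + 1) = q * q + 2 * q + 1 := by ring
      have h5 : 4 * q ≤ q * q := Nat.mul_le_mul_right q hq
      omega
  rcases le_or_gt (Nat.card A) q with hle | hgt
  · refine main A (aFix_le v v' ω) h0 hle ?_ le_rfl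
    by_contra hlt
    push Not at hlt
    have : Nat.card A * Nat.card B < q * q :=
      Nat.mul_lt_mul_of_le_of_lt hle (lt_of_lt_of_le hlt hle) (by omega)
    omega
  · have hB0 : B ≠ ⊥ := by
      intro e
      apply hA
      rw [show Nat.card B = 1 by rw [e, AddSubgroup.card_bot], mul_one] at hAB
      exact AddSubgroup.eq_of_le_of_card_ge (aFix_le v v' ω)
        (le_of_eq (by rw [hAB]; exact card_pairPerp_two h))
    have hBq : Nat.card B < q := by
      by_contra hle
      push Not at hle
      have := Nat.mul_lt_mul_of_lt_of_le hgt hle (by omega)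
      omega
    refine (main B (dualIn_le p v v' A) hB0 hBq.le le_rfl (card_imgFamily_dualIn_le p A)).imp_right ?_
    rintro ⟨a, -, ha0, ha⟩
    exfalso
    have hle : q ≤ Nat.card B := Nat.card_le_card_of_injective
      (fun c : F => (⟨c • a, (ha _).2 ⟨c, rfl⟩⟩ : B))
      fun x y e => smul_left_injective F ha0 (congrArg Subtype.val e)
    omega

end CfsgLib.SpMinIndex
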