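/-
`Sp_4(q)`: no point of a small action has a partial radical fixer.
-/
import Cfsg.Agent.Lib.SpMinIndex.Dim2Families

set_option autoImplicit false

namespace CfsgLib.SpMinIndex

open Matrix Cfsg CfsgLib.Classical

variable {F : Type*} [Field F]

local notation "V4" => (Fin 2 ⊕ Fin 2 → F)

theorem sub_one_sq_bound {Z k c q : ℕ} (hq : 4 ≤ q) (h1 : Z * (k - 1) ≤ (c - 1) * (q - 1))
    (hck : c ≤ k * k) (hk : 2 ≤ k) (hc : c ≤ q) : 2 * Z ≤ (q - 1) * (q + 2) := by
  obtain ⟨j, rfl⟩ : ∃ j, k = j + 1 := ⟨k - 1, by omega⟩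
  obtain ⟨n, rfl⟩ : ∃ n, q = n + 1 := ⟨q - 1, by omega⟩
  simp only [Nat.add_sub_cancel] at h1 ⊢
  rcases le_or_gt (2 * (j + 2)) (n + 3) with hj | hj
  · have hc' : c - 1 ≤ (j + 2) * j := by
      have : (j + 1) * (j + 1) = (j + 2) * j + 1 := by ring
      omega
    have : Z * j ≤ ((j + 2) * n) * j := h1.trans ((Nat.mul_le_mul_right n hc').trans (le_of_eq (by ring)))
    have hZ : Z ≤ (j + 2) * n := Nat.le_of_mul_le_mul_right this (by omega)
    nlinarith
  · have h2 : Z * j ≤ n * n := h1.trans (Nat.mul_le_mul_right n (by omega))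
    have h3 : Z * n ≤ Z * (2 * j) := Nat.mul_le_mul_left Z (by omega)
    have hZ : Z ≤ 2 * n := Nat.le_of_mul_le_mul_right (show Z * n ≤ 2 * n * n by nlinarith) (by omega)
    nlinarith

/-- The vectors `z` of the complement some transvection of which keeps `C`. -/
def keepSet (v v' : V4) (C : AddSubgroup V4) : Set V4 :=
  {z | z ∈ pairPerp v v' ∧ z ≠ 0 ∧ ∃ c : F, c ≠ 0 ∧ ∀ x ∈ C, (c * sympForm 2 F x z) • z ∈ C}

variable [Finite F]

theorem card_keepSet_line {v v' a : V4} (h : sympForm 2 F v v' = 1) {C : AddSubgroup V4}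
    (hC : ∀ x ∈ C, x ∈ pairPerp v v') (hC0 : C ≠ ⊥) (ha : ∀ x ∈ C, ∃ r : F, x = r • a) :
    Nat.card (keepSet v v' C) ≤ Nat.card F - 1 := by
  classical
  let _ : Fintype F := Fintype.ofFinite F
  obtain ⟨w, hwC, hw0⟩ := (C.bot_or_exists_ne_zero).resolve_left hC0
  have key : ∀ z ∈ keepSet v v' C, ∃ r : F, r ≠ 0 ∧ z = r • a := by
    rintro z ⟨hz, hz0, c, hc, hzC⟩
    suffices ∃ r : F, z = r • a by
      obtain ⟨r, hr⟩ := this
      exact ⟨r, fun e => hz0 (by rw [hr, e, zero_smul]), hr⟩
    by_cases e : sympForm 2 F w z = 0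
    · obtain ⟨r, hr⟩ := mem_line_of_perp h (hC w hwC) hw0 hz e
      obtain ⟨s, hs⟩ := ha w hwC
      exact ⟨r * s, by rw [hr, hs, smul_smul]⟩
    · obtain ⟨r, hr⟩ := ha _ (hzC w hwC)
      refine ⟨(c * sympForm 2 F w z)⁻¹ * r, ?_⟩
      rw [← smul_smul, ← hr, inv_smul_smul₀ (mul_ne_zero hc e)]
  choose f hf0 hf using key
  refine le_trans (Nat.card_le_card_of_injective
    (fun z : keepSet v v' C => (⟨f z.1 z.2, hf0 z.1 z.2⟩ : {r : F // r ≠ 0})) ?_) (le_of_eq ?_)
  · intro z z' e
    have e' : f z.1 z.2 = f z'.1 z'.2 := congrArg Subtype.val e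
    exact Subtype.ext (by rw [hf z.1 z.2, hf z'.1 z'.2, e'])
  · rw [Nat.card_eq_fintype_card, Fintype.card_subtype_compl, Fintype.card_subtype_eq,
      Nat.card_eq_fintype_card]

/-- Few transvections of the complement keep a small additive subgroup. -/
theorem card_keepSet_le {v v' : V4} (h : sympForm 2 F v v' = 1) (hq : 4 ≤ Nat.card F)
    {C : AddSubgroup V4} (hC : ∀ x ∈ C, x ∈ pairPerp v v') (hC0 : C ≠ ⊥)
    (hcard : Nat.card C ≤ Nat.card F) :
    2 * Nat.card (keepSet v v' C) ≤ (Nat.card F - 1) * (Nat.card F + 2) := by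
  classical
  let _ : Fintype F := Fintype.ofFinite F
  let K : V4 → AddSubgroup V4 := fun z => C ⊓ (Submodule.span F {z}).toAddSubgroup
  have hK : ∀ z x, x ∈ K z ↔ x ∈ C ∧ ∃ r : F, r • z = x := fun z x => by
    simp [K, AddSubgroup.mem_inf, Submodule.mem_span_singleton]
  -- the order of `C` is at most the square of its part on a kept line
  have hsq : ∀ z ∈ keepSet v v' C, 2 ≤ Nat.card (K z) ∧ Nat.card C ≤ Nat.card (K z) * Nat.card (K z) := by
    rintro z ⟨hz, hz0, c, hc, hzC⟩
    let φ : C →+ K z := AddMonoidHom.mk'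
      (fun x => ⟨(c * sympForm 2 F x.1 z) • z, (hK _ _).2 ⟨hzC x.1 x.2, _, rfl⟩⟩)
      fun x y => Subtype.ext (by
        simp only [AddSubgroup.coe_add, sympForm_add_left, mul_add, add_smul])
    have hker : ∀ x, x ∈ φ.ker → (x : V4) ∈ K z := by
      intro x hx
      have e : (c * sympForm 2 F x.1 z) • z = 0 := congrArg Subtype.val (AddMonoidHom.mem_ker.1 hx)
      have e' : sympForm 2 F z x.1 = 0 := by
        rw [sympForm_swap, ((mul_eq_zero.1 ((smul_eq_zero.1 e).resolve_right hz0)).resolve_left hc),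
          neg_zero]
      obtain ⟨r, hr⟩ := mem_line_of_perp h hz hz0 (hC x.1 x.2) e'
      exact (hK _ _).2 ⟨x.2, r, hr.symm⟩
    have h1 : Nat.card φ.ker ≤ Nat.card (K z) := Nat.card_le_card_of_injective
      (fun x => (⟨x.1.1, hker x.1 x.2⟩ : K z)) fun x y e => Subtype.ext (Subtype.ext (congrArg (fun w : K z => (w : V4)) e))
    have h2 : φ.ker.index ≤ Nat.card (K z) := by
      rw [AddSubgroup.index_ker]
      exact Nat.card_le_card_of_injective _ Subtype.val_injective
    have h3 : Nat.card C ≤ Nat.card (K z) * Nat.card (K z) := by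
      rw [← φ.ker.card_mul_index]
      exact Nat.mul_le_mul h1 h2
    refine ⟨?_, h3⟩
    by_contra hlt
    push Not at hlt
    have hC1 : 1 < Nat.card C := AddSubgroup.one_lt_card_iff_ne_bot _ |>.2 hC0
    interval_cases Nat.card (K z) <;> omega
  rcases isEmpty_or_nonempty (keepSet v v' C) with he | hne
  · rw [Nat.card_of_isEmpty]; simp
  obtain ⟨z₀, -, hmin⟩ := Finset.exists_min_image (Finset.univ : Finset (keepSet v v' C))
    (fun z => Nat.card (K z.1)) Finset.univ_nonempty
  set k := Nat.card (K z₀.1)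
  refine sub_one_sq_bound hq ?_ (hsq _ z₀.2).2 (hsq _ z₀.2).1 hcard
  -- pairs of a kept vector and a non-zero element of its line in `C`
  have hne0 : ∀ G : AddSubgroup V4, Nat.card {x : G // x ≠ 0} = Nat.card G - 1 := fun G => by
    rw [Nat.card_eq_fintype_card, Fintype.card_subtype_compl, Fintype.card_subtype_eq,
      Nat.card_eq_fintype_card]
  have hF0 : Nat.card {r : F // r ≠ 0} = Nat.card F - 1 := by
    rw [Nat.card_eq_fintype_card, Fintype.card_subtype_compl, Fintype.card_subtype_eq,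
      Nat.card_eq_fintype_card]
  have hex : ∀ (z : keepSet v v' C) (x : {x : K z.1 // x ≠ 0}),
      ∃ r : {r : F // r ≠ 0}, r.1 • z.1 = x.1.1 := by
    intro z x
    obtain ⟨-, r, hr⟩ := (hK _ _).1 x.1.2
    exact ⟨⟨r, fun e => x.2 (Subtype.ext (by rw [← hr, e, zero_smul]; rfl))⟩, hr⟩
  choose r hr using hex
  let φ : (Σ z : keepSet v v' C, {x : K z.1 // x ≠ 0}) → {x : C // x ≠ 0} × {r : F // r ≠ 0} :=
    fun p => (⟨⟨p.2.1.1, ((hK _ _).1 p.2.1.2).1⟩, fun e => p.2.2 (Subtype.ext (congrArg (fun w : C => (w : V4)) e))⟩, r p.1 p.2)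
  have hφ : Function.Injective φ := by
    rintro ⟨z, x⟩ ⟨z', x'⟩ e
    obtain ⟨e1, e2⟩ := Prod.ext_iff.1 e
    have ex : x.1.1 = x'.1.1 := congrArg (fun w : {x : C // x ≠ 0} => (w.1 : V4)) e1
    obtain rfl : z = z' := by
      have e2' : (r z x).1 = (r z' x').1 := congrArg Subtype.val e2
      have := hr z x
      rw [ex, ← hr z' x', ← e2'] at this
      exact Subtype.ext (smul_right_injective _ (r z x).2 this)
    obtain rfl : x = x' := Subtype.ext (Subtype.ext ex)
    rfl
  have h1 := Nat.card_le_card_of_injective φ hφ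
  rw [Nat.card_sigma, Nat.card_prod, hne0, hF0] at h1
  refine le_trans ?_ h1
  calc Nat.card (keepSet v v' C) * (k - 1) = ∑ _z : keepSet v v' C, (k - 1) := by
        rw [Finset.sum_const, smul_eq_mul, Finset.card_univ, Nat.card_eq_fintype_card]
    _ ≤ _ := Finset.sum_le_sum fun z _ => by
        rw [hne0]
        exact Nat.sub_le_sub_right (hmin z (Finset.mem_univ _)) 1

/-- The number of vectors orthogonal to `x` outside its line. -/
theorem card_perp_indep {x : V4} (hx : x ≠ 0) :
    Nat.card {y : V4 // sympForm 2 F x y = 0 ∧ ∀ c : F, y ≠ c • x} =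
      Nat.card F ^ 3 - Nat.card F := by
  classical
  let _ : Fintype F := Fintype.ofFinite F
  set K := LinearMap.ker (spBilin 2 F x)
  have hsur : Function.Surjective (spBilin 2 F x) := by
    obtain ⟨w, hw⟩ := exists_sympForm_ne_zero hx
    intro c
    exact ⟨(c / sympForm 2 F x w) • w, by simp [sympForm_smul_right, div_mul_cancel₀ _ hw]⟩
  have hK : Nat.card K = Nat.card F ^ 3 := by
    have hr := LinearMap.finrank_range_add_finrank_ker (spBilin 2 F x)
    rw [LinearMap.range_eq_top.2 hsur, finrank_top, Module.finrank_self, Module.finrank_pi,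
      Fintype.card_sum, Fintype.card_fin] at hr
    rw [Module.natCard_eq_pow_finrank (K := F)]
    congr 1
    change 1 + Module.finrank F K = 2 + 2 at hr
    omega
  have hsub : Set.range (fun c : F => c • x) ⊆ (K : Set V4) := by
    rintro _ ⟨c, rfl⟩
    simp [K, sympForm_smul_right, sympForm_self]
  have e : {y : V4 | sympForm 2 F x y = 0 ∧ ∀ c : F, y ≠ c • x} =
      (K : Set V4) \ Set.range (fun c : F => c • x) := by
    ext y
    simp [K, eq_comm]
  rw [show Nat.card {y : V4 // sympForm 2 F x y = 0 ∧ ∀ c : F, y ≠ c • x} =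
      Nat.card {y : V4 | sympForm 2 F x y = 0 ∧ ∀ c : F, y ≠ c • x} from rfl,
    Nat.card_coe_set_eq, e, Set.ncard_sdiff hsub, ← Nat.card_coe_set_eq, ← Nat.card_coe_set_eq,
    Nat.card_range_of_injective (smul_left_injective F hx)]
  exact congrArg (· - _) hK

variable {Ω : Type*} [MulAction (symplecticGroup (Fin 2) F) Ω]

omit [Finite F] in
/-- A transvection at `z + d v` fixing `ω` gives an element keeping the radical fixer. -/
theorem mem_keepSet_of_fix {v v' z : V4} {ω : Ω} (h : sympForm 2 F v v' = 1)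
    (hz : z ∈ pairPerp v v') (hz0 : z ≠ 0) {c d : F} (hc : c ≠ 0)
    (hfix : spT (z + d • v) c • ω = ω) : z ∈ keepSet v v' (aFix v v' ω) := by
  refine ⟨hz, hz0, c, hc, fun a ha => ?_⟩
  obtain ⟨haW, t, hat⟩ := ha
  obtain ⟨hva, hv'a⟩ := mem_pairPerp.1 haW
  obtain ⟨hvz, hv'z⟩ := mem_pairPerp.1 hz
  set g := spT (z + d • v) c
  set k := c * sympForm 2 F a z with hk
  have hgv : g.1 *ᵥ v = v := spT_fix (by
    rw [sympForm_add_right, sympForm_smul_right, hvz, sympForm_self, mul_zero, add_zero]) _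
  have hga : g.1 *ᵥ a = (a + k • z) + (k * d) • v := by
    rw [spT_apply, sympForm_add_right, sympForm_smul_right, sympForm_swap v a, hva, neg_zero,
      mul_zero, add_zero, smul_add, smul_smul, add_assoc]
  have h1 : eic v (g.1 *ᵥ a) t • ω = ω := by
    have h2 : (g * eic v a t) • ω = ω := by rw [mul_smul, hat, hfix]
    rwa [eic_conj', hgv, mul_smul, hfix] at h2
  have hW : a + k • z ∈ pairPerp v v' := Submodule.add_mem _ haW (Submodule.smul_mem _ _ hz)
  rw [hga, eic_shift (perp_of_mem_pairPerp hW)] at h1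
  have h3 : a + k • z ∈ aFix v v' ω := ⟨hW, _, h1⟩
  have h4 := sub_mem h3 (show a ∈ aFix v v' ω from ⟨haW, t, hat⟩)
  rwa [add_sub_cancel_left] at h4

omit [Finite F] in
theorem keepSet_dualIn (p : ℕ) [Fact p.Prime] [Algebra (ZMod p) F] (v v' : V4) (C : AddSubgroup V4) :
    keepSet v v' C ⊆ keepSet v v' (dualIn p v v' C) := by
  rintro z ⟨hz, hz0, c, hc, hzC⟩
  refine ⟨hz, hz0, c, hc, fun b hb => ⟨Submodule.smul_mem _ _ hz, fun a ha => ?_⟩⟩
  have h1 := hb.2 _ (hzC a ha)
  rw [sympForm_smul_right] at h1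
  rw [sympForm_smul_left, sympForm_swap a z]
  have : c * sympForm 2 F b z * -sympForm 2 F a z = -(c * sympForm 2 F a z * sympForm 2 F b z) := by
    ring
  rw [this, map_neg, h1, neg_zero]

/-- Counting ordered bases of totally isotropic planes bounds the vectors with a property that fails
on many planes through them. -/
theorem count_le (P : V4 → Prop) (G k : ℕ)
    (hgood : ∀ u, P u → ∃ u', sympForm 2 F u u' = 1 ∧ G ≤ k * Nat.card {z : V4 // z ∈ pairPerp u u' ∧
      z ≠ 0 ∧ ∀ d r : F, r ≠ 0 → ¬ P (r • (z + d • u))}) :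
    Nat.card {u : V4 // P u} * G ≤ k * ((Nat.card F ^ 4 - 1) * (Nat.card F - 1)) := by
  classical
  let _ : Fintype F := Fintype.ofFinite F
  set q := Nat.card F with hqdef
  choose u' hu' hG using hgood
  let T : {u : V4 // P u} → Type _ := fun u => {z : V4 // z ∈ pairPerp u.1 (u' u.1 u.2) ∧
    z ≠ 0 ∧ ∀ d r : F, r ≠ 0 → ¬ P (r • (z + d • u.1))}
  have hu0 : ∀ u : {u : V4 // P u}, u.1 ≠ 0 := fun u e => by
    have h1 : ∀ w, sympForm 2 F u.1 w = 0 := fun w => by rw [e, sympForm_zero_left]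
    exact zero_ne_one ((h1 _).symm.trans (hu' u.1 u.2))
  let fst : (Σ u : {u : V4 // P u}, T u × Option F × F) → V4 × V4 := fun p =>
    match p.2.2.1 with
    | none => (p.1.1, p.2.1.1 + p.2.2.2 • p.1.1)
    | some d => (p.2.1.1 + d • p.1.1, p.1.1 + p.2.2.2 • (p.2.1.1 + d • p.1.1))
  have hmem : ∀ p, (fst p).1 ≠ 0 ∧ sympForm 2 F (fst p).1 (fst p).2 = 0 ∧
      ∀ c : F, (fst p).2 ≠ c • (fst p).1 := by
    rintro ⟨⟨u, hu⟩, ⟨z, hz, hz0, hzP⟩, e, c⟩
    have h := hu' u hu
    obtain ⟨huz, hu'z⟩ := mem_pairPerp.1 hz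
    have hzu' : sympForm 2 F z (u' u hu) = 0 := by rw [sympForm_swap, hu'z, neg_zero]
    have hzu : sympForm 2 F z u = 0 := by rw [sympForm_swap, huz, neg_zero]
    cases e with
    | none =>
      refine ⟨hu0 ⟨u, hu⟩, ?_, fun r e => hz0 ?_⟩
      · show sympForm 2 F u (z + c • u) = 0
        rw [sympForm_add_right, sympForm_smul_right, huz, sympForm_self, mul_zero, add_zero]
      · have e' : z + c • u = r • u := e
        have h1 := congrArg (fun w => sympForm 2 F w (u' u hu)) e'
        simp only [sympForm_add_left, sympForm_smul_left, h, hzu', zero_add, mul_one] at h1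
        rw [h1, add_eq_right] at e'
        exact e'
    | some d =>
      refine ⟨fun e => hz0 ?_, ?_, fun r e => hz0 ?_⟩
      · have e' : z + d • u = 0 := e
        have h1 := congrArg (fun w => sympForm 2 F w (u' u hu)) e'
        simp only [sympForm_add_left, sympForm_smul_left, h, hzu', zero_add, mul_one,
          sympForm_zero_left] at h1
        rwa [h1, zero_smul, add_zero] at e'
      · show sympForm 2 F (z + d • u) (u + c • (z + d • u)) = 0
        rw [sympForm_add_right, sympForm_smul_right, sympForm_self, mul_zero, add_zero,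
          sympForm_add_left, sympForm_smul_left, hzu, sympForm_self, mul_zero, add_zero]
      · have e' : u = (r - c) • (z + d • u) := by
          rw [sub_smul]; exact eq_sub_of_add_eq e
        have h1 := congrArg (fun w => sympForm 2 F w (u' u hu)) e'
        simp only [sympForm_smul_left, sympForm_add_left, h, hzu', zero_add, mul_one] at h1
        rw [smul_add, smul_smul, ← h1, one_smul, right_eq_add, smul_eq_zero] at e'
        exact e'.resolve_left fun e0 => one_ne_zero (α := F) (by rw [h1, e0, zero_mul])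
  have hinj : Function.Injective fst := by
    rintro ⟨⟨u, hu⟩, ⟨z, hz, hz0, hzP⟩, e, c⟩ ⟨⟨w, hw⟩, ⟨y, hy, hy0, hyP⟩, e₂, c₂⟩ he
    have hd : ∀ {u z : V4} (hu : P u), z ∈ pairPerp u (u' u hu) → ∀ d : F,
        sympForm 2 F (z + d • u) (u' u hu) = d := by
      intro u z hu hz d
      rw [sympForm_add_left, sympForm_smul_left, hu' u hu, sympForm_swap (u' u hu) z,
        (mem_pairPerp.1 hz).2]
      ring
    cases e with
    | none =>
      cases e₂ with
      | none =>
        obtain ⟨e1, e2⟩ := Prod.ext_iff.1 he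
        have e1' : u = w := e1
        subst e1'
        have e2' : z + c • u = y + c₂ • u := e2
        have h1 := hd hu hz c
        rw [e2', hd hu hy c₂] at h1
        subst h1
        obtain rfl : z = y := add_right_cancel e2'
        rfl
      | some d₂ =>
        obtain ⟨e1, -⟩ := Prod.ext_iff.1 he
        have e1' : u = y + d₂ • w := e1
        exact absurd hu (e1' ▸ by simpa using hyP d₂ 1 one_ne_zero)
    | some d =>
      cases e₂ with
      | none =>
        obtain ⟨e1, -⟩ := Prod.ext_iff.1 he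
        have e1' : z + d • u = w := e1
        exact absurd hw (e1'.symm ▸ by simpa using hzP d 1 one_ne_zero)
      | some d₂ =>
        obtain ⟨e1, e2⟩ := Prod.ext_iff.1 he
        have e1' : z + d • u = y + d₂ • w := e1
        have e2' : u + c • (z + d • u) = w + c₂ • (z + d • u) := by rw [e1']; rw [← e1']; exact e2.trans (by rw [e1'])
        obtain rfl : c = c₂ := by
          by_contra hne
          have hne' : c - c₂ ≠ 0 := sub_ne_zero.2 hne
          refine hzP (d + (c - c₂)⁻¹) (c - c₂) hne' ?_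
          have : (c - c₂) • (z + (d + (c - c₂)⁻¹) • u) = w := by
            rw [add_smul, ← add_assoc, smul_add, smul_smul, mul_inv_cancel₀ hne', one_smul, sub_smul,
              sub_add_eq_add_sub, add_comm _ u, e2', add_sub_cancel_right]
          rwa [this]
        obtain rfl : u = w := add_right_cancel e2'
        have h1 := hd hu hz d
        rw [e1', hd hu hy d₂] at h1
        subst h1
        obtain rfl : z = y := add_right_cancel e1'
        rfl
  have key := Nat.card_le_card_of_injective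
    (fun p => (⟨⟨(fst p).1, (hmem p).1⟩, ⟨(fst p).2, (hmem p).2⟩⟩ :
      Σ x : {x : V4 // x ≠ 0}, {y : V4 // sympForm 2 F x.1 y = 0 ∧ ∀ c : F, y ≠ c • x.1}))
    fun p p' e => hinj (Prod.ext (congrArg (fun s => s.1.1) e) (congrArg (fun s => s.2.1) e))
  rw [Nat.card_sigma, Nat.card_sigma, Finset.sum_congr rfl fun x _ => card_perp_indep x.2,
    Finset.sum_const, smul_eq_mul, Finset.card_univ, ← Nat.card_eq_fintype_card] at key
  have hV : Nat.card {x : V4 // x ≠ 0} = q ^ 4 - 1 := by
    rw [Nat.card_eq_fintype_card, Fintype.card_subtype_compl, Fintype.card_subtype_eq,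
      ← Nat.card_eq_fintype_card, Nat.card_fun, Nat.card_sum, Nat.card_fin]
  rw [hV] at key
  refine Nat.le_of_mul_le_mul_right (c := (q + 1) * q) ?_ (Nat.mul_pos (by omega) Nat.card_pos)
  calc Nat.card {u : V4 // P u} * G * ((q + 1) * q)
      = ∑ _u : {u : V4 // P u}, G * ((q + 1) * q) := by
        rw [Finset.sum_const, smul_eq_mul, Finset.card_univ, Nat.card_eq_fintype_card, mul_assoc]
    _ ≤ ∑ u : {u : V4 // P u}, k * Nat.card (T u × Option F × F) := Finset.sum_le_sum fun u _ => by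
        rw [Nat.card_prod, Nat.card_prod, Finite.card_option, ← hqdef, ← mul_assoc k]
        exact Nat.mul_le_mul_right _ (hG u.1 u.2)
    _ = k * ∑ u : {u : V4 // P u}, Nat.card (T u × Option F × F) := (Finset.mul_sum ..).symm
    _ ≤ k * ((q ^ 4 - 1) * (q ^ 3 - q)) := Nat.mul_le_mul_left _ key
    _ = _ := by
        have : q ^ 3 - q = (q - 1) * ((q + 1) * q) := by
          rw [Nat.sub_one_mul, show q * ((q + 1) * q) = q ^ 3 + q ^ 2 by ring,
            show (q + 1) * q = q ^ 2 + q by ring]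
          omega
        rw [this]; ring

variable [Finite Ω] [MulAction.IsPretransitive (symplecticGroup (Fin 2) F) Ω]

omit [Finite F] in
/-- Counting the pairs of a point and a vector with an invariant property. -/
theorem double_count [Finite F] (P : Ω → V4 → Prop) (hP0 : ∀ ω u, P ω u → u ≠ 0)
    (hPg : ∀ (g : symplecticGroup (Fin 2) F) ω u, P ω u → P (g • ω) (g.1 *ᵥ u)) (ω : Ω) {v : V4}
    (hv : v ≠ 0) :
    Nat.card Ω * Nat.card {u : V4 // P ω u} =
      (Nat.card F ^ 4 - 1) * Nat.card {ω' : Ω // P ω' v} := by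
  classical
  let _ : Fintype F := Fintype.ofFinite F
  let _ : Fintype Ω := Fintype.ofFinite Ω
  have hiff : ∀ (g : symplecticGroup (Fin 2) F) ω u, P (g • ω) (g.1 *ᵥ u) ↔ P ω u := fun g ω u =>
    ⟨fun h => by
      have := hPg g⁻¹ _ _ h
      rwa [inv_smul_smul, sp_inv_mulVec] at this, hPg g ω u⟩
  have hr : ∀ ω', Nat.card {u : V4 // P ω' u} = Nat.card {u : V4 // P ω u} := by
    intro ω'
    obtain ⟨g, rfl⟩ := MulAction.exists_smul_eq (symplecticGroup (Fin 2) F) ω ω'
    exact (Nat.card_congr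
      { toFun := fun u : {u : V4 // P ω u} => (⟨g.1 *ᵥ u.1, hPg g ω u.1 u.2⟩ : {u : V4 // P (g • ω) u})
        invFun := fun u => ⟨g⁻¹.1 *ᵥ u.1, (hiff g _ _).1 (by rw [sp_mulVec_inv]; exact u.2)⟩
        left_inv := fun u => Subtype.ext (sp_inv_mulVec g u.1)
        right_inv := fun u => Subtype.ext (sp_mulVec_inv g u.1) }).symm
  have hn : ∀ x : {x : V4 // x ≠ 0},
      Nat.card {ω' : Ω // P ω' x.1} = Nat.card {ω' : Ω // P ω' v} := by
    intro x
    obtain ⟨g, -, hg⟩ := exists_sp_move hv x.2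
    refine (Nat.card_congr
      { toFun := fun o : {ω' : Ω // P ω' v} => (⟨g • o.1, hg ▸ hPg g _ _ o.2⟩ : {ω' : Ω // P ω' x.1})
        invFun := fun o => ⟨g⁻¹ • o.1, (hiff g _ _).1 (by rw [smul_inv_smul, hg]; exact o.2)⟩
        left_inv := fun o => Subtype.ext (inv_smul_smul g o.1)
        right_inv := fun o => Subtype.ext (smul_inv_smul g o.1) }).symm
  have e : (Σ ω', {u : V4 // P ω' u}) ≃ Σ x : {x : V4 // x ≠ 0}, {ω' : Ω // P ω' x.1} :=
    { toFun := fun p => ⟨⟨p.2.1, hP0 _ _ p.2.2⟩, p.1, p.2.2⟩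
      invFun := fun p => ⟨p.2.1, p.1.1, p.2.2⟩
      left_inv := fun _ => rfl
      right_inv := fun _ => rfl }
  have h := Nat.card_congr e
  rw [Nat.card_sigma, Nat.card_sigma, Finset.sum_congr rfl fun x _ => hr x,
    Finset.sum_congr rfl fun x _ => hn x, Finset.sum_const, Finset.sum_const, smul_eq_mul,
    smul_eq_mul, Finset.card_univ, Finset.card_univ, ← Nat.card_eq_fintype_card,
    ← Nat.card_eq_fintype_card] at h
  rw [h]
  congr 1
  rw [Nat.card_eq_fintype_card, Fintype.card_subtype_compl, Fintype.card_subtype_eq,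
    ← Nat.card_eq_fintype_card, Nat.card_fun, Nat.card_sum, Nat.card_fin]

end CfsgLib.SpMinIndex
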