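/-
`Sp_4(q)`: the possible radical fixers in a small action.
-/
import Cfsg.Agent.Lib.SpMinIndex.Dim2Partial

set_option autoImplicit false

namespace CfsgLib.SpMinIndex

open Matrix Cfsg CfsgLib.Classical
open scoped LinearAlgebra.Projectivization

variable {F : Type*} [Field F]

local notation "V4" => (Fin 2 ⊕ Fin 2 → F)

variable {Ω : Type*} [MulAction (symplecticGroup (Fin 2) F) Ω]

/-- The radical fixer is a line. -/
def IsLineFix (u u' : V4) (A : AddSubgroup V4) : Prop :=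
  ∃ a ∈ pairPerp u u', a ≠ 0 ∧ ∀ x, x ∈ A ↔ ∃ c : F, x = c • a

theorem mem_aFix_map (g : symplecticGroup (Fin 2) F) {u u' : V4} {ω : Ω} {x : V4} :
    g.1 *ᵥ x ∈ aFix (g.1 *ᵥ u) (g.1 *ᵥ u') (g • ω) ↔ x ∈ aFix u u' ω := by
  refine ⟨fun h => ?_, mem_aFix_smul' g⟩
  simpa only [sp_inv_mulVec, inv_smul_smul] using mem_aFix_smul' g⁻¹ h

theorem mem_pairPerp_map (g : symplecticGroup (Fin 2) F) {u u' x : V4} :
    g.1 *ᵥ x ∈ pairPerp (g.1 *ᵥ u) (g.1 *ᵥ u') ↔ x ∈ pairPerp u u' := by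
  simp only [mem_pairPerp, sp_form]

theorem aFix_eq_bot_map (g : symplecticGroup (Fin 2) F) {u u' : V4} {ω : Ω}
    (h : aFix (g.1 *ᵥ u) (g.1 *ᵥ u') (g • ω) = ⊥) : aFix u u' ω = ⊥ := by
  rw [AddSubgroup.eq_bot_iff_forall] at h ⊢
  intro x hx
  have := h _ (mem_aFix_smul' g hx)
  exact sp_mulVec_injective g (this.trans (mulVec_zero _).symm)

theorem aFix_eq_top_map (g : symplecticGroup (Fin 2) F) {u u' : V4} {ω : Ω}
    (h : aFix (g.1 *ᵥ u) (g.1 *ᵥ u') (g • ω) = (pairPerp (g.1 *ᵥ u) (g.1 *ᵥ u')).toAddSubgroup) :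
    aFix u u' ω = (pairPerp u u').toAddSubgroup := by
  refine le_antisymm (aFix_le _ _ _) fun x hx => (mem_aFix_map g).1 ?_
  rw [h]
  exact (mem_pairPerp_map g).2 hx

theorem IsLineFix.map (g : symplecticGroup (Fin 2) F) {u u' : V4} {ω : Ω}
    (h : IsLineFix u u' (aFix u u' ω)) :
    IsLineFix (g.1 *ᵥ u) (g.1 *ᵥ u') (aFix (g.1 *ᵥ u) (g.1 *ᵥ u') (g • ω)) := by
  obtain ⟨a, ha, ha0, hA⟩ := h
  refine ⟨g.1 *ᵥ a, (mem_pairPerp_map g).2 ha, fun e => ha0 ?_, fun x => ?_⟩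
  · exact sp_mulVec_injective g (e.trans (mulVec_zero _).symm)
  · obtain ⟨y, rfl⟩ : ∃ y, x = g.1 *ᵥ y := ⟨g⁻¹.1 *ᵥ x, (sp_mulVec_inv g x).symm⟩
    rw [mem_aFix_map, hA]
    refine exists_congr fun c => ⟨fun e => by rw [e, mulVec_smul], fun e => ?_⟩
    rw [← mulVec_smul] at e
    exact sp_mulVec_injective g e

theorem IsLineFix.aFix_smul {v v' : V4} {g : symplecticGroup (Fin 2) F} (hg : g ∈ wGroup v v') {ω : Ω}
    (h : IsLineFix v v' (aFix v v' ω)) : IsLineFix v v' (aFix v v' (g • ω)) := by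
  have := h.map g
  rwa [(wGroup_le v v' hg).1, (wGroup_le v v' hg).2] at this

variable [Finite F] [Finite Ω]

open scoped _root_.Classical in
/-- The radical orbits of the images of a radical fixer inside an invariant set. -/
theorem family_le_subtype {v v' : V4} (ω : Ω) (Q : Ω → Prop)
    (hQ : ∀ g ∈ wGroup v v', ∀ ω', SameRad v v' (g • ω) ω' → Q ω') :
    Nat.card (imgFamily v v' (aFix v v' ω : Set V4)) * (aIndex v v' ω * (sFix v ω).index) ≤
      Nat.card {ω' : Ω // Q ω'} := by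
  set ℬ := imgFamily v v' (aFix v v' ω : Set V4)
  let _ : Fintype ℬ := Fintype.ofFinite _
  choose g hg hgD using fun D : ℬ => D.2
  calc Nat.card ℬ * (aIndex v v' ω * (sFix v ω).index)
      = ∑ D : ℬ, aIndex v v' (g D • ω) * (sFix v (g D • ω)).index := by
        rw [Finset.sum_congr rfl fun D _ => by
          rw [aIndex_smul (wGroup_le v v' (hg D)), sFix_levi (wGroup_le v v' (hg D))],
          Finset.sum_const, smul_eq_mul, Finset.card_univ, ← Nat.card_eq_fintype_card]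
    _ ≤ ∑ D : ℬ, Nat.card {ω' : Ω // SameRad v v' (g D • ω) ω'} :=
        Finset.sum_le_sum fun D _ => card_radOrbit_ge _
    _ = Nat.card (Σ D : ℬ, {ω' : Ω // SameRad v v' (g D • ω) ω'}) := Nat.card_sigma.symm
    _ ≤ _ := Nat.card_le_card_of_injective
        (fun p => (⟨p.2.1, hQ _ (hg p.1) _ p.2.2⟩ : {ω' : Ω // Q ω'})) (by
        rintro ⟨D, x, hx⟩ ⟨E, y, hy⟩ e
        obtain rfl : x = y := congrArg Subtype.val e
        obtain rfl : D = E := by
          refine Subtype.ext ?_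
          rw [← hgD D, ← hgD E, ← aFix_image (wGroup_le v v' (hg D)),
            ← aFix_image (wGroup_le v v' (hg E)), (hx.trans hy.symm).aFix_eq]
        rfl)

omit [Finite Ω] in
theorem two_le_index {v : V4} {ω : Ω} (h : sFix v ω ≠ ⊤) : 2 ≤ (sFix v ω).index := by
  have h1 : (sFix v ω).index ≠ 1 := fun e => h (AddSubgroup.index_eq_one.1 e)
  have h2 : (sFix v ω).index ≠ 0 := AddSubgroup.FiniteIndex.index_ne_zero
  omega

omit [Finite Ω] in
/-- The good vectors of a radical fixer. -/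
theorem card_good {u u' : V4} {ω : Ω} (h : sympForm 2 F u u' = 1) (C : AddSubgroup V4)
    (hkeep : keepSet u u' (aFix u u' ω) ⊆ keepSet u u' C) (P : Ω → V4 → Prop)
    (hP : ∀ ω' w, P ω' w → sFix w ω' ≠ ⊥) :
    Nat.card F * Nat.card F - 1 - Nat.card (keepSet u u' C) ≤
      Nat.card {z : V4 // z ∈ pairPerp u u' ∧ z ≠ 0 ∧ ∀ d r : F, r ≠ 0 → ¬ P ω (r • (z + d • u))} := by
  classical
  let _ : Fintype F := Fintype.ofFinite F
  have hT : Nat.card {z : V4 | z ∈ pairPerp u u' ∧ z ≠ 0} = Nat.card F * Nat.card F - 1 := by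
    have e : {z : V4 | z ∈ pairPerp u u' ∧ z ≠ 0} = (pairPerp u u' : Set V4) \ {0} := by
      ext z; simp
    rw [Nat.card_coe_set_eq, e, Set.ncard_sdiff_singleton_of_mem (Submodule.zero_mem _)
      (s := (pairPerp u u' : Set V4)), ← Nat.card_coe_set_eq]
    exact congrArg (· - 1) (card_pairPerp_two h)
  have hsub : keepSet u u' C ⊆ {z : V4 | z ∈ pairPerp u u' ∧ z ≠ 0} := fun z hz => ⟨hz.1, hz.2.1⟩
  rw [← hT, Nat.card_coe_set_eq, Nat.card_coe_set_eq, ← Set.ncard_sdiff hsub, ← Nat.card_coe_set_eq]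
  refine Nat.card_mono (Set.toFinite _) ?_
  rintro z ⟨⟨hz, hz0⟩, hzC⟩
  refine ⟨hz, hz0, fun d r hr hPz => hzC (hkeep ?_)⟩
  obtain ⟨c, hc, hc0⟩ := ((sFix (r • (z + d • u)) ω).bot_or_exists_ne_zero).resolve_left (hP _ _ hPz)
  rw [mem_sFix, spT_smul] at hc
  exact mem_keepSet_of_fix h hz hz0 (mul_ne_zero hc0 (pow_ne_zero 2 hr)) hc

variable [MulAction.IsPretransitive (symplecticGroup (Fin 2) F) Ω]

/-- A type of radical fixer with many points and many good vectors does not occur. -/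
theorem not_type (hN : Nat.card Ω * (Nat.card F - 1) < Nat.card F ^ 4 - 1)
    (P : Ω → V4 → Prop) (hP0 : ∀ ω u, P ω u → u ≠ 0)
    (hPg : ∀ (g : symplecticGroup (Fin 2) F) ω u, P ω u → P (g • ω) (g.1 *ᵥ u))
    {v v' : V4} (h : sympForm 2 F v v' = 1) (ω : Ω)
    (hQ : ∀ g ∈ wGroup v v', ∀ ω', SameRad v v' (g • ω) ω' → P ω' v) (n₀ G k : ℕ)
    (hn₀ : n₀ ≤ Nat.card (imgFamily v v' (aFix v v' ω : Set V4)) *
      (aIndex v v' ω * (sFix v ω).index))
    (hgood : ∀ ω u, P ω u → ∃ u', sympForm 2 F u u' = 1 ∧ G ≤ k * Nat.card {z : V4 //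
      z ∈ pairPerp u u' ∧ z ≠ 0 ∧ ∀ d r : F, r ≠ 0 → ¬ P ω (r • (z + d • u))})
    (hG : 0 < G)
    (hnum : k * ((Nat.card F ^ 4 - 1) * (Nat.card F - 1)) ≤ n₀ * (Nat.card F - 1) * G) : False := by
  have hv : v ≠ 0 := fun e => by rw [e, sympForm_zero_left] at h; exact zero_ne_one h
  have hdc := double_count P hP0 hPg ω hv
  set q := Nat.card F with hq
  set r := Nat.card {u : V4 // P ω u}
  set n := Nat.card {ω' : Ω // P ω' v}
  set N := Nat.card Ω
  have hn : n₀ ≤ n := hn₀.trans (family_le_subtype ω (fun ω' => P ω' v) hQ)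
  have hr0 : 0 < r := by
    have hω : P ω v := hQ 1 (one_mem _) ω (by
      rw [one_smul]; exact ⟨0, Submodule.zero_mem _, 0, by rw [eic_zero, spT_zero, one_smul]⟩)
    have : Nonempty {u : V4 // P ω u} := ⟨⟨v, hω⟩⟩
    exact Nat.card_pos
  have h1 : n * (q - 1) < r := by
    have h2 : (q ^ 4 - 1) * (n * (q - 1)) < (q ^ 4 - 1) * r := by
      calc (q ^ 4 - 1) * (n * (q - 1)) = N * (q - 1) * r := by
            rw [← mul_assoc, ← hdc]; ring
        _ < _ := Nat.mul_lt_mul_of_pos_right hN hr0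
    exact Nat.lt_of_mul_lt_mul_left h2
  have h2 : r * G ≤ k * ((q ^ 4 - 1) * (q - 1)) := count_le (P ω) G k (hgood ω)
  have h3 : n₀ * (q - 1) * G < r * G :=
    Nat.mul_lt_mul_of_pos_right (lt_of_le_of_lt (Nat.mul_le_mul_right _ hn) h1) hG
  omega

variable (p : ℕ) [Fact p.Prime] [Algebra (ZMod p) F]

omit p [Fact p.Prime] [Algebra (ZMod p) F] in
/-- No line fixer with a partial long root fixer. -/
theorem not_partial_line (hq : 4 ≤ Nat.card F)
    (hN : Nat.card Ω * (Nat.card F - 1) < Nat.card F ^ 4 - 1) {v v' : V4}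
    (h : sympForm 2 F v v' = 1) {ω : Ω} (hS0 : sFix v ω ≠ ⊥) (hS : sFix v ω ≠ ⊤)
    (hA : IsLineFix v v' (aFix v v' ω)) : False := by
  set q := Nat.card F with hqdef
  let P : Ω → V4 → Prop := fun ω u => sFix u ω ≠ ⊥ ∧ sFix u ω ≠ ⊤ ∧
    ∃ u', sympForm 2 F u u' = 1 ∧ IsLineFix u u' (aFix u u' ω)
  refine not_type hN P ?_ ?_ h ω ?_ (2 * q * (q + 1)) (q * (q - 1)) 1 ?_ ?_ ?_ ?_
  · rintro ω u ⟨-, -, u', hu, -⟩ rfl
    rw [sympForm_zero_left] at hu
    exact zero_ne_one hu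
  · rintro g ω u ⟨h0, h1, u', hu, hl⟩
    exact ⟨by rwa [sFix_smul], by rwa [sFix_smul], g.1 *ᵥ u', by rwa [sp_form], hl.map g⟩
  · intro g hg ω' hr
    refine ⟨?_, ?_, v', h, ?_⟩
    · rwa [← hr.sFix_eq, sFix_levi (wGroup_le v v' hg)]
    · rwa [← hr.sFix_eq, sFix_levi (wGroup_le v v' hg)]
    · rw [← hr.aFix_eq]; exact hA.aFix_smul hg
  · obtain ⟨a, ha, ha0, hA⟩ := hA
    have hcard : Nat.card (aFix v v' ω) = q := by
      refine (Nat.card_congr (Equiv.ofBijective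
        (fun c : F => (⟨c • a, (hA _).2 ⟨c, rfl⟩⟩ : aFix v v' ω)) ⟨?_, ?_⟩)).symm
      · exact fun x y e => smul_left_injective F ha0 (congrArg Subtype.val e)
      · rintro ⟨x, hx⟩
        obtain ⟨c, rfl⟩ := (hA x).1 hx
        exact ⟨c, rfl⟩
    have hidx : aIndex v v' ω = q := by
      have := card_aFix_mul_aIndex (v := v) (v' := v') ω
      rw [hcard, card_pairPerp_two h] at this
      exact Nat.eq_of_mul_eq_mul_left Nat.card_pos this
    have hA0 : aFix v v' ω ≠ ⊥ := fun e => by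
      rw [e, AddSubgroup.card_bot] at hcard; omega
    have hL := imgFamily_bound_one h (aFix v v' ω) (aFix_le v v' ω) hA0
    rw [hcard, card_pairPerp_two h] at hL
    set L := Nat.card (imgFamily v v' (aFix v v' ω : Set V4))
    have hL' : q + 1 ≤ L := Nat.le_of_mul_le_mul_right (c := q - 1) (by
      calc (q + 1) * (q - 1) = q * q - 1 := by
            obtain ⟨n, hn⟩ : ∃ n, q = n + 1 := ⟨q - 1, by omega⟩
            rw [hn, Nat.add_sub_cancel]
            have : (n + 1) * (n + 1) = (n + 1 + 1) * n + 1 := by ring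
            omega
        _ ≤ _ := hL) (by omega)
    rw [hidx]
    calc 2 * q * (q + 1) = (q + 1) * (q * 2) := by ring
      _ ≤ _ := Nat.mul_le_mul hL' (Nat.mul_le_mul_left _ (two_le_index hS))
  · rintro ω u ⟨-, -, u', hu, a, ha, ha0, hl⟩
    refine ⟨u', hu, le_trans ?_ ((card_good hu (aFix u u' ω) (fun _ => id) P fun _ _ hw => hw.1).trans
      (one_mul _).ge)⟩
    have hA0 : aFix u u' ω ≠ ⊥ := fun e => ha0 (by
      have : a ∈ aFix u u' ω := (hl a).2 ⟨1, (one_smul F a).symm⟩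
      rwa [e, AddSubgroup.mem_bot] at this)
    have := card_keepSet_line hu (aFix_le u u' ω) hA0 fun x hx => (hl x).1 hx
    rw [← hqdef] at this ⊢
    have h1 : q * (q - 1) + (q - 1) + 1 = q * q := by
      rw [Nat.mul_sub_one]
      have := Nat.le_mul_self q
      omega
    omega
  · exact Nat.mul_pos (by omega) (by omega)
  · obtain ⟨n, hn⟩ : ∃ n, q = n + 1 := ⟨q - 1, by omega⟩
    rw [one_mul, ← hqdef, hn, Nat.add_sub_cancel,
      show 2 * (n + 1) * (n + 1 + 1) * n * ((n + 1) * n) =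
        2 * (n + 1) * (n + 1 + 1) * ((n + 1) * n) * n by ring]
    refine Nat.mul_le_mul_right _ (Nat.sub_le_iff_le_add.2 ?_)
    have h1 : (n + 1) * (n + 1) ≤ 2 * ((n + 1 + 1) * n) := by nlinarith
    calc (n + 1) ^ 4 = (n + 1) * (n + 1) * ((n + 1) * (n + 1)) := by ring
      _ ≤ (n + 1) * (n + 1) * (2 * ((n + 1 + 1) * n)) := Nat.mul_le_mul_left _ h1
      _ = 2 * (n + 1) * (n + 1 + 1) * ((n + 1) * n) := by ring
      _ ≤ _ := Nat.le_add_right _ 1

include p in
/-- No partial fixer. -/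
theorem not_partial (hq : 4 ≤ Nat.card F)
    (hN : Nat.card Ω * (Nat.card F - 1) < Nat.card F ^ 4 - 1) {v v' : V4}
    (h : sympForm 2 F v v' = 1) {ω : Ω} (hS0 : sFix v ω ≠ ⊥) (hS : sFix v ω ≠ ⊤)
    (hA0 : aFix v v' ω ≠ ⊥) (hA : aFix v v' ω ≠ (pairPerp v v').toAddSubgroup) : False := by
  set q := Nat.card F with hqdef
  rcases family_two p h hq ω hA0 hA with hfam | hline
  swap
  · exact not_partial_line hq hN h hS0 hS hline
  let P : Ω → V4 → Prop := fun ω u => sFix u ω ≠ ⊥ ∧ sFix u ω ≠ ⊤ ∧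
    ∃ u', sympForm 2 F u u' = 1 ∧ aFix u u' ω ≠ ⊥ ∧ aFix u u' ω ≠ (pairPerp u u').toAddSubgroup
  refine not_type hN P ?_ ?_ h ω ?_ (2 * ((q + 1) * (q + 1))) (q * (q - 1)) 2 ?_ ?_ ?_ ?_
  · rintro ω u ⟨-, -, u', hu, -⟩ rfl
    rw [sympForm_zero_left] at hu
    exact zero_ne_one hu
  · rintro g ω u ⟨h0, h1, u', hu, h2, h3⟩
    exact ⟨by rwa [sFix_smul], by rwa [sFix_smul], g.1 *ᵥ u', by rwa [sp_form],
      fun e => h2 (aFix_eq_bot_map g e), fun e => h3 (aFix_eq_top_map g e)⟩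
  · intro g hg ω' hr
    obtain ⟨hgv, hgv'⟩ := wGroup_le v v' hg
    refine ⟨?_, ?_, v', h, fun e => hA0 ?_, fun e => hA ?_⟩
    · rwa [← hr.sFix_eq, sFix_levi (wGroup_le v v' hg)]
    · rwa [← hr.sFix_eq, sFix_levi (wGroup_le v v' hg)]
    · refine aFix_eq_bot_map g ?_
      rwa [hgv, hgv', hr.aFix_eq]
    · refine aFix_eq_top_map g ?_
      rwa [hgv, hgv', hr.aFix_eq]
  · calc 2 * ((q + 1) * (q + 1)) = (q + 1) * (q + 1) * 2 := by ring
      _ ≤ _ := Nat.mul_le_mul hfam (two_le_index hS)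
      _ = _ := mul_assoc _ _ _
  · rintro ω u ⟨-, -, u', hu, hu0, huW⟩
    refine ⟨u', hu, ?_⟩
    set A := aFix u u' ω with hAdef
    obtain ⟨C, hC, hC0, hCq, hkeep⟩ : ∃ C : AddSubgroup V4, (∀ x ∈ C, x ∈ pairPerp u u') ∧ C ≠ ⊥ ∧
        Nat.card C ≤ q ∧ keepSet u u' A ⊆ keepSet u u' C := by
      rcases le_or_gt (Nat.card A) q with hle | hgt
      · exact ⟨A, aFix_le u u' ω, hu0, hle, fun _ => id⟩
      refine ⟨dualIn p u u' A, dualIn_le p u u' A, fun e => huW ?_, ?_, keepSet_dualIn p u u' A⟩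
      · have hAB := card_mul_card_dualIn p hu A (aFix_le u u' ω)
        rw [e, AddSubgroup.card_bot, mul_one] at hAB
        exact AddSubgroup.eq_of_le_of_card_ge (aFix_le u u' ω) hAB.ge
      · have hAB := card_mul_card_dualIn p hu A (aFix_le u u' ω)
        rw [card_pairPerp_two hu, ← hqdef] at hAB
        by_contra hlt
        push Not at hlt
        have := Nat.mul_lt_mul_of_lt_of_lt hgt hlt
        omega
    refine le_trans ?_ (Nat.mul_le_mul_left 2 (card_good hu C hkeep P fun _ _ hw => hw.1))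
    have h1 := card_keepSet_le hu hq hC hC0 hCq
    obtain ⟨n, hn⟩ : ∃ n, q = n + 1 := ⟨q - 1, by omega⟩
    rw [← hqdef] at h1 ⊢
    rw [hn, Nat.add_sub_cancel] at h1 ⊢
    have h2 : 2 * ((n + 1) * (n + 1)) = (n + 1) * n + n * (n + 1 + 2) + 2 := by ring
    omega
  · exact Nat.mul_pos (by omega) (by omega)
  · obtain ⟨n, hn⟩ : ∃ n, q = n + 1 := ⟨q - 1, by omega⟩
    rw [← hqdef, hn, Nat.add_sub_cancel,
      show 2 * ((n + 1 + 1) * (n + 1 + 1)) * n * ((n + 1) * n) =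
        2 * (((n + 1 + 1) * (n + 1 + 1) * (n + 1) * n) * n) by ring]
    refine Nat.mul_le_mul_left _ (Nat.mul_le_mul_right _ (Nat.sub_le_iff_le_add.2 ?_))
    nlinarith

omit p [Fact p.Prime] [Algebra (ZMod p) F] in
/-- No line fixer with trivial long root fixer. -/
theorem not_alpha (hq : 4 ≤ Nat.card F)
    (hN : Nat.card Ω * (Nat.card F - 1) < Nat.card F ^ 4 - 1) {v v' : V4}
    (h : sympForm 2 F v v' = 1) {ω₀ : Ω} (hS₀ : sFix v ω₀ = ⊥)
    (hline : IsLineFix v v' (aFix v v' ω₀)) : False := by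
  classical
  let _ : Fintype F := Fintype.ofFinite F
  set q := Nat.card F with hqdef
  set N := Nat.card Ω
  obtain ⟨a, ha, ha0, hA₀⟩ := hline
  have hN' : N ≤ q ^ 3 + q ^ 2 + q := by
    obtain ⟨n, hn⟩ : ∃ n, q = n + 1 := ⟨q - 1, by omega⟩
    by_contra hlt
    push Not at hlt
    have h1 : (q ^ 3 + q ^ 2 + q + 1) * (q - 1) ≤ N * (q - 1) := Nat.mul_le_mul_right _ hlt
    have h2 : (q ^ 3 + q ^ 2 + q + 1) * (q - 1) + 1 = q ^ 4 := by
      rw [hn, Nat.add_sub_cancel]; ring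
    omega
  let T : Ω → Prop := fun ω => sFix v ω = ⊥ ∧ ∀ x, x ∈ aFix v v' ω ↔ ∃ c : F, x = c • a
  have hidx : ∀ ω, T ω → aIndex v v' ω * (sFix v ω).index = q * q := by
    rintro ω ⟨hS, hA⟩
    have hcard : Nat.card (aFix v v' ω) = q := by
      refine (Nat.card_congr (Equiv.ofBijective
        (fun c : F => (⟨c • a, (hA _).2 ⟨c, rfl⟩⟩ : aFix v v' ω)) ⟨?_, ?_⟩)).symm
      · exact fun x y e => smul_left_injective F ha0 (congrArg Subtype.val e)
      · rintro ⟨x, hx⟩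
        obtain ⟨c, rfl⟩ := (hA x).1 hx
        exact ⟨c, rfl⟩
    have := card_aFix_mul_aIndex (v := v) (v' := v') ω
    rw [hcard, card_pairPerp_two h] at this
    rw [Nat.eq_of_mul_eq_mul_left Nat.card_pos this, hS, AddSubgroup.index_bot]
  have hT₀ : T ω₀ := ⟨hS₀, hA₀⟩
  have hAeq : ∀ {ω ω'}, T ω → T ω' → aFix v v' ω = aFix v v' ω' := fun hω hω' =>
    AddSubgroup.ext fun x => (hω.2 x).trans (hω'.2 x).symm
  have hA0 : aFix v v' ω₀ ≠ ⊥ := fun e => ha0 (by
    have : a ∈ aFix v v' ω₀ := (hA₀ a).2 ⟨1, (one_smul F a).symm⟩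
    rwa [e, AddSubgroup.mem_bot] at this)
  set ℬ := imgFamily v v' (aFix v v' ω₀ : Set V4)
  have hL : q + 1 ≤ Nat.card ℬ := by
    have hL := imgFamily_bound_one h (aFix v v' ω₀) (aFix_le v v' ω₀) hA0
    have hc : Nat.card (aFix v v' ω₀) = q := by
      have h1 := card_aFix_mul_aIndex (v := v) (v' := v') ω₀
      have h2 := hidx _ hT₀
      rw [hS₀, AddSubgroup.index_bot, ← hqdef] at h2
      rw [Nat.eq_of_mul_eq_mul_right Nat.card_pos h2, card_pairPerp_two h] at h1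
      exact Nat.eq_of_mul_eq_mul_right (Nat.card_pos (α := F)) h1
    rw [hc, card_pairPerp_two h] at hL
    refine Nat.le_of_mul_le_mul_right (c := q - 1) ?_ (by omega)
    obtain ⟨n, hn⟩ : ∃ n, q = n + 1 := ⟨q - 1, by omega⟩
    change q * q - 1 ≤ Nat.card ℬ * (q - 1) at hL
    rw [hn, Nat.add_sub_cancel] at hL ⊢
    have : (n + 1) * (n + 1) = (n + 1 + 1) * n + 1 := by ring
    omega
  -- one radical orbit for each line
  have huniq : ∀ ω, T ω → SameRad v v' ω₀ ω := by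
    intro ω hω
    by_contra hne
    let _ : Fintype ℬ := Fintype.ofFinite _
    have hex : ∀ D : ℬ, ∃ g ∈ wGroup v v', (fun x => g.1 *ᵥ x) '' (aFix v v' ω₀ : Set V4) = D.1 ∧
        (D.1 = (aFix v v' ω₀ : Set V4) → g = 1) := by
      intro D
      by_cases e : D.1 = (aFix v v' ω₀ : Set V4)
      · exact ⟨1, one_mem _, by simp [e], fun _ => rfl⟩
      · obtain ⟨g, hg, hgD⟩ := D.2
        exact ⟨g, hg, hgD, fun e' => absurd e' e⟩
    choose g hg hgD hg1 using hex
    let w : Option ℬ → Ω := fun o => o.elim ω fun D => g D • ω₀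
    have hsA : ∀ D : ℬ, (aFix v v' (g D • ω₀) : Set V4) = D.1 := fun D => by
      rw [aFix_image (wGroup_le v v' (hg D)), hgD D]
    have hcl : ∀ D : ℬ, ¬ SameRad v v' (g D • ω₀) ω := fun D hr => by
      have e : D.1 = (aFix v v' ω₀ : Set V4) := by rw [← hsA D, hr.aFix_eq, hAeq hω hT₀]
      rw [hg1 D e, one_smul] at hr
      exact hne hr
    have key := sum_radOrbit_le (v := v) (v' := v') w (by
      rintro (_ | D) (_ | E) hr
      · rfl
      · exact absurd hr.symm (hcl E)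
      · exact absurd hr (hcl D)
      · exact congrArg some (Subtype.ext (by
          rw [← hsA D, ← hsA E, (show SameRad v v' (g D • ω₀) (g E • ω₀) from hr).aFix_eq])))
    rw [Fintype.sum_option, Finset.sum_congr rfl fun D _ => show
      aIndex v v' (w (some D)) * (sFix v (w (some D))).index = q * q by
        simp only [w, Option.elim]
        rw [aIndex_smul (wGroup_le v v' (hg D)), sFix_levi (wGroup_le v v' (hg D)), hidx _ hT₀],
      Finset.sum_const, smul_eq_mul, Finset.card_univ, ← Nat.card_eq_fintype_card,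
      show w none = ω from rfl, hidx _ hω] at key
    have : (q + 1) * (q * q) ≤ Nat.card ℬ * (q * q) := Nat.mul_le_mul_right _ hL
    have e : (q + 1) * (q * q) + q * q = q ^ 3 + q ^ 2 + q * q := by ring
    have h4 : 4 * q ≤ q * q := Nat.mul_le_mul_right q hq
    omega
  -- shift so that the torus acts by a transvection at `v`
  obtain ⟨κ, hκ0, hκ1⟩ := exists_field_ne (F := F) (by omega) 0 1
  obtain ⟨τ, hτv, -, hτW⟩ := exists_torus h κ hκ0
  have hτW' : ∀ x ∈ pairPerp v v', τ⁻¹.1 *ᵥ x = x := fun x hx => by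
    conv_lhs => rw [← hτW x hx]
    exact sp_inv_mulVec τ x
  have hτv' : τ⁻¹.1 *ᵥ v = κ⁻¹ • v := by
    have e := sp_inv_mulVec τ v
    rw [hτv, mulVec_smul] at e
    rw [← e, inv_smul_smul₀ hκ0, e]
  have hmove : ∀ (σ : symplecticGroup (Fin 2) F) (k : F), σ.1 *ᵥ v = k • v →
      (∀ x ∈ pairPerp v v', σ.1 *ᵥ x = x) → ∀ (ω : Ω) (x : V4), x ∈ aFix v v' ω →
        k • x ∈ aFix v v' (σ • ω) := by
    rintro σ k hσv hσW ω x ⟨hx, t, hxt⟩
    refine ⟨Submodule.smul_mem _ _ hx, k ^ 2 * t, ?_⟩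
    have e : σ * eic v x t = eic (k • v) x t * σ := by rw [eic_conj', hσv, hσW x hx]
    rw [← eic_smul_left (perp_of_mem_pairPerp hx), ← mul_smul, ← e, mul_smul, hxt]
  have hTτ : T (τ • ω₀) := by
    refine ⟨(AddSubgroup.eq_bot_iff_forall _).2 fun t ht => ?_, fun x => ⟨fun hx => ?_, ?_⟩⟩
    · have h2 : t / κ ^ 2 ∈ sFix (τ.1 *ᵥ v) (τ • ω₀) := by
        rw [hτv, mem_sFix, spT_smul, div_mul_cancel₀ _ (pow_ne_zero 2 hκ0)]
        exact ht
      rw [sFix_smul, hS₀, AddSubgroup.mem_bot, div_eq_zero_iff] at h2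
      exact h2.resolve_right (pow_ne_zero 2 hκ0)
    · have := hmove τ⁻¹ κ⁻¹ hτv' hτW' _ x hx
      rw [inv_smul_smul] at this
      obtain ⟨c, hc⟩ := (hA₀ _).1 this
      exact ⟨κ * c, by rw [← smul_smul, ← hc, smul_inv_smul₀ hκ0]⟩
    · rintro ⟨c, rfl⟩
      have := hmove τ κ hτv hτW ω₀ ((c / κ) • a) ((hA₀ _).2 ⟨_, rfl⟩)
      rwa [smul_smul, mul_div_cancel₀ _ hκ0] at this
  obtain ⟨b, hb, t, hbt⟩ := huniq _ hTτ
  have hk1 : (1 : F) - κ ≠ 0 := sub_ne_zero.2 (Ne.symm hκ1)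
  set c := (1 - κ)⁻¹ • b
  have hcW : c ∈ pairPerp v v' := Submodule.smul_mem _ _ hb
  set ω := eic v c 0 • ω₀
  have hT : T ω := ⟨(sFix_eic hcW 0 ω₀).trans hS₀, by
    show ∀ x, x ∈ aFix v v' (eic v c 0 • ω₀) ↔ _
    rw [aFix_eic hcW]; exact hA₀⟩
  obtain ⟨t₀, hτω⟩ : ∃ t₀, τ • ω = spT v t₀ • ω := by
    have e1 : τ • ω = eic v (κ • c + b) (t + sympForm 2 F b (κ • c)) • ω₀ := by
      show τ • eic v c 0 • ω₀ = _
      rw [← mul_smul, eic_conj', hτv, hτW c hcW, eic_smul_left (perp_of_mem_pairPerp hcW), mul_zero,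
        mul_smul, ← hbt, ← mul_smul,
        eic_mul (perp_of_mem_pairPerp (Submodule.smul_mem _ _ hcW)) (perp_of_mem_pairPerp hb)]
      simp
    have e2 : κ • c + b = c := by
      have hbc : b = (1 - κ) • c := (smul_inv_smul₀ hk1 b).symm
      rw [hbc]; module
    refine ⟨t + sympForm 2 F b (κ • c), ?_⟩
    rw [e1, e2, ← eic_zero]
    show _ = _ • eic v c 0 • ω₀
    rw [← SemigroupAction.mul_smul (eic v 0 _) (eic v c 0) ω₀,
      eic_mul (sympForm_zero_right v) (perp_of_mem_pairPerp hcW)]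
    simp
  clear_value ω
  -- lifts of elements preserving the line
  have hlift : ∀ g ∈ wGroup v v', (∀ x, x ∈ aFix v v' (g • ω) ↔ ∃ d : F, x = d • a) →
      ∃ s, g • ω = spT v s • ω := by
    intro g hg hgA
    have hTg : T (g • ω) := ⟨(sFix_levi (wGroup_le v v' hg) ω).trans hT.1, hgA⟩
    obtain ⟨b, hb, s, hbs⟩ := ((huniq ω hT).symm).trans (huniq _ hTg)
    have hbv := perp_of_mem_pairPerp hb
    have hκb : sympForm 2 F v (κ • b) = 0 := by rw [sympForm_smul_right, hbv, mul_zero]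
    have e1 : τ • g • ω = eic v b (t₀ + s) • ω := by
      rw [← mul_smul, commute_wGroup hτW hg, mul_smul, hτω, ← mul_smul, ← spT_commute_wGroup t₀ hg,
        mul_smul, ← hbs, ← mul_smul, ← eic_zero, eic_mul (sympForm_zero_right v) hbv]
      simp
    have e2 : τ • g • ω = eic v (κ • b) (κ ^ 2 * s + t₀) • ω := by
      rw [← hbs, ← mul_smul, eic_conj', hτv, hτW b hb, eic_smul_left hbv, mul_smul, hτω, ← mul_smul,
        ← eic_zero, eic_mul hκb (sympForm_zero_right v)]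
      simp
    rw [e1, ← inv_smul_eq_iff, ← mul_smul, eic_inv hκb] at e2
    rw [eic_mul (perp_of_mem_pairPerp (Submodule.neg_mem _ (Submodule.smul_mem _ _ hb))) hbv] at e2
    have h1 : -(κ • b) + b ∈ aFix v v' ω :=
      ⟨Submodule.add_mem _ (Submodule.neg_mem _ (Submodule.smul_mem _ _ hb)) hb, _, e2⟩
    obtain ⟨d, hd⟩ := (hT.2 _).1 h1
    have hbA : b ∈ aFix v v' ω := (hT.2 _).2 ⟨(1 - κ)⁻¹ * d, by
      rw [← smul_smul, ← hd, show -(κ • b) + b = (1 - κ) • b by module, inv_smul_smul₀ hk1]⟩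
    obtain ⟨-, u, hu⟩ := hbA
    refine ⟨s - u, ?_⟩
    rw [← hbs]
    conv_rhs => rw [← hu, ← mul_smul, ← eic_zero, eic_mul (sympForm_zero_right v) hbv]
    simp
  have himg : ∀ g ∈ wGroup v v', (∃ μ : F, μ ≠ 0 ∧ g.1 *ᵥ a = μ • a) →
      ∀ x, x ∈ aFix v v' (g • ω) ↔ ∃ d : F, x = d • a := by
    rintro g hg ⟨μ, hμ, hga⟩ x
    rw [← SetLike.mem_coe, aFix_image (wGroup_le v v' hg)]
    constructor
    · rintro ⟨y, hy, rfl⟩
      obtain ⟨d, rfl⟩ := (hT.2 y).1 hy
      exact ⟨d * μ, by show g.1 *ᵥ (d • a) = _; rw [mulVec_smul, hga, smul_smul]⟩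
    · rintro ⟨d, rfl⟩
      refine ⟨(d / μ) • a, (hT.2 _).2 ⟨_, rfl⟩, ?_⟩
      show g.1 *ᵥ ((d / μ) • a) = _
      rw [mulVec_smul, hga, smul_smul, div_mul_cancel₀ _ hμ]
  -- `a` is full at `ω`
  obtain ⟨μ, hμ0, hμ⟩ : ∃ μ : F, μ ≠ 0 ∧ μ ^ 2 ≠ 1 := by
    by_contra hc
    push Not at hc
    have hsub : (Finset.univ : Finset F) ⊆ {0, 1, -1} := fun x _ => by
      rcases eq_or_ne x 0 with e | e
      · simp [e]
      · rcases sq_eq_one_iff.1 (hc x e) with e | e <;> simp [e]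
    have := (Finset.card_le_card hsub).trans Finset.card_le_three
    rw [Finset.card_univ, ← Nat.card_eq_fintype_card] at this
    omega
  obtain ⟨g₁, hg₁, hg₁a⟩ := exists_wGroup_move h ha (Submodule.smul_mem _ μ ha) ha0
    (smul_ne_zero hμ0 ha0)
  obtain ⟨s₁, hs₁⟩ := hlift g₁ hg₁ (himg g₁ hg₁ ⟨μ, hμ0, hg₁a⟩)
  have hfull : FullAt ω a := by
    intro d'
    set d := d' / (μ ^ 2 - 1)
    have hd : d' = μ ^ 2 * d - d := by
      rw [← sub_one_mul, mul_div_cancel₀ _ (sub_ne_zero.2 hμ)]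
    have hmem : ∀ e : F, spT a e ∈ wGroup v v' := fun e => spT_mem_spTGroup ha e
    have hfixa : ∀ e : F, (spT a e).1 *ᵥ a = a := fun e => spT_fix (sympForm_self a) e
    obtain ⟨s₂, hs₂⟩ := hlift _ (hmem d) (himg _ (hmem d) ⟨1, one_ne_zero, by rw [one_smul, hfixa]⟩)
    have e1 : g₁ • spT a d • ω = spT v (s₁ + s₂) • ω := by
      rw [hs₂, ← mul_smul, ← spT_commute_wGroup s₂ hg₁, mul_smul, hs₁, ← mul_smul, spT_mul, add_comm]
    have e2 : spT a d • g₁ • ω = spT v (s₁ + s₂) • ω := by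
      rw [hs₁, ← mul_smul, ← spT_commute_wGroup s₁ (hmem d), mul_smul, hs₂, ← mul_smul, spT_mul]
    have e3 : g₁ • spT a d • ω = spT a (μ ^ 2 * d) • g₁ • ω := by
      rw [← mul_smul, ← mul_smul]
      congr 1
      rw [← inv_mul_cancel_right (g₁ * spT a d) g₁, spT_conj, hg₁a, spT_smul, mul_comm d]
    rw [e1, ← e2] at e3
    have e4 : spT a d' • g₁ • ω = g₁ • ω := by
      rw [hd, sub_eq_neg_add, ← spT_mul, mul_smul, ← e3, ← spT_inv, inv_smul_smul]
    rw [hs₁, ← mul_smul, ← spT_commute_wGroup s₁ (hmem d'), mul_smul, smul_left_cancel_iff] at e4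
    exact e4
  -- the full vectors
  let P : Ω → V4 → Prop := fun ω u => u ≠ 0 ∧ FullAt ω u
  have hv : v ≠ 0 := fun e => by rw [e, sympForm_zero_left] at h; exact zero_ne_one h
  have hPg : ∀ (g : symplecticGroup (Fin 2) F) ω u, P ω u → P (g • ω) (g.1 *ᵥ u) :=
    fun g ω u hu => ⟨fun e => hu.1 (sp_mulVec_injective g (e.trans (mulVec_zero _).symm)),
      hu.2.conj g⟩
  have hdc := double_count P (fun _ _ hu => hu.1) hPg ω hv
  set r := Nat.card {u : V4 // P ω u}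
  set n := Nat.card {ω' : Ω // P ω' v}
  have hfam := family_le_subtype ω₀ (fun ω' => ¬ P ω' v) (v := v) (v' := v') (by
    intro g hg ω' hr hP
    have : sFix v ω' = ⊥ := by rw [← hr.sFix_eq, sFix_levi (wGroup_le v v' hg), hS₀]
    rw [fullAt_iff.1 hP.2] at this
    exact top_ne_bot this)
  rw [hidx _ hT₀] at hfam
  have hcompl : n + Nat.card {ω' : Ω // ¬ P ω' v} = N := by
    let _ : Fintype Ω := Fintype.ofFinite Ω
    rw [show n = Fintype.card {ω' : Ω // P ω' v} from Nat.card_eq_fintype_card,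
      Nat.card_eq_fintype_card, Fintype.card_subtype_compl,
      Nat.add_sub_cancel' (Fintype.card_subtype_le _), ← Nat.card_eq_fintype_card]
  have hfam' : q ^ 3 + q ^ 2 ≤ Nat.card {ω' : Ω // ¬ P ω' v} :=
    le_trans (le_of_eq_of_le (by ring) (Nat.mul_le_mul_right (q * q) hL)) hfam
  have hn : n ≤ q := by omega
  have hr : r ≤ q * (q - 1) := by
    by_contra hlt
    push Not at hlt
    have h1 : (q ^ 3 + q ^ 2) * r ≤ (q ^ 4 - 1) * q := by
      calc (q ^ 3 + q ^ 2) * r ≤ N * r := Nat.mul_le_mul_right _ (by omega)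
        _ = (q ^ 4 - 1) * n := hdc
        _ ≤ _ := Nat.mul_le_mul_left _ hn
    obtain ⟨k, hk⟩ : ∃ k, q = k + 1 := ⟨q - 1, by omega⟩
    have h2 : (q ^ 3 + q ^ 2) * (q * (q - 1) + 1) ≤ (q ^ 3 + q ^ 2) * r := Nat.mul_le_mul_left _ hlt
    have h3 : (q ^ 4 - 1) * q < (q ^ 3 + q ^ 2) * (q * (q - 1) + 1) := by
      rw [hk, Nat.add_sub_cancel]
      calc ((k + 1) ^ 4 - 1) * (k + 1) ≤ (k + 1) ^ 4 * (k + 1) := Nat.mul_le_mul_right _ (Nat.sub_le _ _)
        _ < _ := by nlinarith [Nat.zero_le (k ^ 3), Nat.zero_le (k ^ 2)]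
    omega
  -- full vectors are pairwise orthogonal
  have hperp : ∀ u w, P ω u → P ω w → sympForm 2 F u w = 0 := by
    intro u w hu hw
    by_contra hne
    have hinj : Function.Injective fun x : F × F => x.1 • u + x.2 • w := by
      intro x y e
      have h1 := congrArg (fun z => sympForm 2 F z w) e
      have h2 := congrArg (fun z => sympForm 2 F u z) e
      simp only [sympForm_add_left, sympForm_add_right, sympForm_smul_left, sympForm_smul_right,
        sympForm_self, mul_zero, add_zero, zero_add] at h1 h2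
      exact Prod.ext (mul_right_cancel₀ hne h1) (mul_right_cancel₀ hne h2)
    have := Nat.card_le_card_of_injective (fun x : {x : F × F // x ≠ 0} =>
      (⟨x.1.1 • u + x.1.2 • w, fun e => x.2 (hinj (e.trans (by simp))), hu.2.line hw.2 hne _ _⟩ :
        {u : V4 // P ω u})) fun x y e => Subtype.ext (hinj (congrArg Subtype.val e))
    rw [Nat.card_eq_fintype_card, Fintype.card_subtype_compl, Fintype.card_subtype_eq,
      ← Nat.card_eq_fintype_card, Nat.card_prod] at this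
    have h2 : q * (q - 1) + q = q * q := by
      rw [Nat.mul_sub_one, Nat.sub_add_cancel (Nat.le_mul_self q)]
    change q * q - 1 ≤ r at this
    omega
  by_cases hone : ∀ w, P ω w → ∃ d : F, w = d • a
  · have hPq := card_proj_le (ω := ω) (Projectivization.mk F a ha0) (by
      intro g hg
      have h1 := hfull.conj g
      rw [hg] at h1
      obtain ⟨d, hd⟩ := hone _ ⟨fun e => ha0 (sp_mulVec_injective g (e.trans (mulVec_zero _).symm)), h1⟩
      show Projectivization.mk F (g.1 *ᵥ a) _ = _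
      exact (Projectivization.mk_eq_mk_iff' F _ _ _ _).2 ⟨d, hd.symm⟩)
    have := card_proj_mul F 2
    have h1 := Nat.mul_le_mul_right (q - 1) hPq
    rw [this] at h1
    exact absurd (lt_of_le_of_lt h1 hN) (lt_irrefl _)
  push Not at hone
  obtain ⟨w, hw, hwa⟩ := hone
  -- the stabilizer of `a` moves `w` to every vector orthogonal to `a` outside its line
  obtain ⟨a', haa'⟩ := exists_partner ha0
  have hmoveY : ∀ y, sympForm 2 F a y = 0 → (∀ d : F, y ≠ d • a) →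
      ∃ g : symplecticGroup (Fin 2) F, g.1 *ᵥ a = a ∧ g.1 *ᵥ w = y := by
    intro y hay hya
    have hne : ∀ z, sympForm 2 F a z = 0 → (∀ d : F, z ≠ d • a) →
        z + sympForm 2 F a' z • a ≠ 0 := fun z _ hz e =>
      hz (-sympForm 2 F a' z) (by rw [neg_smul]; exact eq_neg_of_add_eq_zero_left e)
    have haw : sympForm 2 F a w = 0 := hperp a w ⟨ha0, hfull⟩ hw
    set w₀ := w + sympForm 2 F a' w • a
    set y₀ := y + sympForm 2 F a' y • a
    have hw₀ : w₀ ∈ pairPerp a a' := exists_pairPerp_shift haa' haw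
    have hy₀ : y₀ ∈ pairPerp a a' := exists_pairPerp_shift haa' hay
    obtain ⟨g, hg, hgw⟩ := exists_wGroup_move haa' hw₀ hy₀ (hne w haw hwa) (hne y hay hya)
    obtain ⟨z, hz, hzy⟩ := pairPerp_nondeg haa' hy₀ (hne y hay hya)
    set e := (sympForm 2 F a' w - sympForm 2 F a' y) / sympForm 2 F y₀ z
    have hze := Submodule.smul_mem (pairPerp a a') e hz
    have hav := perp_of_mem_pairPerp hze
    have hga : g.1 *ᵥ a = a := (wGroup_le a a' hg).1
    refine ⟨eic a (e • z) 0 * g, ?_, ?_⟩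
    · rw [Submonoid.coe_mul, ← mulVec_mulVec, hga, eic_apply hav, sympForm_self, hav]
      simp
    · have hw' : w = w₀ + (-sympForm 2 F a' w) • a := by simp [w₀]
      have hyy : y = y₀ + (-sympForm 2 F a' y) • a := by simp [y₀]
      rw [Submonoid.coe_mul, ← mulVec_mulVec, hw', mulVec_add, mulVec_smul, hgw, hga, mulVec_add,
        mulVec_smul, eic_apply hav, eic_apply hav, sympForm_self, hav, sympForm_swap a y₀,
        perp_of_mem_pairPerp hy₀, sympForm_smul_right, div_mul_cancel₀ _ hzy]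
      conv_rhs => rw [hyy]
      module
  choose g hga hgw using hmoveY
  have key := Nat.card_le_card_of_injective
    (fun y : {y : V4 // sympForm 2 F a y = 0 ∧ ∀ d : F, y ≠ d • a} =>
      (⟨⟨g y.1 y.2.1 y.2.2 • ω, by
          have := hPg (g y.1 y.2.1 y.2.2) _ _ (show P ω a from ⟨ha0, hfull⟩)
          rwa [hga] at this⟩, ⟨y.1, by
          have := hPg (g y.1 y.2.1 y.2.2) _ _ hw
          rwa [hgw] at this⟩⟩ :
        Σ o : {ω' : Ω // P ω' a}, {y : V4 // P o.1 y}))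
    (fun y y' e => Subtype.ext (congrArg (fun s => s.2.1) e))
  let _ : Fintype Ω := Fintype.ofFinite Ω
  have hra : ∀ o : {ω' : Ω // P ω' a}, Nat.card {y : V4 // P o.1 y} = r := by
    intro o
    have h1 := double_count P (fun _ _ hu => hu.1) hPg o.1 hv
    exact Nat.eq_of_mul_eq_mul_left (show 0 < N from Nat.card_pos_iff.2 ⟨⟨ω⟩, inferInstance⟩)
      (h1.trans hdc.symm)
  have hna : Nat.card {ω' : Ω // P ω' a} = n := by
    have h1 := double_count P (fun _ _ hu => hu.1) hPg ω ha0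
    refine Nat.eq_of_mul_eq_mul_left ?_ (h1.symm.trans hdc)
    exact Nat.sub_pos_of_lt (Nat.one_lt_pow (by omega) (by omega))
  rw [card_perp_indep ha0, Nat.card_sigma, Finset.sum_congr rfl fun o _ => hra o, Finset.sum_const,
    smul_eq_mul, Finset.card_univ, ← Nat.card_eq_fintype_card, hna, ← hqdef] at key
  have h5 : n * r ≤ q * (q * (q - 1)) := Nat.mul_le_mul hn hr
  obtain ⟨k, hk⟩ : ∃ k, q = k + 1 := ⟨q - 1, by omega⟩
  rw [hk, Nat.add_sub_cancel] at h5
  rw [hk] at key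
  have h6 : (k + 1) ^ 3 = (k + 1) * ((k + 1) * k) + (k + 1) * (k + 1) := by ring
  have h7 : 4 * (k + 1) ≤ (k + 1) * (k + 1) := Nat.mul_le_mul_right _ (by omega)
  omega

include p in
/-- A point and a vector that is not full: the radical fixer is trivial or covers the complement. -/
theorem aFix_cases_two (hq : 4 ≤ Nat.card F)
    (hN : Nat.card Ω * (Nat.card F - 1) < Nat.card F ^ 4 - 1) {v v' : V4}
    (h : sympForm 2 F v v' = 1) {ω : Ω} (hS : sFix v ω ≠ ⊤) :
    aFix v v' ω = ⊥ ∨ aFix v v' ω = (pairPerp v v').toAddSubgroup := by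
  by_contra hc
  push Not at hc
  obtain ⟨hA0, hA⟩ := hc
  by_cases hS0 : sFix v ω = ⊥
  swap
  · exact not_partial p hq hN h hS0 hS hA0 hA
  rcases family_two p h hq ω hA0 hA with hfam | hline
  · have h1 := le_trans (Nat.mul_le_mul_right (sFix v ω).index hfam)
      (le_of_eq_of_le (mul_assoc _ _ _) (imgFamily_mul_le ω))
    rw [hS0, AddSubgroup.index_bot] at h1
    obtain ⟨k, hk⟩ : ∃ k, Nat.card F = k + 1 := ⟨Nat.card F - 1, by omega⟩
    rw [hk] at hN h1
    rw [Nat.add_sub_cancel] at hN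
    have h2 := Nat.mul_le_mul_right k h1
    have h3 : (k + 1 + 1) * (k + 1 + 1) * (k + 1) * k + 1 =
        (k + 1) ^ 4 + (k ^ 3 + 2 * k ^ 2) := by ring
    omega
  · exact not_alpha hq hN h hS0 hline

end CfsgLib.SpMinIndex
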