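/-
The smallest number of points of a non-trivial transitive action of `Sp_4(q)`, `q ≥ 4`.
-/
import Cfsg.Agent.Lib.SpMinIndex.Dim2Cases

set_option autoImplicit false

namespace CfsgLib.SpMinIndex

open Matrix Cfsg CfsgLib.Classical
open scoped LinearAlgebra.Projectivization

variable {F : Type*} [Field F]

local notation "V4" => (Fin 2 ⊕ Fin 2 → F)

theorem eic_symm {v u : V4} (hvu : sympForm 2 F v u = 0) (s : F) :
    eic v (s • u) 0 = eic u (s • v) 0 := by
  refine sp_ext fun z => ?_
  rw [eic_apply (by rw [sympForm_smul_right, hvu, mul_zero]),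
    eic_apply (by rw [sympForm_smul_right, sympForm_swap, hvu, neg_zero, mul_zero])]
  simp only [sympForm_smul_right]
  module

theorem spT_mul_shift (h2 : (2 : F) = 0) {v u : V4} (hvu : sympForm 2 F v u = 0) (r t : F) :
    spT (v + r • u) t * spT v t = eic u ((t * r) • v) (t * r ^ 2) := by
  have huv : sympForm 2 F u v = 0 := by rw [sympForm_swap, hvu, neg_zero]
  refine sp_ext fun z => ?_
  rw [Submonoid.coe_mul, ← mulVec_mulVec, eic_apply (by rw [sympForm_smul_right, huv, mul_zero]),
    spT_apply, spT_apply]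
  simp only [sympForm_add_left, sympForm_add_right, sympForm_smul_left, sympForm_smul_right,
    sympForm_self, hvu, mul_zero, add_zero]
  have e : ∀ w : V4, w + w = 0 := fun w => by rw [← two_smul F, h2, zero_smul]
  have key : (t * sympForm 2 F z v) • v + (t * sympForm 2 F z v) • v = 0 := e _
  rw [← sub_eq_zero]
  calc _ = (t * sympForm 2 F z v) • v + (t * sympForm 2 F z v) • v := by module
    _ = 0 := key

variable {Ω : Type*} [MulAction (symplecticGroup (Fin 2) F) Ω]

/-- An element of the radical of `u` fixing `ω` moves `v` along `u`. -/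
theorem exists_fix_shift {ω : Ω}
    (H : ∀ u a : V4, u ≠ 0 → sympForm 2 F u a = 0 → ∃ t, eic u a t • ω = ω) {v u : V4}
    (hv : v ≠ 0) (hvu : sympForm 2 F v u = 0) (hind : ∀ c : F, u ≠ c • v) (r : F) :
    ∃ g : symplecticGroup (Fin 2) F, g • ω = ω ∧ g.1 *ᵥ v = v + r • u ∧ g.1 *ᵥ u = u := by
  obtain ⟨v', h⟩ := exists_partner hv
  have hu₀ : u + sympForm 2 F v' u • v ≠ 0 := fun e =>
    hind (-sympForm 2 F v' u) (by rw [neg_smul]; exact eq_neg_of_add_eq_zero_left e)
  obtain ⟨z, hz, huz⟩ := pairPerp_nondeg h (exists_pairPerp_shift h hvu) hu₀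
  have hvz := perp_of_mem_pairPerp hz
  rw [sympForm_add_left, sympForm_smul_left, hvz, mul_zero, add_zero] at huz
  set a := r • (v' - (sympForm 2 F u v' / sympForm 2 F u z) • z) with ha
  have hua : sympForm 2 F u a = 0 := by
    rw [ha, sympForm_smul_right, sympForm_sub_right, sympForm_smul_right, div_mul_cancel₀ _ huz,
      sub_self, mul_zero]
  have hva : sympForm 2 F v a = r := by
    rw [ha, sympForm_smul_right, sympForm_sub_right, sympForm_smul_right, h, hvz, mul_zero, sub_zero,
      mul_one]
  obtain ⟨t, ht⟩ := H u a (fun e => hind 0 (by rw [e, zero_smul])) hua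
  refine ⟨eic u a t, ht, ?_, ?_⟩ <;> rw [eic_apply hua]
  · rw [hva, hvu]; simp
  · rw [sympForm_self, hua]; simp

variable [Finite F]

/-- A vector orthogonal to two given ones outside both of their lines. -/
theorem exists_perp_both (hq : 3 ≤ Nat.card F) (v w : V4) :
    ∃ x, x ≠ 0 ∧ sympForm 2 F v x = 0 ∧ sympForm 2 F w x = 0 ∧ (∀ c : F, x ≠ c • v) ∧
      ∀ c : F, x ≠ c • w := by
  classical
  let _ : Fintype F := Fintype.ofFinite F
  set L : V4 →ₗ[F] F × F := (spBilin 2 F v).prod (spBilin 2 F w)
  have hK : Nat.card F ^ 2 ≤ Nat.card (LinearMap.ker L) := by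
    have h1 := LinearMap.finrank_range_add_finrank_ker L
    have h2 := Submodule.finrank_le (LinearMap.range L)
    rw [Module.finrank_prod, Module.finrank_self] at h2
    rw [Module.finrank_pi, Fintype.card_sum, Fintype.card_fin] at h1
    rw [Module.natCard_eq_pow_finrank (K := F) (V := LinearMap.ker L)]
    exact Nat.pow_le_pow_right Nat.card_pos (by omega)
  by_contra hc
  push Not at hc
  have hsub : (LinearMap.ker L : Set V4) ⊆
      Set.range (fun c : F => c • v) ∪ Set.range (fun c : F => c • w) := by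
    intro x hx
    rcases eq_or_ne x 0 with rfl | hx0
    · exact Or.inl ⟨0, zero_smul F v⟩
    have hx' : sympForm 2 F v x = 0 ∧ sympForm 2 F w x = 0 := by
      simpa [L, Prod.ext_iff] using hx
    by_cases h : ∀ c : F, x ≠ c • v
    · obtain ⟨c, hc'⟩ := hc x hx0 hx'.1 hx'.2 h
      exact Or.inr ⟨c, hc'.symm⟩
    · push Not at h
      obtain ⟨c, hc'⟩ := h
      exact Or.inl ⟨c, hc'.symm⟩
  have h1 := (Set.ncard_le_ncard hsub).trans (Set.ncard_union_le _ _)
  simp only [← Nat.card_coe_set_eq] at h1
  have h2 : ∀ x : V4, Nat.card (Set.range fun c : F => c • x) ≤ Nat.card F := fun x =>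
    Finite.card_range_le _
  have := h2 v
  have := h2 w
  change Nat.card (LinearMap.ker L) ≤ _ at h1
  have : 3 * Nat.card F ≤ Nat.card F ^ 2 := by
    rw [sq]; exact Nat.mul_le_mul_right _ hq
  have := (Nat.card_pos : 0 < Nat.card F)
  omega

variable [Finite Ω] [MulAction.IsPretransitive (symplecticGroup (Fin 2) F) Ω] [Nontrivial Ω]

omit [Finite Ω] in
/-- Some radical fixer does not cover the complement. -/
theorem exists_aFix_ne_two (hq : 4 ≤ Nat.card F) (hsimple : IsSimpleGroup (Cfsg.PSp 2 F))
    (hperf : commutator (symplecticGroup (Fin 2) F) = ⊤) {v v' : V4}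
    (h : sympForm 2 F v v' = 1) : ∃ ω : Ω, aFix v v' ω ≠ (pairPerp v v').toAddSubgroup := by
  classical
  let _ : Fintype F := Fintype.ofFinite F
  by_contra hc
  push Not at hc
  have H : ∀ ω : Ω, ∀ u a : V4, u ≠ 0 → sympForm 2 F u a = 0 → ∃ t, eic u a t • ω = ω := by
    intro ω u a hu ha
    obtain ⟨u', hu'⟩ := exists_partner hu
    obtain ⟨g, -, hg, hg'⟩ := exists_sp_move_pair h hu'
    have ha' := exists_pairPerp_shift hu' ha
    have hmem : g⁻¹.1 *ᵥ (a + sympForm 2 F u' a • u) ∈ aFix v v' (g⁻¹ • ω) := by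
      rw [hc, Submodule.mem_toAddSubgroup, mem_pairPerp]
      rw [mem_pairPerp] at ha'
      constructor
      · rw [← sp_form g, hg, sp_mulVec_inv, ha'.1]
      · rw [← sp_form g, hg', sp_mulVec_inv, ha'.2]
    have := mem_aFix_smul' g hmem
    rw [sp_mulVec_inv, hg, hg', smul_inv_smul] at this
    obtain ⟨-, t, ht⟩ := this
    exact ⟨_, by rwa [eic_shift ha] at ht⟩
  have hv : v ≠ 0 := fun e => by rw [e, sympForm_zero_left] at h; exact zero_ne_one h
  rcases ne_or_eq (2 : F) 0 with h2 | h2
  · -- odd characteristic: the commutators fill the long root group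
    obtain ⟨ω, hω⟩ := exists_sFix_ne_top (Ω := Ω) hsimple hperf h
    obtain ⟨a, ha, b, hb, hab⟩ := exists_compl_pair h le_rfl
    refine hω (eq_top_iff.2 fun d _ => ?_)
    set b' := (d / (2 * sympForm 2 F b a)) • b
    have hba : sympForm 2 F b a ≠ 0 := by rw [sympForm_swap]; exact neg_ne_zero.2 hab
    have hb' : b' ∈ pairPerp v v' := Submodule.smul_mem _ _ hb
    have hav := perp_of_mem_pairPerp ha
    have hbv := perp_of_mem_pairPerp hb'
    obtain ⟨t, ht⟩ := H ω v a hv hav
    obtain ⟨s, hs⟩ := H ω v b' hv hbv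
    have e1 : (eic v a t * eic v b' s) • ω = ω := by rw [mul_smul, hs, ht]
    have e2 : (eic v b' s * eic v a t) • ω = ω := by rw [mul_smul, ht, hs]
    have hd : sympForm 2 F b' a * 2 = d := by
      show sympForm 2 F ((d / (2 * sympForm 2 F b a)) • b) a * 2 = d
      rw [sympForm_smul_left]
      field_simp
    have e3 : eic v a t * eic v b' s = spT v d * (eic v b' s * eic v a t) := by
      rw [eic_mul hav hbv, eic_mul hbv hav, ← eic_zero,
        eic_mul (sympForm_zero_right v) (by rw [sympForm_add_right, hbv, hav, add_zero]),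
        sympForm_zero_right, zero_add, add_zero, add_comm b' a, sympForm_swap b' a]
      congr 1
      linear_combination hd
    rw [e3, mul_smul, e2] at e1
    exact e1
  -- characteristic two
  have hS0 : ∀ (ω : Ω) (x : V4), x ≠ 0 → sFix x ω = ⊥ := by
    intro ω
    have hstep : ∀ v w : V4, v ≠ 0 → sympForm 2 F v w = 0 → (∀ c : F, w ≠ c • v) →
        sFix v ω ≤ sFix w ω := by
      intro v w hv hvw hind t ht
      obtain ⟨g, hg, hgv, -⟩ := exists_fix_shift (H ω) hv
        (show sympForm 2 F v (w - v) = 0 by rw [sympForm_sub_right, hvw, sympForm_self, sub_zero])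
        (fun c e => hind (c + 1) (by rw [add_smul, one_smul, ← e, sub_add_cancel])) 1
      rw [one_smul, add_sub_cancel] at hgv
      have := sFix_smul g v ω
      rw [hgv, hg] at this
      rwa [this]
    have hle : ∀ v w : V4, v ≠ 0 → w ≠ 0 → sFix v ω ≤ sFix w ω := by
      intro v w hv hw
      obtain ⟨x, hx, hvx, hwx, hxv, hxw⟩ := exists_perp_both (by omega) v w
      refine (hstep v x hv hvx hxv).trans (hstep x w hx ?_ fun c e => ?_)
      · rw [sympForm_swap, hwx, neg_zero]
      · have hc0 : c ≠ 0 := fun e0 => hw (by rw [e, e0, zero_smul])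
        exact hxw c⁻¹ (by rw [e, inv_smul_smul₀ hc0])
    intro x hx
    rw [AddSubgroup.eq_bot_iff_forall]
    by_contra hne
    push Not at hne
    obtain ⟨t, ht, ht0⟩ := hne
    have hsq : Function.Surjective fun k : F => k ^ 2 :=
      Finite.surjective_of_injective fun a b (e : a ^ 2 = b ^ 2) => by
        have : (a - b) ^ 2 = 0 := by linear_combination e + (b ^ 2 - a * b) * h2
        exact sub_eq_zero.1 (pow_eq_zero_iff two_ne_zero |>.1 this)
    have hfull : ∀ w : V4, FullAt ω w := by
      intro w c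
      rcases eq_or_ne c 0 with rfl | hc0
      · rw [spT_zero, one_smul]
      rcases eq_or_ne w 0 with rfl | hw
      · rw [show spT (0 : V4) c = 1 from sp_ext fun z => by simp [spT_apply], one_smul]
      obtain ⟨k, hk⟩ := hsq (c / t)
      simp only at hk
      have hk0 : k ≠ 0 := fun e => div_ne_zero hc0 ht0 (by rw [← hk, e]; ring)
      have := hle x (k • w) hx (smul_ne_zero hk0 hw) ht
      rwa [mem_sFix, spT_smul, hk, mul_div_cancel₀ _ ht0] at this
    have htop : (⊤ : Subgroup (symplecticGroup (Fin 2) F)) ≤ MulAction.stabilizer _ ω := by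
      rw [← spTGroup_univ, spTGroup, Subgroup.closure_le]
      rintro A ⟨u, -, c, rfl⟩
      exact hfull u c
    obtain ⟨a, b, hab⟩ := exists_pair_ne Ω
    obtain ⟨g, hg⟩ := MulAction.exists_smul_eq (symplecticGroup (Fin 2) F) ω a
    obtain ⟨g', hg'⟩ := MulAction.exists_smul_eq (symplecticGroup (Fin 2) F) ω b
    exact hab ((hg.symm.trans (htop (Subgroup.mem_top g))).trans
      ((hg'.symm.trans (htop (Subgroup.mem_top g'))).symm))
  obtain ⟨u, hu, hu0⟩ : ∃ u ∈ pairPerp v v', u ≠ 0 := by
    obtain ⟨a, ha, b, -, hab⟩ := exists_compl_pair h le_rfl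
    exact ⟨a, ha, fun e => hab (by rw [e, sympForm_zero_left])⟩
  obtain ⟨ω, hω⟩ := exists_smul_ne (Ω := Ω) hsimple hperf (eic_not_mem_center h hu hu0)
  have hvu := perp_of_mem_pairPerp hu
  have huv : sympForm 2 F u v = 0 := by rw [sympForm_swap, hvu, neg_zero]
  have hind : ∀ c : F, u ≠ c • v := fun c e => hu0 (by
    have h1 := (mem_pairPerp.1 hu).2
    rw [e, sympForm_smul_right, sympForm_swap v v', h, mul_neg, mul_one, neg_eq_zero] at h1
    rw [e, h1, zero_smul])
  have hind' : ∀ c : F, v ≠ c • u := fun c e => by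
    have hc0 : c ≠ 0 := fun e0 => hv (by rw [e, e0, zero_smul])
    exact hind c⁻¹ (by rw [e, inv_smul_smul₀ hc0])
  have huniq : ∀ {v a : V4}, v ≠ 0 → sympForm 2 F v a = 0 → ∀ {t t' : F},
      eic v a t • ω = ω → eic v a t' • ω = ω → t = t' := by
    intro v a hv hva t t' ht ht'
    have : t - t' ∈ sFix v ω := by
      rw [mem_sFix]
      have e : eic v a t = spT v (t - t') * eic v a t' := by
        rw [← eic_zero, eic_mul (sympForm_zero_right v) hva]
        simp
      rw [e, mul_smul, ht'] at ht
      exact ht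
    rw [hS0 ω v hv, AddSubgroup.mem_bot, sub_eq_zero] at this
    exact this
  have key : ∀ v u : V4, v ≠ 0 → sympForm 2 F v u = 0 → (∀ c : F, u ≠ c • v) → ∀ s t : F, t ≠ 0 →
      eic v (s • u) t • ω = ω → ∀ s', eic u (s' • v) (s' ^ 2 / t) • ω = ω := by
    intro v u hv hvu hind s t ht0 hts s'
    have hu0 : u ≠ 0 := fun e => hind 0 (by rw [e, zero_smul])
    have huv : sympForm 2 F u v = 0 := by rw [sympForm_swap, hvu, neg_zero]
    have hvsu : sympForm 2 F v (s • u) = 0 := by rw [sympForm_smul_right, hvu, mul_zero]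
    have husv : sympForm 2 F u (s • v) = 0 := by rw [sympForm_smul_right, huv, mul_zero]
    obtain ⟨c, hc⟩ := H ω u (s • v) hu0 husv
    set X := eic v (s • u) 0
    have hXX : X * X = 1 := by
      rw [eic_mul hvsu hvsu, ← two_smul F, h2, zero_smul, sympForm_self, eic_zero]
      simp [spT_zero]
    have e1 : eic v (s • u) t = spT v t * X := by
      rw [← eic_zero, eic_mul (sympForm_zero_right v) hvsu]; simp
    have e2 : eic u (s • v) c = X * spT u c := by
      rw [show X = eic u (s • v) 0 from eic_symm hvu s, ← eic_zero,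
        eic_mul husv (sympForm_zero_right u)]
      simp
    have hk : (spT v t * spT u c) • ω = ω := by
      have e3 : spT v t * spT u c = eic v (s • u) t * eic u (s • v) c := by
        rw [e1, e2, mul_assoc, ← mul_assoc X, hXX, one_mul]
      rw [e3, mul_smul, hc, hts]
    obtain ⟨g, hg, hgv, hgu⟩ := exists_fix_shift (H ω) hv hvu hind (s' / t)
    have hk' : (spT (v + (s' / t) • u) t * spT u c) • ω = ω := by
      have e : g * (spT v t * spT u c) * g⁻¹ = spT (v + (s' / t) • u) t * spT u c := by
        rw [← hgv]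
        conv_rhs => arg 2; rw [← hgu]
        rw [← spT_conj, ← spT_conj]
        group
      rw [← e, mul_smul, mul_smul, inv_smul_eq_iff.2 hg.symm, hk, hg]
    have h3 : (spT (v + (s' / t) • u) t * spT v t) • ω = ω := by
      have hcm : spT v t * spT u c = spT u c * spT v t := by
        conv_lhs => rw [← inv_mul_cancel_right (spT v t * spT u c) (spT v t), spT_conj, spT_fix huv]
      have h4 : spT v (-t) • ω = spT u c • ω := by
        rw [← spT_inv, inv_smul_eq_iff, ← mul_smul]; exact hk.symm
      rw [mul_smul] at hk'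
      rw [← h4, ← mul_smul] at hk'
      have e : spT v t = spT v (-t) := by
        congr 1; linear_combination t * h2
      rwa [← e] at hk'
    rw [spT_mul_shift h2 hvu] at h3
    rwa [mul_div_cancel₀ _ ht0, show t * (s' / t) ^ 2 = s' ^ 2 / t by field_simp] at h3
  apply hω
  obtain ⟨t, ht⟩ := H ω v u hv hvu
  rcases eq_or_ne t 0 with rfl | ht0
  · exact ht
  exfalso
  have k1 := key v u hv hvu hind 1 t ht0 (by rwa [one_smul])
  have k2 := key u v hu0 huv hind' 1 (1 / t) (one_div_ne_zero ht0) (by
    have := k1 1; rwa [one_pow] at this)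
  obtain ⟨s, hs0, hs1⟩ := exists_field_ne (F := F) (by omega) 0 1
  have k3 := key v u hv hvu hind s (s ^ 2 / (1 / t))
    (div_ne_zero (pow_ne_zero 2 hs0) (one_div_ne_zero ht0)) (k2 s) 1
  have e := huniq hu0 (by rw [sympForm_smul_right, huv, mul_zero]) (k1 1) k3
  have hs2 : s ^ 2 = 1 := by
    field_simp at e
    exact e
  rcases sq_eq_one_iff.1 hs2 with e | e
  · exact hs1 e
  · exact hs1 (e.trans (by linear_combination -h2))

omit [Nontrivial Ω] in
theorem card_four_bound {q N P : ℕ} (hlt : N < P) (hP : P * (q - 1) = q ^ 4 - 1) (hq : 2 ≤ q) :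
    N * (q - 1) < q ^ 4 - 1 := by
  rw [← hP]
  exact Nat.mul_lt_mul_of_pos_right hlt (by omega)

/-- A non-trivial transitive action of `Sp_4(q)`, `q ≥ 4`, has at least as many points as the
projective space. -/
theorem card_ge_dim2 (hq : 4 ≤ Nat.card F) :
    Nat.card (ℙ F V4) ≤ Nat.card Ω := by
  classical
  let _ : Fintype F := Fintype.ofFinite F
  by_contra hlt
  push Not at hlt
  set p := ringChar F
  haveI : Fact p.Prime := ⟨CharP.char_is_prime F p⟩
  let _ : Algebra (ZMod p) F := ZMod.algebra F p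
  have hN : Nat.card Ω * (Nat.card F - 1) < Nat.card F ^ 4 - 1 :=
    card_four_bound hlt (card_proj_mul F 2) (by omega)
  have hsimple := isSimpleGroup_PSp (F := F) (m := 2) le_rfl (fun _ => by
    rw [← Nat.card_eq_fintype_card]; omega)
  have hperf : commutator (symplecticGroup (Fin 2) F) = ⊤ :=
    commutator_sp_eq_top (Or.inl (by
      by_contra hc
      push Not at hc
      have hsub : (Finset.univ : Finset F) ⊆ {0, 1, -1} := fun x _ => by
        rcases eq_or_ne x 0 with e | e
        · simp [e]
        · rcases sq_eq_one_iff.1 (hc x e) with e | e <;> simp [e]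
      have := (Finset.card_le_card hsub).trans Finset.card_le_three
      rw [Finset.card_univ, ← Nat.card_eq_fintype_card] at this
      omega))
  refine false_of_cases (F := F) (m := 2) le_rfl (by omega) hlt (fun ω v v' h hv => ?_)
    fun h => exists_aFix_ne_two hq hsimple hperf h
  have hS : sFix v ω ≠ ⊤ := fun e => hv (fullAt_iff.2 e)
  rcases aFix_cases_two p hq hN h hS with h0 | h0
  · refine Or.inl (exists_full_complement h le_rfl (by omega) (fun _ => hq) hS h0 ?_)
    rw [card_pairPerp_two h, show Nat.card F ^ 2 * (Nat.card F * Nat.card F) = Nat.card F ^ 4 by ring]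
    omega
  · exact Or.inr h0

end CfsgLib.SpMinIndex
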