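/-
The symplectic groups over the field with two elements: the smallest number of points of a
non-trivial transitive action, and a subgroup attaining it.
-/
import Cfsg.Agent.Lib.SpMinIndex.Orbits

set_option autoImplicit false

namespace CfsgLib.SpMinIndex

open Matrix Cfsg CfsgLib.Classical

section gauss

variable {F : Type*} [Field F] [Fintype F]

theorem eq_zero_or_one (hF : Fintype.card F = 2) (x : F) : x = 0 ∨ x = 1 := by
  classical
  have h : ({0, 1} : Finset F) = Finset.univ :=
    Finset.eq_univ_of_card _ (by rw [Finset.card_pair zero_ne_one, hF])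
  have h' : x ∈ ({0, 1} : Finset F) := h ▸ Finset.mem_univ x
  simpa using h'

theorem add_self_two (hF : Fintype.card F = 2) (x : F) : x + x = 0 := by
  rcases eq_zero_or_one hF (1 + 1 : F) with h | h
  · linear_combination x * h
  · simp at h

/-- The sign attached to an element of the field with two elements. -/
noncomputable def sgn2 (x : F) : ℤ := open scoped _root_.Classical in if x = 0 then 1 else -1

theorem sgn2_add (hF : Fintype.card F = 2) (x y : F) : sgn2 (x + y) = sgn2 x * sgn2 y := by
  rcases eq_zero_or_one hF x with rfl | rfl <;> rcases eq_zero_or_one hF y with rfl | rfl <;>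
    simp [sgn2, add_self_two hF]

variable {M : Type*} [AddCommGroup M] [Fintype M] (h : M → F) (b : M → M → F)

theorem gauss_sq (hF : Fintype.card F = 2) (hh : ∀ x y, h (x + y) = h x + h y + b x y)
    (hb : ∀ x y z, b x (y + z) = b x y + b x z) (hnd : ∀ x, x ≠ 0 → ∃ y, b x y = 1) :
    (∑ x, sgn2 (h x)) * (∑ x, sgn2 (h x)) = Fintype.card M := by
  classical
  have h0 : h 0 = 0 := by
    have h1 := hh 0 0
    have h2 := hb 0 0 0
    rw [add_zero] at h1 h2
    linear_combination -h1 + h2
  have inner : ∀ x, ∑ y, sgn2 (b x y) = if x = 0 then (Fintype.card M : ℤ) else 0 := by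
    intro x
    split_ifs with hx
    · subst hx
      have : ∀ y, b 0 y = 0 := fun y => by
        have h1 := hh 0 y
        rw [zero_add, h0] at h1
        linear_combination -h1
      simp [this, sgn2]
    · obtain ⟨y, hy⟩ := hnd x hx
      have e := Fintype.sum_equiv (Equiv.addRight y) (fun z => sgn2 (b x (z + y))) (fun z => sgn2 (b x z))
        (fun z => rfl)
      simp only [hb, sgn2_add hF, hy] at e
      rw [← Finset.sum_mul, show sgn2 (1 : F) = -1 by simp [sgn2]] at e
      linarith
  calc (∑ x, sgn2 (h x)) * (∑ x, sgn2 (h x))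
      = ∑ y, ∑ x, sgn2 (h x) * sgn2 (h y) := by
        rw [Finset.sum_mul_sum, Finset.sum_comm]
    _ = ∑ y, ∑ x, sgn2 (h (x + y)) * sgn2 (h y) := Finset.sum_congr rfl fun y _ =>
        (Fintype.sum_equiv (Equiv.addRight y) (fun x => sgn2 (h (x + y)) * sgn2 (h y)) _
          fun x => rfl).symm
    _ = ∑ y, ∑ x, sgn2 (h x) * sgn2 (b x y) := Finset.sum_congr rfl fun y _ =>
        Finset.sum_congr rfl fun x _ => by
          rw [hh, sgn2_add hF, sgn2_add hF]
          have : sgn2 (h y) * sgn2 (h y) = 1 := by rw [← sgn2_add hF, add_self_two hF]; simp [sgn2]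
          linear_combination (sgn2 (h x) * sgn2 (b x y)) * this
    _ = ∑ x, sgn2 (h x) * ∑ y, sgn2 (b x y) := by rw [Finset.sum_comm]; simp [Finset.mul_sum]
    _ = _ := by simp only [inner]; simp [h0, sgn2]

theorem sum_sgn2 (hF : Fintype.card F = 2) :
    ∑ x, sgn2 (h x) = 2 * (Nat.card {x : M // h x = 0} : ℤ) - Fintype.card M := by
  classical
  rw [Nat.card_eq_fintype_card, Fintype.card_subtype, ← Finset.sum_filter_add_sum_filter_not
    Finset.univ (fun x => h x = 0)]
  have hc := Finset.card_filter_add_card_filter_not (s := (Finset.univ : Finset M)) (fun x => h x = 0)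
  rw [Finset.card_univ] at hc
  rw [Finset.sum_congr rfl (fun x hx => by rw [(Finset.mem_filter.1 hx).2, sgn2, if_pos rfl]),
    Finset.sum_congr (rfl : Finset.univ.filter (fun x => ¬ h x = 0) = _)
      (fun x hx => by rw [sgn2, if_neg (Finset.mem_filter.1 hx).2]),
    Finset.sum_const, Finset.sum_const, ← hc]
  simp only [nsmul_eq_mul, mul_one, mul_neg, Nat.cast_add]
  ring

end gauss

section bound

variable {F : Type*} [Field F] [Fintype F] {m : ℕ}
variable {Ω : Type*} [MulAction (symplecticGroup (Fin m) F) Ω] [Finite Ω]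
variable [MulAction.IsPretransitive (symplecticGroup (Fin m) F) Ω] [Nontrivial Ω]

open scoped _root_.Classical in
/-- A non-trivial transitive action of `Sp_2m(2)`, `m ≥ 3`, has at least `2^(m-1)(2^m - 1)`
points. -/
theorem card_ge_two (hF : Fintype.card F = 2) (hm : 3 ≤ m) :
    2 ^ (m - 1) * (2 ^ m - 1) ≤ Nat.card Ω := by
  have : CharP F 2 := by
    haveI := Fact.mk Nat.prime_two
    exact charP_of_prime_pow_injective F 2 |> fun _ => CharTwo.of_one_ne_zero_of_two_eq_zero one_ne_zero
      (by linear_combination add_self_two hF (1 : F))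
  let _ : Algebra (ZMod 2) F := ZMod.algebra F 2
  have hq : Nat.card F = 2 := by rw [Nat.card_eq_fintype_card, hF]
  have hsimple := isSimpleGroup_PSp (F := F) (by omega : 2 ≤ m) (fun h => absurd h (by omega))
  have hperf := commutator_sp_eq_top (F := F) (m := m) (Or.inr (Or.inl hm))
  set i : Fin m := ⟨0, by omega⟩
  set v : Fin m ⊕ Fin m → F := Pi.single (Sum.inr i) 1
  set v' : Fin m ⊕ Fin m → F := Pi.single (Sum.inl i) 1
  have h : sympForm m F v v' = 1 := by simp [v, v', sympForm_single_inl]
  obtain ⟨k, rfl⟩ : ∃ k, m = k + 1 := ⟨m - 1, by omega⟩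
  set M := 2 ^ k
  have hW : Nat.card (pairPerp v v') = M * M := by
    rw [(card_pairPerp h).1, hq, ← pow_add]; congr 1; omega
  have hM4 : 4 ≤ M := le_trans (by norm_num) (Nat.pow_le_pow_right (by norm_num) (show 2 ≤ k by omega))
  have hgoal : 2 ^ (k + 1 - 1) * (2 ^ (k + 1) - 1) = 2 * (M * M) - M := by
    rw [Nat.add_sub_cancel, pow_succ, Nat.mul_sub, mul_one]; congr 1; ring
  rw [hgoal]
  by_contra hlt
  push Not at hlt
  -- the points moved by the transvections at `v`
  have hS : ∀ ω : Ω, sFix v ω ≠ ⊤ →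
      sFix v ω = ⊥ ∧ aFix v v' ω = (pairPerp v v').toAddSubgroup := by
    intro ω hω
    have hbot : sFix v ω = ⊥ := by
      rw [AddSubgroup.eq_bot_iff_forall]
      intro t ht
      rcases eq_zero_or_one hF t with rfl | rfl
      · rfl
      · refine absurd ?_ hω
        rw [eq_top_iff]
        intro s _
        rcases eq_zero_or_one hF s with rfl | rfl
        · exact zero_mem _
        · exact ht
    refine ⟨hbot, ?_⟩
    have hidx : (sFix v ω).index = 2 := by rw [hbot, AddSubgroup.index_bot, hq]
    by_contra hA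
    have hfam := imgFamily_mul_le (v := v) (v' := v') ω
    rw [hidx] at hfam
    set L := Nat.card (imgFamily v v' (aFix v v' ω : Set (Fin (k + 1) ⊕ Fin (k + 1) → F)))
    have hpos : 16 ≤ M * M := Nat.mul_le_mul hM4 hM4
    by_cases h0 : aFix v v' ω = ⊥
    · have hsum := sum_radOrbit_le (v := v) (v' := v') (fun _ : Unit => ω) (fun _ _ _ => rfl)
      have he : aIndex v v' ω = M * M := by
        have := card_aFix_mul_aIndex (v := v) (v' := v') ω
        rwa [h0, AddSubgroup.card_bot, one_mul, hW] at this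
      simp only [Fintype.sum_unique, hidx, he] at hsum
      omega
    · rcases family_bound 2 h hm ω h0 with hb | ⟨w, -, hw⟩
      · rw [hq, hW] at hb
        change _ ≤ L * aIndex v v' ω at hb
        have h4 : 2 * (L * aIndex v v' ω) ≤ Nat.card Ω := le_trans (le_of_eq (by ring)) hfam
        omega
      · set B := dualIn 2 v v' (aFix v v' ω)
        have hB2 : Nat.card B ≤ 2 := by
          rw [← hq]
          choose c hc using hw
          refine Nat.card_le_card_of_injective (fun z : B => c z.1 z.2)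
            fun x y (e : c x.1 x.2 = c y.1 y.2) => ?_
          exact Subtype.ext (by rw [hc x.1 x.2, hc y.1 y.2, e])
        have hB0 : B ≠ ⊥ := by
          intro e
          apply hA
          have hc := card_mul_card_dualIn 2 h _ (aFix_le v v' ω)
          rw [show dualIn 2 v v' (aFix v v' ω) = ⊥ from e, AddSubgroup.card_bot, mul_one] at hc
          exact AddSubgroup.eq_of_le_of_card_ge (aFix_le v v' ω) hc.ge
        have h1 : Nat.card (pairPerp v v') - 1 ≤
            Nat.card (imgFamily v v' (B : Set (Fin (k + 1) ⊕ Fin (k + 1) → F))) * (Nat.card B - 1) :=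
          imgFamily_bound_one h B (dualIn_le 2 v v' _) hB0
        have h2 := card_imgFamily_dualIn_le (v := v) (v' := v') 2 (aFix v v' ω)
        have hB1 : 2 ≤ Nat.card B := AddSubgroup.one_lt_card_iff_ne_bot B |>.2 hB0
        have hB : Nat.card B = 2 := le_antisymm hB2 hB1
        have hi : aIndex v v' ω = 2 := (index_eq_card_dualIn 2 h _ (aFix_le v v' ω)).trans hB
        rw [hi] at hfam
        rw [hB, hW] at h1
        have h4 : L * (2 * 2) ≤ Nat.card Ω := hfam
        change Nat.card (imgFamily v v' (B : Set (Fin (k + 1) ⊕ Fin (k + 1) → F))) ≤ L at h2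
        omega
  obtain ⟨ω₁, hω₁⟩ := exists_sFix_ne_top (Ω := Ω) (v' := v') hsimple hperf h
  obtain ⟨hω₁S, hω₁A⟩ := hS ω₁ hω₁
  obtain ⟨ω₀, hω₀⟩ := exists_aFix_ne (Ω := Ω) (v := v) (v' := v') hm hsimple hperf h
  have hω₀S : sFix v ω₀ = ⊤ := not_ne_iff.1 fun e => hω₀ (hS ω₀ e).2
  -- the quadratic refinement of `ω₁`
  have hex : ∀ a : pairPerp v v', ∃ t, eic v a.1 t • ω₁ = ω₁ := fun a =>
    ((mem_aFix v v').1 (hω₁A ▸ a.2 : a.1 ∈ aFix v v' ω₁)).2
  choose φ hφ using hex
  have huniq : ∀ (ω : Ω), sFix v ω = ⊥ → ∀ (a : Fin (k + 1) ⊕ Fin (k + 1) → F), a ∈ pairPerp v v' →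
      ∀ s t, eic v a s • ω = ω → eic v a t • ω = ω → s = t := by
    intro ω hω a ha s t hs ht
    have hva := perp_of_mem_pairPerp ha
    have hna : sympForm (k + 1) F v (-a) = 0 := perp_of_mem_pairPerp (Submodule.neg_mem _ ha)
    have hfix : spT v (-s + t + sympForm (k + 1) F a (-a)) • ω = ω := by
      rw [← eic_zero, ← neg_add_cancel a, ← eic_mul hna hva, mul_smul, ht, ← eic_inv hva,
        inv_smul_eq_iff, hs]
    have hmem := (mem_sFix v).2 hfix
    rw [hω, AddSubgroup.mem_bot, ← neg_one_smul F a, sympForm_smul_right, sympForm_self, mul_zero,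
      add_zero] at hmem
    linear_combination -hmem
  have hφadd : ∀ a b : pairPerp v v', φ (a + b) = φ a + φ b + sympForm (k + 1) F a b := by
    intro a b
    rw [← neg_eq_of_add_eq_zero_left (add_self_two hF (sympForm (k + 1) F a b)),
      ← sympForm_swap (a : Fin (k + 1) ⊕ Fin (k + 1) → F)]
    refine huniq ω₁ hω₁S _ (a + b).2 _ _ (hφ _) ?_
    rw [Submodule.coe_add, ← eic_mul (perp_of_mem_pairPerp a.2) (perp_of_mem_pairPerp b.2),
      mul_smul, hφ, hφ]
  let Y := {a : pairPerp v v' // φ a = 0}
  have hY : M * M - M ≤ 2 * Nat.card Y := by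
    have hg := gauss_sq φ (fun a b : pairPerp v v' => sympForm (k + 1) F a b) hF hφadd
      (fun x y z => by rw [Submodule.coe_add, sympForm_add_right]) (fun x hx => by
        obtain ⟨z, hz, hxz⟩ := pairPerp_nondeg h x.2 (fun e => hx (Subtype.ext e))
        exact ⟨⟨z, hz⟩, (eq_zero_or_one hF _).resolve_left hxz⟩)
    rw [sum_sgn2 φ hF, ← Nat.card_eq_fintype_card (α := pairPerp v v'), hW] at hg
    push_cast at hg
    have h1 : ((M : ℤ) * M) - M ≤ 2 * (Nat.card Y : ℤ) := by
      by_contra hc
      push Not at hc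
      nlinarith
    omega
  let _ : Fintype Y := Fintype.ofFinite Y
  set ℬ := imgFamily v v' (aFix v v' ω₀ : Set (Fin (k + 1) ⊕ Fin (k + 1) → F))
  let _ : Fintype ℬ := Fintype.ofFinite _
  choose g hg hgD using fun D : ℬ => D.2
  let w : Y ⊕ ℬ → Ω := fun x => match x with
    | .inl y => spT y.1.1 1 • ω₁
    | .inr D => g D • ω₀
  have hgy : ∀ y : Y, spT y.1.1 1 ∈ leviStab v v' := fun y => spT_mem_leviStab y.1.2 1
  have hWfix : ∀ g' ∈ leviStab v v', aFix v v' (g' • ω₁) = (pairPerp v v').toAddSubgroup := by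
    intro g' hg'
    refine le_antisymm (aFix_le v v' _) fun a ha => ?_
    have hmem : g'⁻¹.1 *ᵥ a ∈ aFix v v' ω₁ := by
      rw [hω₁A]; exact levi_mem_pairPerp (inv_mem hg') ha
    have := mem_aFix_smul hg' hmem
    rwa [sp_mulVec_inv] at this
  have hne₀ : ∀ D : ℬ, aFix v v' (g D • ω₀) ≠ (pairPerp v v').toAddSubgroup := by
    intro D e
    apply hω₀
    refine le_antisymm (aFix_le v v' _) fun a ha => ?_
    have hgl := wGroup_le v v' (hg D)
    refine (mem_aFix_smul_iff hgl).1 ?_
    rw [e]
    exact levi_mem_pairPerp hgl ha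
  have hdist : ∀ x y, SameRad v v' (w x) (w y) → x = y := by
    rintro (y | D) (z | E) hxy
    · simp only [w] at hxy
      have hS1 : ∀ y : Y, sFix v (spT y.1.1 1 • ω₁) = ⊥ := fun y => by rw [sFix_levi (hgy y), hω₁S]
      obtain ⟨b, hb, s, hbs⟩ := hxy
      refine congrArg Sum.inl (Subtype.ext (Subtype.ext (sub_eq_zero.1 (sympForm_nondeg fun x => ?_))))
      -- only the values on the complement matter
      suffices key : ∀ c ∈ pairPerp v v',
          sympForm (k + 1) F y.1.1 c = sympForm (k + 1) F z.1.1 c by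
        obtain ⟨h1, h2⟩ := mem_pairPerp.1 y.1.2
        obtain ⟨h3, h4⟩ := mem_pairPerp.1 z.1.2
        have := key (x + sympForm (k + 1) F v' x • v - sympForm (k + 1) F v x • v') (mem_pairPerp.2 (by
          simp [sympForm_add_right, sympForm_sub_right, sympForm_smul_right, sympForm_self,
            sympForm_swap v v', h]))
        simp only [sympForm_add_right, sympForm_sub_right, sympForm_smul_right, sympForm_swap v y.1.1,
          h1, sympForm_swap v' y.1.1, h2, sympForm_swap v z.1.1, h3, sympForm_swap v' z.1.1, h4,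
          mul_zero, neg_zero, sub_zero, add_zero] at this
        rw [sympForm_sub_left, this, sub_self]
      intro c hc
      have two : ∀ (y : Y) (c : Fin (k + 1) ⊕ Fin (k + 1) → F) (hc : c ∈ pairPerp v v'),
          eic v c (φ ⟨c, hc⟩ + sympForm (k + 1) F y.1.1 c) • (spT y.1.1 1 • ω₁) = spT y.1.1 1 • ω₁ := by
        intro y c hc
        set f := sympForm (k + 1) F c y.1.1
        have hd : c + f • y.1.1 ∈ pairPerp v v' :=
          Submodule.add_mem _ hc (Submodule.smul_mem _ _ y.1.2)
        have e : (spT y.1.1 1).1 *ᵥ (c + f • y.1.1) = c := by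
          rw [spT_apply, one_mul, sympForm_add_left, sympForm_smul_left, sympForm_self, mul_zero,
            add_zero, add_assoc, ← add_smul, add_self_two hF, zero_smul, add_zero]
        have hfy : sympForm (k + 1) F y.1.1 c = f := by
          rw [sympForm_swap c, ← neg_eq_of_add_eq_zero_left (add_self_two hF f)]
        have hval : φ ⟨_, hd⟩ = φ ⟨c, hc⟩ + f := by
          have : (⟨_, hd⟩ : pairPerp v v') = ⟨c, hc⟩ + f • y.1 := rfl
          rw [this, hφadd]
          rcases eq_zero_or_one hF f with hf | hf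
          · rw [hf, zero_smul, add_zero]
            have : φ 0 = 0 := by
              have := hφadd 0 0
              rw [add_zero, Submodule.coe_zero, sympForm_zero_left, add_zero] at this
              linear_combination -this
            simp [this]
          · rw [hf, one_smul, y.2]
            simpa using hf
        have := hφ ⟨_, hd⟩
        have e2 := eic_conj' (spT y.1.1 1) v (c + f • y.1.1) (φ ⟨_, hd⟩)
        rw [(hgy y).1, e] at e2
        rw [hfy, ← hval, ← mul_smul, ← e2, mul_smul, this]
      have hz2 := two z c hc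
      rw [← hbs, ← mul_smul] at hz2
      have hcb : ∀ t, eic v c t * eic v b s = eic v b s * eic v c t := fun t => by
        rw [eic_mul (perp_of_mem_pairPerp hc) (perp_of_mem_pairPerp hb),
          eic_mul (perp_of_mem_pairPerp hb) (perp_of_mem_pairPerp hc), add_comm c b,
          sympForm_swap b c]
        congr 1
        linear_combination (add_self_two hF (sympForm (k + 1) F b c))
      rw [hcb, mul_smul, smul_left_cancel_iff] at hz2
      exact add_left_cancel (huniq _ (hS1 y) c hc _ _ (two y c hc) hz2)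
    · exact absurd (hxy.aFix_eq.symm.trans (hWfix _ (hgy y))) (hne₀ E)
    · exact absurd (hxy.aFix_eq.trans (hWfix _ (hgy z))) (hne₀ D)
    · refine congrArg Sum.inr (Subtype.ext ?_)
      rw [← hgD D, ← hgD E, ← aFix_image (wGroup_le v v' (hg D)),
        ← aFix_image (wGroup_le v v' (hg E))]
      exact congrArg _ hxy.aFix_eq
  have hsum := sum_radOrbit_le (v := v) (v' := v') w hdist
  have hYsum : ∑ y : Y, aIndex v v' (w (.inl y)) * (sFix v (w (.inl y))).index = Nat.card Y * 2 := by
    have e1 : aIndex v v' ω₁ = 1 := by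
      have := card_aFix_mul_aIndex (v := v) (v' := v') ω₁
      rw [hω₁A] at this
      exact Nat.eq_of_mul_eq_mul_left Nat.card_pos (this.trans (mul_one _).symm)
    rw [Finset.sum_congr rfl (fun y _ => by
      show aIndex v v' (spT y.1.1 1 • ω₁) * (sFix v (spT y.1.1 1 • ω₁)).index = 2
      rw [aIndex_smul (hgy y), sFix_levi (hgy y), e1, hω₁S, AddSubgroup.index_bot, hq, one_mul]),
      Finset.sum_const, smul_eq_mul, Finset.card_univ, ← Nat.card_eq_fintype_card]
  have hBsum : ∑ D : ℬ, aIndex v v' (w (.inr D)) * (sFix v (w (.inr D))).index =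
      Nat.card ℬ * aIndex v v' ω₀ := by
    rw [Finset.sum_congr rfl (fun D _ => by
      show aIndex v v' (g D • ω₀) * (sFix v (g D • ω₀)).index = aIndex v v' ω₀
      rw [aIndex_smul (wGroup_le v v' (hg D)), sFix_levi (wGroup_le v v' (hg D)), hω₀S,
        AddSubgroup.index_top, mul_one]),
      Finset.sum_const, smul_eq_mul, Finset.card_univ, ← Nat.card_eq_fintype_card]
  rw [Fintype.sum_sum_type, hYsum, hBsum] at hsum
  -- the family of `ω₀` has at least `|W|` points
  set B := dualIn 2 v v' (aFix v v' ω₀)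
  have hidx : aIndex v v' ω₀ = Nat.card B := index_eq_card_dualIn 2 h _ (aFix_le v v' ω₀)
  have hB0 : B ≠ ⊥ := by
    intro e
    apply hω₀
    have hc := card_mul_card_dualIn 2 h _ (aFix_le v v' ω₀)
    rw [show dualIn 2 v v' (aFix v v' ω₀) = ⊥ from e, AddSubgroup.card_bot, mul_one] at hc
    exact AddSubgroup.eq_of_le_of_card_ge (aFix_le v v' ω₀) hc.ge
  have h1 : Nat.card (pairPerp v v') - 1 ≤
      Nat.card (imgFamily v v' (B : Set (Fin (k + 1) ⊕ Fin (k + 1) → F))) * (Nat.card B - 1) :=
    imgFamily_bound_one h B (dualIn_le 2 v v' _) hB0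
  have h2 : Nat.card (imgFamily v v' (B : Set (Fin (k + 1) ⊕ Fin (k + 1) → F))) ≤ Nat.card ℬ :=
    card_imgFamily_dualIn_le 2 (aFix v v' ω₀)
  have h3 : 1 ≤ Nat.card (imgFamily v v' (B : Set (Fin (k + 1) ⊕ Fin (k + 1) → F))) := by
    have : Nonempty (imgFamily v v' (B : Set (Fin (k + 1) ⊕ Fin (k + 1) → F))) :=
      ⟨⟨_, 1, one_mem _, rfl⟩⟩
    exact Nat.card_pos
  rw [hW] at h1
  rw [hidx] at hsum
  obtain ⟨b, hb⟩ : ∃ b, Nat.card B = b + 1 := ⟨Nat.card B - 1, by have := Nat.card_pos (α := B); omega⟩
  rw [hb] at h1 hsum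
  simp only [Nat.add_sub_cancel] at h1
  have h4 := Nat.mul_le_mul_right b h2
  rw [Nat.mul_add, mul_one] at hsum
  omega

end bound

section attained

variable {F : Type*} [Field F] [Fintype F] {m : ℕ}

/-- The stabilizer of a quadratic refinement of minus type is proper of index at most
`2^(m-1)(2^m - 1)`. -/
theorem exists_index_two (hF : Fintype.card F = 2) (hm : 2 ≤ m) :
    ∃ K : Subgroup (symplecticGroup (Fin m) F), K ≠ ⊤ ∧
      Subgroup.center (symplecticGroup (Fin m) F) ≤ K ∧
      K.index ≤ 2 ^ (m - 1) * (2 ^ m - 1) := by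
  classical
  let f := sympForm m F
  have hsym : ∀ x y, f y x = f x y := fun x y => by
    rw [show f y x = - f x y from sympForm_swap x y]
    exact neg_eq_of_add_eq_zero_left (add_self_two hF _)
  let h₀ : (Fin m ⊕ Fin m → F) → F := fun x => ∑ i, x (Sum.inl i) * x (Sum.inr i)
  have hh₀ : ∀ x y, h₀ (x + y) = h₀ x + h₀ y + f x y := by
    intro x y
    simp only [h₀, f, sympForm_eq, ← Finset.sum_add_distrib, Pi.add_apply]
    refine Finset.sum_congr rfl fun i _ => ?_
    linear_combination (x (Sum.inl i) * y (Sum.inr i)) * add_self_two hF (1 : F)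
  have hnd : ∀ x : Fin m ⊕ Fin m → F, x ≠ 0 → ∃ y, f x y = 1 := fun x hx => by
    obtain ⟨y, hy⟩ := exists_sympForm_ne_zero hx
    exact ⟨y, (eq_zero_or_one hF _).resolve_left hy⟩
  set n := 2 ^ m
  have hV : Fintype.card (Fin m ⊕ Fin m → F) = n * n := by
    simp [hF, n, pow_add]
  have shift : ∀ (h : (Fin m ⊕ Fin m → F) → F), (∀ x y, h (x + y) = h x + h y + f x y) → ∀ y,
      ∑ x, sgn2 (h x + f x y) = sgn2 (h y) * ∑ x, sgn2 (h x) := by
    intro h hh y
    have hh1 : sgn2 (h y) * sgn2 (h y) = 1 := by rw [← sgn2_add hF, add_self_two hF]; simp [sgn2]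
    have e := Fintype.sum_equiv (Equiv.addRight y) (fun z => sgn2 (h (z + y))) (fun z => sgn2 (h z))
        (fun z => rfl)
    have e2 : ∑ z, sgn2 (h (z + y)) = sgn2 (h y) * ∑ z, sgn2 (h z + f z y) := by
      rw [Finset.mul_sum]
      refine Finset.sum_congr rfl fun z _ => ?_
      rw [hh, ← sgn2_add hF]
      congr 1
      ring
    rw [← e, e2, ← mul_assoc, hh1, one_mul]
  obtain ⟨h, hh, hG⟩ : ∃ h : (Fin m ⊕ Fin m → F) → F, (∀ x y, h (x + y) = h x + h y + f x y) ∧
      ∑ x, sgn2 (h x) = -(n : ℤ) := by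
    have hg := gauss_sq h₀ f hF hh₀ sympForm_add_right hnd
    rw [hV] at hg
    push_cast at hg
    rcases mul_self_eq_mul_self_iff.1 hg with hp | hn
    · set i : Fin m := ⟨0, by omega⟩
      set y : Fin m ⊕ Fin m → F := Pi.single (Sum.inl i) 1 + Pi.single (Sum.inr i) 1
      refine ⟨fun x => h₀ x + f x y, fun a b => ?_, ?_⟩
      · simp only [hh₀, show f (a + b) y = f a y + f b y from sympForm_add_left a b y]; ring
      · have hy : h₀ y = 1 := by
          simp only [h₀, y]
          rw [Finset.sum_eq_single i] <;> simp +contextual [Pi.single_apply]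
        rw [shift h₀ hh₀ y, hy, hp]
        simp [sgn2]
    · exact ⟨h₀, hh₀, hn⟩
  let K : Subgroup (symplecticGroup (Fin m) F) :=
    { carrier := {g | ∀ x, h (g.1 *ᵥ x) = h x}
      mul_mem' := fun {a b} ha hb x => by rw [Submonoid.coe_mul, ← mulVec_mulVec, ha, hb]
      one_mem' := fun x => by simp
      inv_mem' := fun {a} ha x => by rw [← ha, sp_mulVec_inv] }
  have hh0 : h 0 = 0 := by
    have := hh 0 0
    rw [add_zero, show f 0 0 = 0 from sympForm_zero_left 0, add_zero] at this
    linear_combination -this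
  refine ⟨K, ?_, ?_, ?_⟩
  · intro hK
    have all0 : ∀ x ≠ (0 : Fin m ⊕ Fin m → F), ∀ y, h x = 1 → y ≠ 0 → h y = 1 := by
      intro x hx y h1 hy
      obtain ⟨g, -, hg⟩ := exists_sp_move hx hy
      rw [← hg, (hK ▸ Subgroup.mem_top g : g ∈ K) x, h1]
    have h4n : 4 ≤ n := le_trans (by norm_num) (Nat.pow_le_pow_right (by norm_num) hm)
    obtain ⟨x, hx⟩ : ∃ x, h x = 1 := by
      by_contra hc
      push Not at hc
      have hz : ∀ x, h x = 0 := fun x => (eq_zero_or_one hF _).resolve_right (hc x)
      have hS := sum_sgn2 h hF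
      rw [hG, hV, Nat.card_congr (Equiv.subtypeUnivEquiv hz), Nat.card_eq_fintype_card, hV] at hS
      push_cast at hS
      nlinarith
    have hx0 : x ≠ 0 := fun e => by simp [e, hh0] at hx
    have hcard : Nat.card {y // h y = 0} = 1 := by
      refine Nat.card_eq_one_iff_unique.2 ⟨⟨fun a b => Subtype.ext ?_⟩, ⟨⟨0, hh0⟩⟩⟩
      have hall : ∀ a : {y // h y = 0}, a.1 = 0 := fun a => by
        by_contra ha
        exact one_ne_zero ((all0 x hx0 _ hx ha).symm.trans a.2)
      rw [hall a, hall b]
    have hS := sum_sgn2 h hF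
    rw [hG, hV, hcard] at hS
    push_cast at hS
    nlinarith
  · intro g hg x
    rcases (mem_center_sp_iff g).1 hg with rfl | rfl
    · simp
    · rw [spNegOne_apply]
      congr 1
      funext j
      exact neg_eq_of_add_eq_zero_left (add_self_two hF _)
  · have hlin : ∀ g : symplecticGroup (Fin m) F,
        ∃ y, h y = 0 ∧ ∀ x, h (g⁻¹.1 *ᵥ x) = h x + f x y := by
      intro g
      let δ : (Fin m ⊕ Fin m → F) →ₗ[F] F :=
        { toFun := fun x => h (g⁻¹.1 *ᵥ x) + h x
          map_add' := fun a b => by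
            have e : f (g⁻¹.1 *ᵥ a) (g⁻¹.1 *ᵥ b) = f a b := sp_form g⁻¹ a b
            rw [mulVec_add, hh, hh, e]
            linear_combination add_self_two hF (f a b)
          map_smul' := fun c a => by
            rcases eq_zero_or_one hF c with rfl | rfl
            · simp [hh0]
            · simp }
      obtain ⟨y, hy⟩ : ∃ y, (spBilin m F) y = δ :=
        ⟨((spBilin m F).toDual spBilin_nondegenerate).symm δ, LinearMap.ext fun x =>
          LinearMap.BilinForm.apply_toDual_symm_apply _ _⟩
      have hval : ∀ x, h (g⁻¹.1 *ᵥ x) = h x + f x y := fun x => by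
        have e : f y x = h (g⁻¹.1 *ᵥ x) + h x := by
          have := LinearMap.congr_fun hy x
          rwa [spBilin_apply] at this
        rw [← hsym x y, e]
        linear_combination -(add_self_two hF (h x))
      refine ⟨y, ?_, hval⟩
      have e1 : ∑ x, sgn2 (h x + f x y) = ∑ x, sgn2 (h x) :=
        Fintype.sum_equiv
          ⟨fun x => g⁻¹.1 *ᵥ x, fun x => g.1 *ᵥ x, fun x => sp_mulVec_inv g x, fun x => sp_inv_mulVec g x⟩
          _ _ fun x => by rw [← hval]; rfl
      rw [shift h hh, hG] at e1
      rcases eq_zero_or_one hF (h y) with hy0 | hy1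
      · exact hy0
      · simp [hy1, sgn2, n] at e1
        have : (0 : ℤ) < 2 ^ m := by positivity
        omega
    choose y hy0 hy using hlin
    have hcount : 2 * (Nat.card {x // h x = 0} : ℤ) = (n : ℤ) * n - n := by
      have := sum_sgn2 h hF
      rw [hG, hV] at this
      push_cast at this
      linarith
    have hle : K.index ≤ Nat.card {x // h x = 0} := by
      rw [Subgroup.index]
      refine Nat.card_le_card_of_injective (fun c : symplecticGroup (Fin m) F ⧸ K =>
        (⟨y c.out, hy0 _⟩ : {x // h x = 0})) fun c d e => ?_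
      have e : y c.out = y d.out := congrArg Subtype.val e
      rw [← QuotientGroup.out_eq' c, ← QuotientGroup.out_eq' d, QuotientGroup.eq]
      intro x
      have := hy c.out (d.out.1 *ᵥ x)
      rw [e, ← hy, sp_inv_mulVec] at this
      rw [Submonoid.coe_mul, ← mulVec_mulVec, this]
    obtain ⟨k, rfl⟩ : ∃ k, m = k + 1 := ⟨m - 1, by omega⟩
    refine hle.trans ?_
    rw [Nat.add_sub_cancel, Nat.mul_sub, mul_one]
    have hn : n = 2 * 2 ^ k := by rw [show n = 2 ^ (k + 1) from rfl, pow_succ, mul_comm]
    rw [hn] at hcount ⊢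
    push_cast at hcount
    have h5 : 2 ^ k ≤ 2 ^ k * (2 * 2 ^ k) :=
      Nat.le_mul_of_pos_right _ (Nat.mul_pos two_pos (pow_pos two_pos k))
    zify [h5]
    nlinarith

end attained

end CfsgLib.SpMinIndex
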